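/-
Helper library (helper20): Bender–Glauberman Theorem 14.4, part 1.
The situation `x ∈ M_σ#`, `Y ≤ ⟨x⟩` of prime order `q`, `L` maximal over `N_G(Y)`, `L ≠ M`.
S1378 (BG 13.9) enters as the explicit hypothesis `H1378`.
-/
import Cfsg.Agent.Lib.Helper10.BG124b
import Cfsg.Agent.Lib.Helper34.BG16b
import Cfsg.Agent.S1404
import Cfsg.Agent.S1409
import Cfsg.Agent.S1416
import Cfsg.Agent.S1417
import Cfsg.Agent.S1418
import Cfsg.Agent.S1420
import Cfsg.Agent.S1424

set_option autoImplicit false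
set_option linter.unusedSimpArgs false
set_option linter.unusedVariables false
set_option linter.style.haveILetI false
set_option linter.unusedSectionVars false

namespace Cfsg.Agent.Lib.Helper20.BG14

open Subgroup Cfsg
open Cfsg.Agent.Lib
open Cfsg.Agent.Lib.Helper24 Cfsg.Agent.Lib.Helper34 Cfsg.Agent.Lib.Helper31.BG11
open Cfsg.Agent.Lib.Helper34.BG13 Cfsg.Agent.Lib.Helper34.BG16 Cfsg.Agent.Lib.Helper10.BG124

universe u

variable {G : Type u} [Group G] [Finite G]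

/-- The second half of S1378 (BG 13.9). -/
def H1378 (G : Type u) [Group G] : Prop :=
  ∀ M N : Subgroup G, IsCoatom M → IsCoatom N → (sigma M ∩ sigma N).Nonempty →
    ∃ g : G, N = cj g M

theorem not_isCyclic_of_elemAb {q : ℕ} [hq : Fact q.Prime] {A : Subgroup G}
    (hA : IsElementaryAbelian q A) (hAc : Nat.card A = q ^ 2) : ¬ IsCyclic A := by
  intro hc
  obtain ⟨g, hg⟩ := hc.exists_generator
  have h1 : orderOf g = q ^ 2 := by
    rw [orderOf_eq_card_of_forall_mem_zpowers hg, hAc]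
  have h2 : g ^ q = 1 := by
    apply Subtype.ext
    simpa using hA.2 g.1 g.2
  have h3 : q ^ 2 ∣ q := h1 ▸ orderOf_dvd_of_pow_eq_one h2
  have h4 := Nat.le_of_dvd hq.out.pos h3
  have h5 := hq.out.two_le
  nlinarith

theorem isPGroup_of_elemAb {q : ℕ} {A : Subgroup G} (hA : IsElementaryAbelian q A) :
    IsPGroup q A := isPGroup_of_exponent hA.2

/-- (EC3) -/
theorem ec3 (hG : IsMinSimpleOddOrder G) {M H A : Subgroup G} (hM : IsCoatom M)
    (hH : IsCoatom H) {q : ℕ} [hq : Fact q.Prime] (hqM : q ∈ sigma M) (hqH : q ∈ tau2 H)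
    (hAM : A ≤ M) (hAH : A ≤ H) (hA : IsElementaryAbelian q A) (hAc : Nat.card A = q ^ 2) :
    IsComplIn (M ⊓ H) (sigmaCore H) H := by
  have hU := ut hG
  have hne : M ≠ H := by
    rintro rfl
    exact hqH.2.1 hqM
  have h17 := (Cfsg.Agent.S1417.result hG H hH q hqH A ⟨hAH, hA, hAc⟩).2.2.2.2.1 M hM hne hAM
  obtain ⟨E, hE, hAE⟩ := exists_compl_ge hG hU hH hAH (by
    intro r hr hd
    rw [hAc] at hd
    have : r = q := (Nat.prime_dvd_prime_iff_eq hr hq.out).mp (hr.dvd_of_dvd_pow hd)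
    rw [this]
    exact hqH.2.1)
  have h18 := (Cfsg.Agent.S1418.result hG H hH E hE q hqH A ⟨hAE, hA, hAc⟩).2.1.2.1
  obtain ⟨EM, hEM⟩ := exists_compl hG hU hM
  have h20 := (Cfsg.Agent.S1420.result hG M hM EM hEM).2.2.1 q A hqM (isPGroup_of_elemAb hA) hAM
    (not_isCyclic_of_elemAb hA hAc)
  have hEle : E ≤ M ⊓ H := by
    rw [← h18]
    exact le_inf (inf_le_right.trans h20) inf_le_left
  refine ⟨inf_le_right, sc_le H, ?_, ?_⟩
  · rw [eq_bot_iff, ← h17]
    exact le_inf inf_le_right (inf_le_left.trans inf_le_left)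
  · intro m hm
    obtain ⟨a, ha, b, hb, rfl⟩ := hE.2.2.2 m hm
    exact ⟨a, hEle ha, b, hb, rfl⟩

/-- The basic situation of BG 14.4. -/
structure Sit (M L : Subgroup G) (q : ℕ) : Prop where
  nconj : ∀ g, L ≠ cj g M
  tau : q ∈ tau2 L
  compl : IsComplIn (M ⊓ L) (sigmaCore L) L
  exA : ∃ A, A ≤ M ⊓ L ∧ IsElementaryAbelian q A ∧ Nat.card A = q ^ 2

theorem sit0 (hG : IsMinSimpleOddOrder G) (h78 : H1378 G) {M L Y : Subgroup G} (hM : IsCoatom M)
    (hL : IsCoatom L) {q : ℕ} [hq : Fact q.Prime] (hqM : q ∈ sigma M) (hYc : Nat.card Y = q)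
    (hYM : Y ≤ M) (hNL : normalizer (Y : Set G) ≤ L) (hne : L ≠ M) : Sit M L q := by
  have hU := ut hG
  have hYq : IsPGroup q Y := IsPGroup.of_card (n := 1) (by rw [hYc, pow_one])
  have hY1 : Y ≠ ⊥ := by
    rintro rfl
    rw [Subgroup.card_bot] at hYc
    exact hq.out.one_lt.ne hYc
  have hYL : Y ≤ L := le_normalizer.trans hNL
  obtain ⟨S, hS, hYS⟩ := exists_isSylowIn_ge (le_inf hYM hYL) hYq
  have hSmap : ((hS.toSylow : Subgroup ↥(M ⊓ L)).map (M ⊓ L).subtype) = S := by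
    rw [hS.coe_toSylow, Subgroup.subgroupOf_map_subtype, inf_eq_left.2 hS.1]
  have h24 := Cfsg.Agent.S1424.result hG M hM q hqM Y hYq hY1 hYM L hL hne hNL hS.toSylow
    (by rw [hSmap]; exact hYS)
  rw [hSmap] at h24
  have hqL : q ∉ sigma L := by
    intro h
    obtain ⟨g, hg⟩ := h78 M L hM hL ⟨q, hqM, h⟩
    exact h24.1 g hg
  have h09 := (Cfsg.Agent.S1409.result hG L hL q hqL Y hYc hNL).1
  have htau : q ∈ tau2 L := ⟨hq.out, hqL, h09.1, h09.2⟩
  have hSL : IsSylowIn q S L := ⟨hS.1.trans inf_le_right, hS.2.1, h24.2.2⟩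
  obtain ⟨F, hFL, hFc, hFe, hFcard⟩ := exists_of_not_pRankLE h09.2
  have hFle : Nat.card F ≤ q ^ 2 := (pRankLE_iff L).mp h09.1 F hFL hFc hFe
  have hFq : IsPGroup q F := isPGroup_of_exponent hFe
  have hFcard2 : Nat.card F = q ^ 2 := by
    obtain ⟨n, hn⟩ := IsPGroup.iff_card.mp hFq
    rw [hn] at hFcard hFle ⊢
    have h1 : 1 < n := (Nat.pow_lt_pow_iff_right hq.out.one_lt).mp hFcard
    have h2 : n ≤ 2 := (Nat.pow_le_pow_iff_right hq.out.one_lt).mp hFle
    have : n = 2 := by omega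
    rw [this]
  obtain ⟨m, hm, hmF⟩ := hSL.exists_conj_le hFL hFq
  have hA : IsElementaryAbelian q (cj m F) := by
    refine ⟨?_, ?_⟩
    · constructor
      constructor
      rintro ⟨a, ha⟩ ⟨b, hb⟩
      obtain ⟨a', ha', rfl⟩ := ha
      obtain ⟨b', hb', rfl⟩ := hb
      apply Subtype.ext
      have hab : a' * b' = b' * a' := by
        have := hFc.is_comm.comm ⟨a', ha'⟩ ⟨b', hb'⟩
        exact congrArg Subtype.val this
      show (MulAut.conj m).toMonoidHom a' * (MulAut.conj m).toMonoidHom b'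
        = (MulAut.conj m).toMonoidHom b' * (MulAut.conj m).toMonoidHom a'
      rw [← map_mul, ← map_mul, hab]
    · rintro a ⟨a', ha', rfl⟩
      rw [← map_pow, hFe a' ha', map_one]
  have hAc : Nat.card (cj m F) = q ^ 2 := by rw [card_map_conj, hFcard2]
  have hAle : cj m F ≤ M ⊓ L := hmF.trans hS.1
  exact ⟨h24.1, htau, ec3 hG hM hL hqM htau (hAle.trans inf_le_left) (hAle.trans inf_le_right) hA hAc,
    ⟨_, hAle, hA, hAc⟩⟩

end Cfsg.Agent.Lib.Helper20.BG14
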