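/-
Helper library (helper20): Bender–Glauberman Theorem 14.4, part 2:
the structure of `C_G(x)` and the regular action of `R = C_{L_σ}(x)`.
-/
import Cfsg.Agent.Lib.Helper20.BG144a

set_option autoImplicit false
set_option linter.unusedSimpArgs false
set_option linter.unusedVariables false
set_option linter.style.haveILetI false
set_option linter.unusedSectionVars false

namespace Cfsg.Agent.Lib.Helper20.BG14

open Subgroup Cfsg
open Cfsg.Agent.Lib
open Cfsg.Agent.Lib.Helper24 Cfsg.Agent.Lib.Helper34 Cfsg.Agent.Lib.Helper31.BG11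
open Cfsg.Agent.Lib.Helper34.BG13 Cfsg.Agent.Lib.Helper34.BG16 Cfsg.Agent.Lib.Helper10.BG124

universe u

variable {G : Type u} [Group G] [Finite G]

theorem mem_centralizer_singleton {x c : G} : c ∈ centralizer ({x} : Set G) ↔ x * c = c * x := by
  rw [mem_centralizer_iff]
  simp

/-- general: complement `E` of a normal subgroup `N` of `L`, `x ∈ E`: `C_L(x) = C_E(x) C_N(x)`. -/
theorem compl_centralizer {E N L : Subgroup G} (hE : IsComplIn E N L)
    (hn : L ≤ normalizer (N : Set G)) {x : G} (hx : x ∈ E) {c : G} (hc : c ∈ L)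
    (hcx : x * c = c * x) : ∃ a ∈ E, ∃ b ∈ N, c = a * b ∧ x * a = a * x ∧ x * b = b * x := by
  obtain ⟨a, ha, b, hb, rfl⟩ := hE.2.2.2 c hc
  have hxL : x ∈ L := hE.1 hx
  have h1 : a⁻¹ * (x * a * x⁻¹) ∈ E := E.mul_mem (E.inv_mem ha) (E.mul_mem (E.mul_mem hx ha) (E.inv_mem hx))
  have h2 : x * b * x⁻¹ ∈ N := (mem_normalizer_iff.mp (hn hxL) b).mp hb
  have h3 : a⁻¹ * (x * a * x⁻¹) = b * (x * b * x⁻¹)⁻¹ := by
    have : x * a * x⁻¹ * (x * b * x⁻¹) = a * b := by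
      have : x * a * x⁻¹ * (x * b * x⁻¹) = x * (a * b) * x⁻¹ := by group
      rw [this, hcx]; group
    rw [eq_mul_inv_iff_mul_eq, mul_assoc, this]; group
  have h4 : a⁻¹ * (x * a * x⁻¹) ∈ E ⊓ N := ⟨h1, h3 ▸ N.mul_mem hb (N.inv_mem h2)⟩
  rw [hE.2.2.1, mem_bot] at h4
  have h5 : x * a = a * x := by
    have : x * a * x⁻¹ = a := by
      have := congrArg (a * ·) h4
      simpa using this
    calc x * a = x * a * x⁻¹ * x := by group
      _ = a * x := by rw [this]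
  refine ⟨a, ha, b, hb, rfl, h5, ?_⟩
  have : a * (x * b) = a * (b * x) := by
    rw [← mul_assoc, ← h5, mul_assoc, ← mul_assoc a b x, ← hcx]
  exact mul_left_cancel this

theorem sc_compl_coprime (hG : IsMinSimpleOddOrder G) {L E : Subgroup G} (hL : IsCoatom L)
    (hE : IsComplIn E (sigmaCore L) L) : (Nat.card E).Coprime (Nat.card (sigmaCore L)) := by
  apply Nat.Coprime.symm
  apply Nat.coprime_of_dvd
  intro p hp h1 h2
  exact compl_not_sigma hG (ut hG) hL hE hp h2 (sc_primes L hp h1)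

section cent

variable {M L : Subgroup G} {x : G}

theorem cent_normalizes (hcL : centralizer ({x} : Set G) ≤ L) :
    centralizer ({x} : Set G) ≤
      normalizer ((sigmaCore L ⊓ centralizer ({x} : Set G) : Subgroup G) : Set G) := by
  intro c hc
  rw [mem_normalizer_iff]
  intro y
  have h1 := mem_normalizer_iff.mp (sc_norm L (hcL hc)) y
  have h2 : y ∈ centralizer ({x} : Set G) ↔ c * y * c⁻¹ ∈ centralizer ({x} : Set G) := by
    constructor
    · intro hy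
      exact mul_mem (mul_mem hc hy) (inv_mem hc)
    · intro hy
      have := mul_mem (mul_mem (inv_mem hc) hy) hc
      simpa [mul_assoc] using this
  rw [mem_inf, mem_inf, h1, h2]

theorem cent_compl (hE : IsComplIn (M ⊓ L) (sigmaCore L) L) (hxM : x ∈ M)
    (hcL : centralizer ({x} : Set G) ≤ L) :
    IsComplIn (M ⊓ centralizer ({x} : Set G)) (sigmaCore L ⊓ centralizer ({x} : Set G))
      (centralizer ({x} : Set G)) := by
  have hxL : x ∈ L := hcL (mem_centralizer_singleton.mpr rfl)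
  refine ⟨inf_le_right, inf_le_right, ?_, ?_⟩
  · rw [eq_bot_iff, ← hE.2.2.1]
    intro y hy
    exact ⟨⟨hy.1.1, hcL hy.1.2⟩, hy.2.1⟩
  · intro c hc
    obtain ⟨a, ha, b, hb, rfl, hxa, hxb⟩ := compl_centralizer hE (sc_norm L) ⟨hxM, hxL⟩ (hcL hc)
      (mem_centralizer_singleton.mp hc)
    exact ⟨a, ⟨ha.1, mem_centralizer_singleton.mpr hxa⟩, b,
      ⟨hb, mem_centralizer_singleton.mpr hxb⟩, rfl⟩

theorem cent_coprime (hG : IsMinSimpleOddOrder G) (hL : IsCoatom L)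
    (hE : IsComplIn (M ⊓ L) (sigmaCore L) L) (hxM : x ∈ M)
    (hcL : centralizer ({x} : Set G) ≤ L) :
    (Nat.card ↥(M ⊓ centralizer ({x} : Set G))).Coprime
      ((M ⊓ centralizer ({x} : Set G)).relIndex (centralizer ({x} : Set G))) := by
  rw [Helper23.complIn_relIndex_left (cent_compl hE hxM hcL)]
  have h := sc_compl_coprime hG hL hE
  refine Nat.Coprime.of_dvd ?_ ?_ h
  · exact Subgroup.card_dvd_of_le (inf_le_inf_left M hcL)
  · exact Subgroup.card_dvd_of_le inf_le_left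

end cent

/-- TRANS -/
theorem trans_exists (hG : IsMinSimpleOddOrder G) (h78 : H1378 G) {M L Y : Subgroup G}
    (hM : IsCoatom M) (hL : IsCoatom L) {q : ℕ} [hq : Fact q.Prime] (hqM : q ∈ sigma M)
    (hYc : Nat.card Y = q) {x : G} (hYx : Y ≤ zpowers x) (hxM : x ∈ M)
    (hNL : normalizer (Y : Set G) ≤ L) (hne : L ≠ M) (hxL : x ∈ L) {g : G}
    (hxg : x ∈ cj g M) :
    ∃ r ∈ sigmaCore L ⊓ centralizer ({x} : Set G), cj r M = cj g M := by
  have hU := ut hG
  have hYM : Y ≤ M := hYx.trans (zpowers_le.mpr hxM)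
  have hs := sit0 hG h78 hM hL hqM hYc hYM hNL hne
  have hM1 : IsCoatom (cj g M) := isCoatom_cj hM g
  have hs1 := sit0 hG h78 hM1 hL ((sigma_cj_iff g).mpr hqM) hYc (hYx.trans (zpowers_le.mpr hxg)) hNL
    (hs.nconj g)
  obtain ⟨A, hAle, hA, hAc⟩ := hs.exA
  have hLsolv : Group.IsSolvable (sigmaCore L) := by
    apply MS_solvable hG
    intro h
    exact hL.1 (top_le_iff.mp (h ▸ sc_le L))
  obtain ⟨n, hn, hle⟩ := Helper1.sz_dominance_rel (sigmaCore L) (cj g M ⊓ L) (M ⊓ L)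
    (inf_le_right.trans (sc_norm L)) (sc_compl_coprime hG hL hs1.compl) (Or.inr hLsolv)
    (by
      intro y hy
      obtain ⟨a, ha, b, hb, rfl⟩ := hs1.compl.2.2.2 y hy.2
      exact mul_mem (mem_sup_left ha) (mem_sup_right hb))
    (sc_compl_coprime hG hL hs.compl)
  have hle' : ∀ y ∈ M ⊓ L, n⁻¹ * y * n ∈ cj g M ⊓ L := by
    intro y hy
    have := hle hy
    rw [Subgroup.mem_pointwise_smul_iff_inv_smul_mem] at this
    simpa [MulAut.smul_def, MulAut.conj_apply, mul_assoc] using this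
  have hnL : n ∈ L := sc_le L hn
  refine ⟨n⁻¹, mem_inf.mpr ⟨inv_mem hn, ?_⟩, ?_⟩
  · -- `n⁻¹` centralizes `x`
    have h1 : n⁻¹ * x * n ∈ cj g M ⊓ L := hle' x ⟨hxM, hxL⟩
    have h2 : n⁻¹ * x * n * x⁻¹ ∈ cj g M ⊓ L := mul_mem h1 (inv_mem ⟨hxg, hxL⟩)
    have h3 : x * n * x⁻¹ ∈ sigmaCore L := (mem_normalizer_iff.mp (sc_norm L hxL) n).mp hn
    have h4 : n⁻¹ * x * n * x⁻¹ ∈ sigmaCore L := by
      have : n⁻¹ * x * n * x⁻¹ = n⁻¹ * (x * n * x⁻¹) := by group
      rw [this]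
      exact mul_mem (inv_mem hn) h3
    have h5 : n⁻¹ * x * n * x⁻¹ ∈ (cj g M ⊓ L) ⊓ sigmaCore L := ⟨h2, h4⟩
    rw [hs1.compl.2.2.1, mem_bot] at h5
    rw [mem_centralizer_singleton]
    have : n⁻¹ * x * n = x := by
      have := congrArg (· * x) h5
      simpa using this
    calc x * n⁻¹ = (n⁻¹ * x * n) * n⁻¹ := by rw [this]
      _ = n⁻¹ * x := by group
  · -- `cj n⁻¹ M = cj g M`
    have h1 : cj (g⁻¹ * n⁻¹) A ≤ M := by
      rintro _ ⟨a, ha, rfl⟩
      have h2 : n⁻¹ * a * n ∈ cj g M := (mem_inf.mp (hle' a (hAle ha))).1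
      rw [mem_map_conj] at h2
      simpa [MulAut.conj_apply, mul_assoc] using h2
    have hA1 : A ≠ ⊥ := by
      rintro rfl
      rw [Subgroup.card_bot] at hAc
      have := hq.out.two_le
      nlinarith
    obtain ⟨m, hm, c, hc, hmc⟩ := (Cfsg.Agent.S1404.result hG M hM q hqM A (isPGroup_of_elemAb hA) hA1
      (hAle.trans inf_le_left)).1 (g⁻¹ * n⁻¹) h1
    have hcM : c ∈ M := (Cfsg.Agent.S1416.result hG M hM q A ⟨hAle.trans inf_le_left, hA, hAc⟩).1 hc
    have h2 : g⁻¹ * n⁻¹ ∈ M := hmc ▸ mul_mem hm hcM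
    have h3 : cj (g⁻¹ * n⁻¹) M = M := map_conj_eq_self_of_mem h2
    have h4 : cj g (cj (g⁻¹ * n⁻¹) M) = cj n⁻¹ M := by
      rw [cj_cj]; congr 1; group
    rw [← h4, h3]

theorem trans_unique (hG : IsMinSimpleOddOrder G) {M L : Subgroup G} (hM : IsCoatom M)
    (hE : IsComplIn (M ⊓ L) (sigmaCore L) L) {r r' : G} (hr : r ∈ sigmaCore L)
    (hr' : r' ∈ sigmaCore L) (h : cj r M = cj r' M) : r = r' := by
  have h1 : cj (r'⁻¹ * r) M = M := by
    rw [← cj_cj, h, cj_inv_cj]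
  have h2 : r'⁻¹ * r ∈ M := MS_mem_of_cj_eq hG hM h1
  have h3 : r'⁻¹ * r ∈ sigmaCore L := mul_mem (inv_mem hr') hr
  have h4 : r'⁻¹ * r ∈ (M ⊓ L) ⊓ sigmaCore L := ⟨⟨h2, sc_le L h3⟩, h3⟩
  rw [hE.2.2.1, mem_bot] at h4
  exact (inv_mul_eq_one.mp h4).symm

end Cfsg.Agent.Lib.Helper20.BG14
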