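/-
Helper library (helper20): Bender–Glauberman Theorem 14.4, part 3: S1374 from `H1378`.
-/
import Cfsg.Agent.Lib.Helper20.BG144b

set_option autoImplicit false
set_option linter.unusedSimpArgs false
set_option linter.unusedVariables false
set_option linter.style.haveILetI false
set_option linter.unusedSectionVars false

namespace Cfsg.Agent.Lib.Helper20.BG14

open Subgroup Cfsg
open Cfsg.Agent.Lib
open Cfsg.Agent.Lib.Helper24 Cfsg.Agent.Lib.Helper34 Cfsg.Agent.Lib.Helper31.BG11
open Cfsg.Agent.Lib.Helper34.BG13 Cfsg.Agent.Lib.Helper34.BG16 Cfsg.Agent.Lib.Helper10.BG124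

universe u

variable {G : Type u} [Group G] [Finite G]

/-- the subgroup of order `q` of `⟨x⟩`. -/
theorem exists_prime_sub {x : G} {q : ℕ} (hq : q.Prime) (hd : q ∣ orderOf x) :
    ∃ Y : Subgroup G, Nat.card Y = q ∧ Y ≤ zpowers x ∧
      centralizer ({x} : Set G) ≤ centralizer (Y : Set G) := by
  obtain ⟨k, hk⟩ := hd
  have hpos : 0 < orderOf x := orderOf_pos x
  have hk0 : k ≠ 0 := by
    rintro rfl
    rw [mul_zero] at hk
    omega
  refine ⟨zpowers (x ^ k), ?_, ?_, ?_⟩
  · rw [Nat.card_zpowers, orderOf_pow_of_dvd hk0 ⟨q, by rw [hk, mul_comm]⟩, hk]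
    exact Nat.mul_div_cancel _ (Nat.pos_of_ne_zero hk0)
  · exact zpowers_le.mpr (pow_mem (mem_zpowers x) k)
  · intro c hc
    rw [mem_centralizer_iff]
    intro y hy
    have hy' : y ∈ zpowers x := (zpowers_le.mpr (pow_mem (mem_zpowers x) k) : zpowers (x ^ k) ≤ _) hy
    obtain ⟨n, rfl⟩ := hy'
    have hcx : Commute x c := mem_centralizer_singleton.mp hc
    exact (hcx.zpow_left n)

theorem prime_mem_sigma {M : Subgroup G} {x : G} (hx : x ∈ sigmaCore M) {q : ℕ} (hq : q.Prime)
    (hd : q ∣ orderOf x) : q ∈ sigma M := by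
  apply sc_primes M hq
  have : orderOf (⟨x, hx⟩ : sigmaCore M) = orderOf x := Subgroup.orderOf_mk x hx
  rw [← this] at hd
  exact hd.trans (orderOf_dvd_natCard _)

theorem card_prime_ne_bot {Y : Subgroup G} {q : ℕ} (hq : q.Prime) (hYc : Nat.card Y = q) :
    Y ≠ ⊥ := by
  rintro rfl
  rw [Subgroup.card_bot] at hYc
  exact hq.one_lt.ne hYc

theorem card_prime_ne_top (hG : IsMinSimpleOddOrder G) {Y : Subgroup G} {q : ℕ} (hq : q.Prime)
    (hYc : Nat.card Y = q) : Y ≠ ⊤ := by
  haveI : Fact q.Prime := ⟨hq⟩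
  exact MS_isPGroup_ne_top hG (IsPGroup.of_card (n := 1) (by rw [hYc, pow_one]))

theorem exists_coatom_normalizer (hG : IsMinSimpleOddOrder G) {Y : Subgroup G} {q : ℕ}
    (hq : q.Prime) (hYc : Nat.card Y = q) : ∃ L, IsCoatom L ∧ normalizer (Y : Set G) ≤ L :=
  exists_coatom_ge (MS_normalizer_ne_top hG (card_prime_ne_bot hq hYc) (card_prime_ne_top hG hq hYc))

theorem centralizer_le_normalizer' (Y : Subgroup G) :
    centralizer (Y : Set G) ≤ normalizer (Y : Set G) := by
  intro c hc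
  rw [mem_normalizer_iff]
  intro y
  constructor
  · intro hy
    have : c * y * c⁻¹ = y := by
      rw [← (mem_centralizer_iff.mp hc y hy)]; group
    rwa [this]
  · intro hy
    have h1 := mem_centralizer_iff.mp hc _ hy
    have : y = c * y * c⁻¹ := by
      have h2 : c * y * c⁻¹ * c = c * (c * y * c⁻¹) := h1
      have h3 : c * y = c * (c * y * c⁻¹) := by simpa [mul_assoc] using h2
      exact mul_left_cancel h3
    rwa [this]

theorem s1374 (hG : IsMinSimpleOddOrder G) (h78 : H1378 G)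
    (M : Subgroup G) (hM : IsCoatom M) (x : G) (hx : x ∈ sigmaCore M) (hx1 : x ≠ 1) :
    (Nat.card ↥(M ⊓ centralizer ({x} : Set G))).Coprime
        ((M ⊓ centralizer ({x} : Set G)).relIndex (centralizer ({x} : Set G))) ∧
      ∃ R : Subgroup G, centralizer ({x} : Set G) ≤ normalizer (R : Set G) ∧
        IsComplIn (M ⊓ centralizer ({x} : Set G)) R (centralizer ({x} : Set G)) ∧
        ∀ g : G, x ∈ M.map (MulAut.conj g).toMonoidHom →
          ∃! r : G, r ∈ R ∧ M.map (MulAut.conj r).toMonoidHom = M.map (MulAut.conj g).toMonoidHom := by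
  have hxM : x ∈ M := sc_le M hx
  obtain ⟨q, hq, hqd⟩ := Nat.exists_prime_and_dvd (n := orderOf x) (by
    intro h
    exact hx1 (orderOf_eq_one_iff.mp h))
  haveI : Fact q.Prime := ⟨hq⟩
  have hqM := prime_mem_sigma hx hq hqd
  obtain ⟨Y, hYc, hYx, hcY⟩ := exists_prime_sub hq hqd
  have hcN : centralizer ({x} : Set G) ≤ normalizer (Y : Set G) :=
    hcY.trans (centralizer_le_normalizer' Y)
  by_cases hcase : ∃ L, IsCoatom L ∧ normalizer (Y : Set G) ≤ L ∧ L ≠ M
  · obtain ⟨L, hL, hNL, hne⟩ := hcase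
    have hYM : Y ≤ M := hYx.trans (zpowers_le.mpr hxM)
    have hs := sit0 hG h78 hM hL hqM hYc hYM hNL hne
    have hcL := hcN.trans hNL
    have hxL : x ∈ L := hcL (mem_centralizer_singleton.mpr rfl)
    refine ⟨cent_coprime hG hL hs.compl hxM hcL, _, cent_normalizes hcL,
      cent_compl hs.compl hxM hcL, ?_⟩
    intro g hg
    obtain ⟨r, hr, hrg⟩ := trans_exists hG h78 hM hL hqM hYc hYx hxM hNL hne hxL hg
    refine ⟨r, ⟨hr, hrg⟩, ?_⟩
    rintro r' ⟨hr', hrg'⟩
    exact trans_unique hG hM hs.compl hr'.1 hr.1 (hrg'.trans hrg.symm)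
  · push Not at hcase
    obtain ⟨L, hL, hNL⟩ := exists_coatom_normalizer hG hq hYc
    have hLM := hcase L hL hNL
    subst hLM
    have hcL := hcN.trans hNL
    have hinf : L ⊓ centralizer ({x} : Set G) = centralizer ({x} : Set G) := inf_eq_right.mpr hcL
    rw [hinf]
    refine ⟨by simp, ⊥, ?_, ⟨le_rfl, bot_le, by simp, ?_⟩, ?_⟩
    · intro c _
      rw [mem_normalizer_iff]
      intro y
      rw [mem_bot, mem_bot]
      constructor
      · rintro rfl
        simp
      · intro h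
        have := congrArg (fun z => c⁻¹ * z * c) h
        simpa [mul_assoc] using this
    · intro m hm
      exact ⟨m, hm, 1, one_mem _, by simp⟩
    · intro g hg
      have hYg : cj g⁻¹ Y ≤ L := by
        rintro _ ⟨y, hy, rfl⟩
        have h1 : y ∈ cj g L := (hYx.trans (zpowers_le.mpr hg)) hy
        rw [mem_map_conj] at h1
        simpa [MulAut.conj_apply, mul_assoc] using h1
      obtain ⟨m, hm, c, hc, hmc⟩ := (Cfsg.Agent.S1404.result hG L hL q hqM Y
        (IsPGroup.of_card (n := 1) (by rw [hYc, pow_one])) (card_prime_ne_bot hq hYc)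
        (hYx.trans (zpowers_le.mpr hxM))).1 g⁻¹ hYg
      have hgL : g⁻¹ ∈ L := hmc ▸ mul_mem hm (hNL (centralizer_le_normalizer' Y hc))
      have hgL' : g ∈ L := by simpa using inv_mem hgL
      refine ⟨1, ⟨one_mem _, ?_⟩, ?_⟩
      · rw [map_conj_eq_self_of_mem hgL', map_conj_one]
      · rintro r ⟨hr, -⟩
        exact mem_bot.mp hr

end Cfsg.Agent.Lib.Helper20.BG14
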