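/-
Helper library (helper20): Bender–Glauberman Theorem 14.4, part 4: general lemmas for S1375
(`L_σ = L_F`, `κ`-primes, elements of `U L_σ`).
-/
import Cfsg.Agent.Lib.Helper20.BG144c
import Cfsg.Agent.Lib.Helper22.SupLemmas

set_option autoImplicit false
set_option linter.unusedSimpArgs false
set_option linter.unusedVariables false
set_option linter.style.haveILetI false
set_option linter.unusedSectionVars false

namespace Cfsg.Agent.Lib.Helper20.BG14

open Subgroup Cfsg
open Cfsg.Agent.Lib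
open Cfsg.Agent.Lib.Helper24 Cfsg.Agent.Lib.Helper34 Cfsg.Agent.Lib.Helper31.BG11
open Cfsg.Agent.Lib.Helper34.BG13 Cfsg.Agent.Lib.Helper34.BG16 Cfsg.Agent.Lib.Helper10.BG124

universe u

variable {G : Type u} [Group G] [Finite G]

theorem tau2_cj {L : Subgroup G} {p : ℕ} (g : G) (h : p ∈ tau2 (cj g L)) : p ∈ tau2 L := by
  refine ⟨h.1, fun hs => h.2.1 ((sigma_cj_iff g).mpr hs), ?_, fun h1 => h.2.2.2 (pRankLE_cj g h1)⟩
  have := pRankLE_cj g⁻¹ h.2.2.1
  rwa [cj_inv_cj] at this

theorem tau2_cj_iff {L : Subgroup G} {p : ℕ} (g : G) : p ∈ tau2 (cj g L) ↔ p ∈ tau2 L := by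
  refine ⟨tau2_cj g, fun h => ?_⟩
  apply tau2_cj g⁻¹
  rwa [cj_inv_cj]

theorem kappa_rank_one {L : Subgroup G} {p : ℕ} (h : p ∈ kappa L) : PRankLE p 1 L := by
  haveI : Fact p.Prime := ⟨h.1⟩
  obtain ⟨P⟩ : Nonempty (Sylow p L) := inferInstance
  haveI := (h.2.2.2 P).1
  haveI : IsCyclic ↥((P : Subgroup L).map L.subtype) :=
    isCyclic_of_surjective (L.subtype.subgroupMap (P : Subgroup L))
      (MonoidHom.subgroupMap_surjective _ _)
  exact pRankLE_of_isSylowIn (Sylow.isSylowIn_map P) (pRankLE_one_of_isCyclic h.1.pos)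

theorem mul_pow_mem {W : Subgroup G} {w k : G} (hw : w ∈ W) (hk : k ∈ normalizer (W : Set G))
    (n : ℕ) : (w * k) ^ n * (k ^ n)⁻¹ ∈ W := by
  induction n with
  | zero => simp
  | succ n ih =>
    have h1 : k ^ n * w * (k ^ n)⁻¹ ∈ W :=
      (mem_normalizer_iff.mp (pow_mem hk n) w).mp hw
    have : (w * k) ^ (n + 1) * (k ^ (n + 1))⁻¹
        = ((w * k) ^ n * (k ^ n)⁻¹) * (k ^ n * w * (k ^ n)⁻¹) := by
      rw [pow_succ, pow_succ]; group
    rw [this]
    exact mul_mem ih h1

theorem decomp_normal {L K U : Subgroup G} (hKU : IsSigmaDecomposition L K U) :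
    L ≤ normalizer ((U ⊔ sigmaCore L : Subgroup G) : Set G) := by
  intro m hm
  obtain ⟨a, ha, b, hb, rfl⟩ := hKU.compl.2.2.2 m hm
  refine mul_mem (le_normalizer (mem_sup_left ha)) ?_
  have h1 : K ⊔ sigmaCore L ≤ normalizer ((U ⊔ sigmaCore L : Subgroup G) : Set G) := by
    refine sup_le ?_ (le_trans (le_sup_right : sigmaCore L ≤ U ⊔ sigmaCore L) le_normalizer)
    refine le_trans (le_inf hKU.normal (hKU.hall.1.trans (sc_norm L))) ?_
    exact normalizer_inf_normalizer_le_normalizer_sup U (sigmaCore L)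
  exact h1 hb

/-- a `κ(L)'`-element of `L` lies in `U L_σ`. -/
theorem mem_sup_of_kappa' {L K U : Subgroup G} (hKU : IsSigmaDecomposition L K U) {x : G}
    (hx : x ∈ L) (hκ : ∀ p : ℕ, p.Prime → p ∣ orderOf x → p ∉ kappa L) :
    x ∈ U ⊔ sigmaCore L := by
  obtain ⟨u, hu, b, hb, rfl⟩ := hKU.compl.2.2.2 x hx
  rw [sup_comm] at hb
  obtain ⟨s, hs, k, hk, rfl⟩ :=
    (Helper22.mem_sup_of_le_normalizer (hKU.hall.1.trans (sc_norm L))).mp hb
  have hw : u * s ∈ U ⊔ sigmaCore L := mul_mem (mem_sup_left hu) (mem_sup_right hs)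
  have hkn : k ∈ normalizer ((U ⊔ sigmaCore L : Subgroup G) : Set G) :=
    decomp_normal hKU (hKU.hall.1 hk)
  have h1 := mul_pow_mem hw hkn (Nat.card K)
  have h2 : k ^ Nat.card K = 1 := by
    have := pow_card_eq_one' (x := (⟨k, hk⟩ : K))
    exact congrArg Subtype.val this
  rw [h2, inv_one, mul_one, mul_assoc] at h1
  refine mem_of_pow_mem_of_coprime (n := Nat.card K) (k := orderOf (u * (s * k))) ?_ h1
    (by rw [pow_orderOf_eq_one]; exact one_mem _)
  apply Nat.coprime_of_dvd
  intro p hp hd1 hd2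
  exact hκ p hp hd2 (hKU.hall.2.1 p hp hd1)

theorem sc_eq_fittingHallOf (hG : IsMinSimpleOddOrder G) {L : Subgroup G} (hL : IsCoatom L)
    (hnil : Group.IsNilpotent (sigmaCore L)) : sigmaCore L = fittingHallOf L := by
  have hU := ut hG
  apply le_antisymm
  · have h1 : sigmaCore L = ((sigmaCore L).subgroupOf L).map L.subtype := by
      rw [Subgroup.subgroupOf_map_subtype, inf_eq_left.2 (sc_le L)]
    rw [h1]
    apply Subgroup.map_mono
    apply le_sSup
    refine ⟨(normal_subgroupOf_iff_le_normalizer (sc_le L)).mpr (sc_norm L), ?_, ?_⟩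
    · exact (Group.isNilpotent_congr (Subgroup.subgroupOfEquivOfLe (sc_le L))).mpr hnil
    · rw [Nat.card_congr (Subgroup.subgroupOfEquivOfLe (sc_le L)).toEquiv]
      apply Nat.coprime_of_dvd
      intro p hp hd1 hd2
      exact (sc_hall hG hU hL).2.2 p hp (sc_primes L hp hd1) hd2
  · unfold fittingHallOf fittingHall
    rw [Subgroup.map_le_iff_le_comap]
    apply sSup_le
    rintro N ⟨hNn, hNnil, hNcop⟩
    rw [← Subgroup.map_le_iff_le_comap]
    have hNL : N.map L.subtype ≤ L := by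
      rintro _ ⟨y, -, rfl⟩
      exact y.2
    have hsub : (N.map L.subtype).subgroupOf L = N :=
      Subgroup.comap_map_eq_self_of_injective L.subtype_injective N
    have hnorm : L ≤ normalizer ((N.map L.subtype : Subgroup G) : Set G) := by
      rw [← normal_subgroupOf_iff_le_normalizer hNL, hsub]
      exact hNn
    have hcard : Nat.card (N.map L.subtype) = Nat.card N :=
      Subgroup.card_map_of_injective L.subtype_injective
    have hnil' : Group.IsNilpotent ↥(N.map L.subtype) :=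
      (Group.isNilpotent_congr (N.equivMapOfInjective _ L.subtype_injective)).mp hNnil
    apply le_sc_of_primes hG hU hL hNL
    intro r hr hd
    haveI : Fact r.Prime := ⟨hr⟩
    obtain ⟨Q, hQ, -⟩ := exists_isSylowIn_ge (bot_le : (⊥ : Subgroup G) ≤ N.map L.subtype)
      (IsPGroup.of_bot (p := r))
    have hLQ := le_normalizer_of_sylow_nilpotent hnorm hnil' hQ
    have hidx : ¬ r ∣ (N.map L.subtype).relIndex L := by
      intro h
      have h2 : r ∣ N.index := by
        have : (N.map L.subtype).relIndex L = N.index := by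
          unfold Subgroup.relIndex
          rw [hsub]
        rwa [this] at h
      rw [hcard] at hd
      exact hr.one_lt.ne' (Nat.eq_one_of_dvd_coprimes hNcop hd h2)
    have hQL := isSylowIn_of_normal_hall hNL hidx hQ
    have hQ1 : Q ≠ ⊥ := by
      rintro rfl
      apply hQ.2.2
      rw [Subgroup.relIndex_bot_left]
      exact hd
    have hNQ : normalizer (Q : Set G) = L := by
      by_contra hne
      exact MS_normalizer_ne_top hG hQ1 (MS_isPGroup_ne_top hG hQ.2.1)
        (hL.2 _ (lt_of_le_of_ne hLQ (Ne.symm hne)))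
    exact mem_sigma_iff.mpr ⟨hd.trans (Subgroup.card_dvd_of_le hNL), Q, hQL, hNQ.le⟩

end Cfsg.Agent.Lib.Helper20.BG14
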