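/-
Helper library (helper20): Bender–Glauberman Theorem 14.4, part 5: S1375 from `H1378`, and the
description of `supportR M x` for `x ∈ M_σ#`.
-/
import Cfsg.Agent.Lib.Helper20.BG144d

set_option autoImplicit false
set_option linter.unusedSimpArgs false
set_option linter.unusedVariables false
set_option linter.style.haveILetI false
set_option linter.unusedSectionVars false

namespace Cfsg.Agent.Lib.Helper20.BG14

open Subgroup Cfsg
open Cfsg.Agent.Lib
open Cfsg.Agent.Lib.Helper24 Cfsg.Agent.Lib.Helper34 Cfsg.Agent.Lib.Helper31.BG11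
open Cfsg.Agent.Lib.Helper34.BG13 Cfsg.Agent.Lib.Helper34.BG16 Cfsg.Agent.Lib.Helper10.BG124

universe u

variable {G : Type u} [Group G] [Finite G]

/-- The conclusion of the analysis when `C_G(x) ≰ M`. -/
structure Big (M L : Subgroup G) (x : G) : Prop where
  coatom : IsCoatom L
  cent : centralizer ({x} : Set G) ≤ L
  uniq : ∀ L' : Subgroup G, IsCoatom L' → centralizer ({x} : Set G) ≤ L' → L' = L
  nconj : ∀ g, L ≠ cj g M
  compl : IsComplIn (M ⊓ L) (sigmaCore L) L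
  tau : ∀ p : ℕ, p.Prime → p ∣ orderOf x → p ∈ tau2 L
  nil : Group.IsNilpotent (sigmaCore L)
  ne_bot : sigmaCore L ⊓ centralizer ({x} : Set G) ≠ ⊥
  trans : ∀ g : G, x ∈ cj g M → ∃ r ∈ sigmaCore L ⊓ centralizer ({x} : Set G), cj r M = cj g M
  exA : ∀ p : ℕ, p.Prime → p ∣ orderOf x →
    ∃ A, A ≤ M ⊓ L ∧ IsElementaryAbelian p A ∧ Nat.card A = p ^ 2

theorem exists_big (hG : IsMinSimpleOddOrder G) (h78 : H1378 G)
    {M : Subgroup G} (hM : IsCoatom M) {x : G} (hx : x ∈ sigmaCore M) (hx1 : x ≠ 1)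
    (hxM' : ¬ centralizer ({x} : Set G) ≤ M) : ∃ L, Big M L x := by
  have hU := ut hG
  have hxM : x ∈ M := sc_le M hx
  -- the data for each prime
  have key : ∀ q : ℕ, q.Prime → q ∣ orderOf x → ∃ L Y : Subgroup G, IsCoatom L ∧ Nat.card Y = q ∧
      Y ≤ zpowers x ∧ normalizer (Y : Set G) ≤ L ∧ centralizer ({x} : Set G) ≤ L ∧ L ≠ M ∧
      Sit M L q ∧ sigmaCore L ⊓ centralizer ({x} : Set G) ≠ ⊥ := by
    intro q hq hqd
    haveI : Fact q.Prime := ⟨hq⟩
    have hqM := prime_mem_sigma hx hq hqd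
    obtain ⟨Y, hYc, hYx, hcY⟩ := exists_prime_sub hq hqd
    obtain ⟨L, hL, hNL⟩ := exists_coatom_normalizer hG hq hYc
    have hcL : centralizer ({x} : Set G) ≤ L := (hcY.trans (centralizer_le_normalizer' Y)).trans hNL
    have hne : L ≠ M := by
      rintro rfl
      exact hxM' hcL
    have hs := sit0 hG h78 hM hL hqM hYc (hYx.trans (zpowers_le.mpr hxM)) hNL hne
    refine ⟨L, Y, hL, hYc, hYx, hNL, hcL, hne, hs, ?_⟩
    intro hbot
    apply hxM'
    intro c hc
    obtain ⟨a, ha, b, hb, rfl⟩ := (cent_compl hs.compl hxM hcL).2.2.2 c hc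
    rw [hbot, mem_bot] at hb
    rw [hb, mul_one]
    exact ha.1
  obtain ⟨q, hq, hqd⟩ := Nat.exists_prime_and_dvd (n := orderOf x) (by
    intro h
    exact hx1 (orderOf_eq_one_iff.mp h))
  haveI : Fact q.Prime := ⟨hq⟩
  have hqM := prime_mem_sigma hx hq hqd
  obtain ⟨L, Y, hL, hYc, hYx, hNL, hcL, hne, hs, hR⟩ := key q hq hqd
  have hxL : x ∈ L := hcL (mem_centralizer_singleton.mpr rfl)
  have hcardR := Helper23.complIn_relIndex_left (cent_compl hs.compl hxM hcL)
  -- conjugacy of the other `L''`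
  have hconj : ∀ p : ℕ, p.Prime → p ∣ orderOf x → p ∈ tau2 L := by
    intro p hp hpd
    obtain ⟨L', Y', hL', hYc', hYx', hNL', hcL', hne', hs', hR'⟩ := key p hp hpd
    have hcardR' := Helper23.complIn_relIndex_left (cent_compl hs'.compl hxM hcL')
    have hcard : Nat.card ↥(sigmaCore L ⊓ centralizer ({x} : Set G))
        = Nat.card ↥(sigmaCore L' ⊓ centralizer ({x} : Set G)) := by rw [← hcardR, ← hcardR']
    obtain ⟨t, ht, htd⟩ := Nat.exists_prime_and_dvd
      (n := Nat.card ↥(sigmaCore L ⊓ centralizer ({x} : Set G))) (by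
        intro h
        exact hR ((Subgroup.card_eq_one).mp h))
    have h1 : t ∈ sigma L := sc_primes L ht (htd.trans (Subgroup.card_dvd_of_le inf_le_left))
    have h2 : t ∈ sigma L' :=
      sc_primes L' ht ((hcard ▸ htd).trans (Subgroup.card_dvd_of_le inf_le_left))
    obtain ⟨g, hg⟩ := h78 L L' hL hL' ⟨t, h1, h2⟩
    apply tau2_cj g
    rw [← hg]
    exact hs'.tau
  obtain ⟨A, hAle, hA, hAc⟩ := hs.exA
  have hnil := (Cfsg.Agent.S1417.result hG L hL q hs.tau A ⟨hAle.trans inf_le_right, hA, hAc⟩).1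
  have hhat : x ∈ sigmaHat L := by
    obtain ⟨y, hy⟩ := Subgroup.ne_bot_iff_exists_ne_one.mp hR
    refine ⟨hxL, y.1, y.2.1, fun h => hy (Subtype.ext h), ?_⟩
    exact mem_centralizer_singleton.mp y.2.2
  have h20 := (Cfsg.Agent.S1420.result hG L hL (M ⊓ L) hs.compl).2.2.2 x hxL hx1 hconj hhat
  refine ⟨L, hL, hcL, h20.2, hs.nconj, hs.compl, hconj, hnil, hR, ?_, ?_⟩
  · intro g hg
    exact trans_exists hG h78 hM hL hqM hYc hYx hxM hNL hne hxL hg
  · intro p hp hpd
    obtain ⟨L', Y', hL', hYc', hYx', hNL', hcL', hne', hs', hR'⟩ := key p hp hpd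
    have : L' = L := h20.2 L' hL' hcL'
    subst this
    exact hs'.exA

theorem s1375 (hG : IsMinSimpleOddOrder G) (h78 : H1378 G)
    (M : Subgroup G) (hM : IsCoatom M) (x : G) (hx : x ∈ sigmaCore M) (hx1 : x ≠ 1)
    (hxM : ¬ centralizer ({x} : Set G) ≤ M) :
    ∃ N : Subgroup G, (IsCoatom N ∧ centralizer ({x} : Set G) ≤ N) ∧
      (∀ L : Subgroup G, IsCoatom L → centralizer ({x} : Set G) ≤ L → L = N) ∧
        sigmaCore N = fittingHallOf N ∧
        centralizer ({x} : Set G) ≤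
          normalizer ((sigmaCore N ⊓ centralizer ({x} : Set G) : Subgroup G) : Set G) ∧
        IsComplIn (M ⊓ centralizer ({x} : Set G)) (sigmaCore N ⊓ centralizer ({x} : Set G))
          (centralizer ({x} : Set G)) ∧
        IsComplIn (M ⊓ N) (sigmaCore N) N ∧
        ∀ K' U' : Subgroup G, IsSigmaDecomposition N K' U' →
          U' ≠ ⊥ ∧ x ∈ sigmaA N U' ∧ x ∉ sigmaCore N := by
  obtain ⟨L, hB⟩ := exists_big hG h78 hM hx hx1 hxM
  have hxM' : x ∈ M := sc_le M hx
  have hxL : x ∈ L := hB.cent (mem_centralizer_singleton.mpr rfl)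
  have hxn : x ∉ sigmaCore L := by
    intro h
    have : x ∈ (M ⊓ L) ⊓ sigmaCore L := ⟨⟨hxM', hxL⟩, h⟩
    rw [hB.compl.2.2.1, mem_bot] at this
    exact hx1 this
  refine ⟨L, ⟨hB.coatom, hB.cent⟩, hB.uniq, sc_eq_fittingHallOf hG hB.coatom hB.nil,
    cent_normalizes hB.cent, cent_compl hB.compl hxM' hB.cent, hB.compl, ?_⟩
  intro K' U' hKU
  have hxW : x ∈ U' ⊔ sigmaCore L := by
    apply mem_sup_of_kappa' hKU hxL
    intro p hp hd hκ
    exact (hB.tau p hp hd).2.2.2 (kappa_rank_one hκ)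
  refine ⟨?_, ⟨?_, hxW⟩, hxn⟩
  · rintro rfl
    rw [bot_sup_eq] at hxW
    exact hxn hxW
  · obtain ⟨y, hy⟩ := Subgroup.ne_bot_iff_exists_ne_one.mp hB.ne_bot
    refine ⟨hxL, y.1, y.2.1, fun h => hy (Subtype.ext h), ?_⟩
    exact mem_centralizer_singleton.mp y.2.2

/-! ### `supportR` -/

theorem supportR_of_le {M : Subgroup G} {x : G} (h : centralizer ({x} : Set G) ≤ M) :
    supportR M x = ⊥ := by
  unfold supportR
  rw [dif_neg]
  intro h'
  exact h'.1 h

theorem supportR_of_big (hG : IsMinSimpleOddOrder G) {M L : Subgroup G} {x : G} (hB : Big M L x)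
    (hxM : ¬ centralizer ({x} : Set G) ≤ M) :
    supportR M x = sigmaCore L ⊓ centralizer ({x} : Set G) := by
  unfold supportR
  have h : ¬ centralizer ({x} : Set G) ≤ M ∧
      ∃! L : Subgroup G, IsCoatom L ∧ centralizer ({x} : Set G) ≤ L :=
    ⟨hxM, L, ⟨hB.coatom, hB.cent⟩, fun L' hL' => hB.uniq L' hL'.1 hL'.2⟩
  rw [dif_pos h]
  have hspec := Classical.choose_spec h.2.exists
  rw [hB.uniq _ hspec.1 hspec.2, sc_eq_fittingHallOf hG hB.coatom hB.nil]

end Cfsg.Agent.Lib.Helper20.BG14
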