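/-
Helper library (helper20): Bender–Glauberman Theorem 14.4, part 6: S1433 from `H1378`
(the cosets `x R(x)` are pairwise disjoint).
-/
import Cfsg.Agent.Lib.Helper20.BG144e
import Cfsg.Agent.Lib.Helper9.PPrimeCoreOf
import Cfsg.Agent.S1408
import Cfsg.Agent.S1414

set_option autoImplicit false
set_option linter.unusedSimpArgs false
set_option linter.unusedVariables false
set_option linter.style.haveILetI false
set_option linter.unusedSectionVars false

namespace Cfsg.Agent.Lib.Helper20.BG14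

open Subgroup Cfsg
open Cfsg.Agent.Lib
open Cfsg.Agent.Lib.Helper24 Cfsg.Agent.Lib.Helper34 Cfsg.Agent.Lib.Helper31.BG11
open Cfsg.Agent.Lib.Helper34.BG13 Cfsg.Agent.Lib.Helper34.BG16 Cfsg.Agent.Lib.Helper10.BG124

universe u

variable {G : Type u} [Group G] [Finite G]

/-- `q ∈ τ₂(H)`, `t ∈ σ(H)` not ideal: then `q < t`. -/
theorem tau2_lt_sigma (hG : IsMinSimpleOddOrder G) {H : Subgroup G} (hH : IsCoatom H) {q t : ℕ}
    (hq : q ∈ tau2 H) (ht : t ∈ sigma H) (hti : ¬ IsIdealPrime t G) : q < t := by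
  have hU := ut hG
  haveI : Fact q.Prime := ⟨hq.1⟩
  haveI : Fact t.Prime := ⟨ht.1⟩
  obtain ⟨E, hE⟩ := exists_compl hG hU hH
  obtain ⟨A, hA⟩ := exists_T2 hE hq
  have hAH : A ≤ H := hA.le.trans hE.1
  have h17 := Cfsg.Agent.S1417.result hG H hH q hq A ⟨hAH, hA.elem, hA.card⟩
  obtain ⟨T, hT, -⟩ := exists_isSylowIn_ge (bot_le : (⊥ : Subgroup G) ≤ sigmaCore H)
    (IsPGroup.of_bot (p := t))
  have hHT := le_normalizer_of_sylow_nilpotent (sc_norm H) h17.1 hT
  have hTH := sc_sylow hG hU hH ht hT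
  have hT1 : T ≠ ⊥ := by
    rintro rfl
    apply hTH.2.2
    rw [Subgroup.relIndex_bot_left]
    exact ht.2.1
  have h14 := ((Cfsg.Agent.S1414.result hG H hH).2.2.2.2 t ht.1 ht.2.1 (fun h => hti h.2)).2.2
  by_contra hlt
  have hne : q ≠ t := by
    rintro rfl
    exact hq.2.1 ht
  have hidx : ¬ q ∣ (Helper9.pPrimeCoreOf t H).relIndex H := by
    intro hd
    unfold Subgroup.relIndex at hd
    rw [Helper9.pPrimeCoreOf_subgroupOf] at hd
    have := h14 q hq.1 hd
    omega
  have hAO : A ≤ Helper9.pPrimeCoreOf t H :=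
    le_of_normal_of_not_dvd (Helper9.pPrimeCoreOf_le H) (Helper9.le_normalizer_pPrimeCoreOf H) hidx
      hAH hA.pg
  have hinf : T ⊓ Helper9.pPrimeCoreOf t H = ⊥ :=
    Helper9.inf_eq_bot_of_isPGroup_of_coprime hT.2.1 (Helper9.card_pPrimeCoreOf_coprime H)
  have hcen : T ≤ centralizer (Helper9.pPrimeCoreOf t H : Set G) :=
    Helper9.le_centralizer_of_normalize_of_inf_eq_bot
      (hTH.1.trans (Helper9.le_normalizer_pPrimeCoreOf H)) ((Helper9.pPrimeCoreOf_le H).trans hHT) hinf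
  have hcA : T ≤ centralizer (A : Set G) := hcen.trans (centralizer_le hAO)
  apply hT1
  rw [eq_bot_iff, ← h17.2.2.2.1]
  exact le_inf hT.1 hcA

/-- uniqueness of the `π`-part. -/
theorem pi_part_unique {x r y s : G} (hxr : Commute x r) (hys : Commute y s)
    (h : x * r = y * s) (hcop : (orderOf x * orderOf y).Coprime (orderOf r * orderOf s)) :
    x = y := by
  obtain ⟨k, hk1, hk0⟩ := Nat.chineseRemainder hcop 1 0
  have e1 : ∀ w : G, orderOf w ∣ orderOf x * orderOf y → w ^ k = w := by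
    intro w hw
    have : k ≡ 1 [MOD orderOf w] := hk1.of_dvd hw
    rw [← pow_eq_pow_iff_modEq] at this
    rw [this, pow_one]
  have e0 : ∀ w : G, orderOf w ∣ orderOf r * orderOf s → w ^ k = 1 := by
    intro w hw
    have : k ≡ 0 [MOD orderOf w] := hk0.of_dvd hw
    rw [← pow_eq_pow_iff_modEq] at this
    rw [this, pow_zero]
  have h1 : (x * r) ^ k = x := by
    rw [hxr.mul_pow, e1 x (Dvd.intro _ rfl), e0 r (Dvd.intro _ rfl), mul_one]
  have h2 : (y * s) ^ k = y := by
    rw [hys.mul_pow, e1 y (Dvd.intro_left _ rfl), e0 s (Dvd.intro_left _ rfl), mul_one]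
  rw [← h1, h, h2]

/-- the facts on `r ∈ R(x)`. -/
theorem supportR_facts (hG : IsMinSimpleOddOrder G) (h78 : H1378 G) {M : Subgroup G}
    (hM : IsCoatom M) {x : G} (hx : x ∈ sigmaCore M) (hx1 : x ≠ 1) {r : G}
    (hr : r ∈ supportR M x) :
    Commute x r ∧ (r = 1 ∨ ∃ L, Big M L x ∧ r ∈ sigmaCore L) := by
  by_cases hc : centralizer ({x} : Set G) ≤ M
  · rw [supportR_of_le hc, mem_bot] at hr
    subst hr
    exact ⟨Commute.one_right x, Or.inl rfl⟩
  · obtain ⟨L, hB⟩ := exists_big hG h78 hM hx hx1 hc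
    rw [supportR_of_big hG hB hc] at hr
    exact ⟨mem_centralizer_singleton.mp hr.2, Or.inr ⟨L, hB, hr.1⟩⟩

theorem prime_of_mem_sc {L : Subgroup G} {r : G} (hr : r ∈ sigmaCore L) {p : ℕ} (hp : p.Prime)
    (hd : p ∣ orderOf r) : p ∈ sigma L := prime_mem_sigma hr hp hd

theorem supportR_not_sigma (hG : IsMinSimpleOddOrder G) (h78 : H1378 G) {M : Subgroup G}
    (hM : IsCoatom M) {x : G} (hx : x ∈ sigmaCore M) (hx1 : x ≠ 1) {r : G}
    (hr : r ∈ supportR M x) {p : ℕ} (hp : p.Prime) (hd : p ∣ orderOf r) : p ∉ sigma M := by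
  intro hpM
  rcases (supportR_facts hG h78 hM hx hx1 hr).2 with rfl | ⟨L, hB, hrL⟩
  · rw [orderOf_one] at hd
    exact hp.one_lt.ne' (Nat.dvd_one.mp hd)
  · obtain ⟨g, hg⟩ := h78 M L hM hB.coatom ⟨p, hpM, prime_of_mem_sc hrL hp hd⟩
    exact hB.nconj g hg

theorem s1433 (hG : IsMinSimpleOddOrder G) (h78 : H1378 G)
    (M N : Subgroup G) (hM : IsCoatom M) (hN : IsCoatom N) (x y : G) (hx : x ∈ sigmaCore M)
    (hy : y ∈ sigmaCore N) (hx1 : x ≠ 1) (hy1 : y ≠ 1) (hxy : x ≠ y) :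
    ∀ r ∈ supportR M x, ∀ s ∈ supportR N y, x * r ≠ y * s := by
  intro r hr s hs hz
  obtain ⟨hxr, hrL⟩ := supportR_facts hG h78 hM hx hx1 hr
  obtain ⟨hys, hsL⟩ := supportR_facts hG h78 hN hy hy1 hs
  have hcxr : (orderOf x).Coprime (orderOf r) := by
    apply Nat.coprime_of_dvd
    intro p hp h1 h2
    exact supportR_not_sigma hG h78 hM hx hx1 hr hp h2 (prime_mem_sigma hx hp h1)
  have hcys : (orderOf y).Coprime (orderOf s) := by
    apply Nat.coprime_of_dvd
    intro p hp h1 h2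
    exact supportR_not_sigma hG h78 hN hy hy1 hs hp h2 (prime_mem_sigma hy hp h1)
  by_cases hcase : (sigma M ∩ sigma N).Nonempty
  · -- conjugate case
    obtain ⟨g, rfl⟩ := h78 M N hM hN hcase
    apply hxy
    apply pi_part_unique hxr hys hz
    apply Nat.coprime_of_dvd
    intro p hp h1 h2
    have hpM : p ∈ sigma M := by
      rcases (Nat.Prime.dvd_mul hp).mp h1 with h | h
      · exact prime_mem_sigma hx hp h
      · exact (sigma_cj_iff g).mp (prime_mem_sigma hy hp h)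
    rcases (Nat.Prime.dvd_mul hp).mp h2 with h | h
    · exact supportR_not_sigma hG h78 hM hx hx1 hr hp h hpM
    · exact supportR_not_sigma hG h78 hN hy hy1 hs hp h ((sigma_cj_iff g).mpr hpM)
  · -- non conjugate case
    have hdis : ∀ p, p ∈ sigma M → p ∈ sigma N → False := fun p h1 h2 => hcase ⟨p, h1, h2⟩
    have hord : orderOf x * orderOf r = orderOf y * orderOf s := by
      rw [← hxr.orderOf_mul_eq_mul_orderOf_of_coprime hcxr,
        ← hys.orderOf_mul_eq_mul_orderOf_of_coprime hcys, hz]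
    obtain ⟨q, hq, hqd⟩ := Nat.exists_prime_and_dvd (n := orderOf x) (by
      intro h
      exact hx1 (orderOf_eq_one_iff.mp h))
    obtain ⟨t, ht, htd⟩ := Nat.exists_prime_and_dvd (n := orderOf y) (by
      intro h
      exact hy1 (orderOf_eq_one_iff.mp h))
    have hqM := prime_mem_sigma hx hq hqd
    have htN := prime_mem_sigma hy ht htd
    have hqs : q ∣ orderOf s := by
      have : q ∣ orderOf y * orderOf s := hord ▸ Dvd.dvd.mul_right hqd _
      rcases (Nat.Prime.dvd_mul hq).mp this with h | h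
      · exact (hdis q hqM (prime_mem_sigma hy hq h)).elim
      · exact h
    have htr : t ∣ orderOf r := by
      have : t ∣ orderOf x * orderOf r := hord.symm ▸ Dvd.dvd.mul_right htd _
      rcases (Nat.Prime.dvd_mul ht).mp this with h | h
      · exact (hdis t (prime_mem_sigma hx ht h) htN).elim
      · exact h
    rcases hrL with rfl | ⟨Lx, hBx, hrLx⟩
    · rw [orderOf_one] at htr
      exact ht.one_lt.ne' (Nat.dvd_one.mp htr)
    rcases hsL with rfl | ⟨Ly, hBy, hsLy⟩
    · rw [orderOf_one] at hqs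
      exact hq.one_lt.ne' (Nat.dvd_one.mp hqs)
    obtain ⟨g, hg⟩ := h78 N Lx hN hBx.coatom ⟨t, htN, prime_of_mem_sc hrLx ht htr⟩
    obtain ⟨h, hh⟩ := h78 M Ly hM hBy.coatom ⟨q, hqM, prime_of_mem_sc hsLy hq hqs⟩
    have hqN : q ∈ tau2 N := by
      apply tau2_cj g
      rw [← hg]
      exact hBx.tau q hq hqd
    have htM : t ∈ tau2 M := by
      apply tau2_cj h
      rw [← hh]
      exact hBy.tau t ht htd
    haveI : Fact q.Prime := ⟨hq⟩
    haveI : Fact t.Prime := ⟨ht⟩
    have hqi := (Cfsg.Agent.S1408.result hG N hN q hqN.2.1 hqN.2.2.1 hqN.2.2.2).1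
    have hti := (Cfsg.Agent.S1408.result hG M hM t htM.2.1 htM.2.2.1 htM.2.2.2).1
    have h1 := tau2_lt_sigma hG hN hqN htN hti
    have h2 := tau2_lt_sigma hG hM htM hqM hqi
    omega

end Cfsg.Agent.Lib.Helper20.BG14
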