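/-
Helper library (helper20): Bender–Glauberman Theorem 14.4, part 7: equivariance, independence and
regularity of `supportR` (the hypotheses of the counting lemma for S1377).
-/
import Cfsg.Agent.Lib.Helper20.BG144f

set_option autoImplicit false
set_option linter.unusedSimpArgs false
set_option linter.unusedVariables false
set_option linter.style.haveILetI false
set_option linter.unusedSectionVars false

namespace Cfsg.Agent.Lib.Helper20.BG14

open Subgroup Cfsg
open Cfsg.Agent.Lib
open Cfsg.Agent.Lib.Helper24 Cfsg.Agent.Lib.Helper34 Cfsg.Agent.Lib.Helper31.BG11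
open Cfsg.Agent.Lib.Helper34.BG13 Cfsg.Agent.Lib.Helper34.BG16 Cfsg.Agent.Lib.Helper10.BG124

universe u

variable {G : Type u} [Group G] [Finite G]

theorem supportR_le_centralizer (M : Subgroup G) (x : G) :
    supportR M x ≤ centralizer ({x} : Set G) := by
  unfold supportR
  split_ifs with h
  · exact inf_le_right
  · exact bot_le

theorem regular (hG : IsMinSimpleOddOrder G) (h78 : H1378 G) {M : Subgroup G} (hM : IsCoatom M)
    {x : G} (hx : x ∈ sigmaCore M) (hx1 : x ≠ 1) {g : G} (hg : x ∈ cj g M) :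
    ∃! r : G, r ∈ supportR M x ∧ cj r M = cj g M := by
  by_cases hc : centralizer ({x} : Set G) ≤ M
  · rw [supportR_of_le hc]
    obtain ⟨-, R, -, hR, hreg⟩ := s1374 hG h78 M hM x hx hx1
    have hRbot : R = ⊥ := by
      rw [eq_bot_iff, ← hR.2.2.1]
      exact le_inf (le_inf (hR.2.1.trans hc) hR.2.1) le_rfl
    subst hRbot
    exact hreg g hg
  · obtain ⟨L, hB⟩ := exists_big hG h78 hM hx hx1 hc
    rw [supportR_of_big hG hB hc]
    obtain ⟨r, hr, hrg⟩ := hB.trans g hg
    refine ⟨r, ⟨hr, hrg⟩, ?_⟩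
    rintro r' ⟨hr', hrg'⟩
    exact trans_unique hG hM hB.compl hr'.1 hr.1 (hrg'.trans hrg.symm)

theorem eq_of_cent_le (hG : IsMinSimpleOddOrder G) (h78 : H1378 G) {M : Subgroup G}
    (hM : IsCoatom M) {x : G} (hx : x ∈ sigmaCore M) (hx1 : x ≠ 1)
    (hc : centralizer ({x} : Set G) ≤ M) {g : G} (hg : x ∈ cj g M) : cj g M = M := by
  obtain ⟨r, ⟨hr, hrg⟩, -⟩ := regular hG h78 hM hx hx1 hg
  rw [supportR_of_le hc, mem_bot] at hr
  subst hr
  rw [← hrg, cj_one]

theorem supportR_indep (hG : IsMinSimpleOddOrder G) (h78 : H1378 G) {M : Subgroup G}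
    (hM : IsCoatom M) {x : G} (hx : x ∈ sigmaCore M) (hx1 : x ≠ 1) {k : G}
    (hk : x ∈ sigmaCore (cj k M)) : supportR M x = supportR (cj k M) x := by
  have hM2 := isCoatom_cj hM k
  by_cases hc : centralizer ({x} : Set G) ≤ M
  · rw [eq_of_cent_le hG h78 hM hx hx1 hc (sc_le _ hk)]
  · by_cases hc2 : centralizer ({x} : Set G) ≤ cj k M
    · have h1 : x ∈ cj k⁻¹ (cj k M) := by
        rw [cj_inv_cj]
        exact sc_le M hx
      have := eq_of_cent_le hG h78 hM2 hk hx1 hc2 h1
      rw [cj_inv_cj] at this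
      rw [← this]
    · obtain ⟨L, hB⟩ := exists_big hG h78 hM hx hx1 hc
      obtain ⟨L', hB'⟩ := exists_big hG h78 hM2 hk hx1 hc2
      rw [supportR_of_big hG hB hc, supportR_of_big hG hB' hc2,
        hB.uniq L' hB'.coatom hB'.cent]

theorem supportR_cj (hG : IsMinSimpleOddOrder G) (h78 : H1378 G) {M : Subgroup G}
    (hM : IsCoatom M) {a : G} (ha : a ∈ sigmaCore M) (ha1 : a ≠ 1) (g : G) :
    supportR (cj g M) (g * a * g⁻¹) = cj g (supportR M a) := by
  have hM2 := isCoatom_cj hM g
  have ha2 : g * a * g⁻¹ ∈ sigmaCore (cj g M) := by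
    rw [sc_cj]
    exact conj_mem_map_conj ha
  have ha21 : g * a * g⁻¹ ≠ 1 := by
    intro h
    apply ha1
    have := congrArg (fun z => g⁻¹ * z * g) h
    simpa [mul_assoc] using this
  by_cases hc : centralizer ({a} : Set G) ≤ M
  · have hc2 : centralizer ({g * a * g⁻¹} : Set G) ≤ cj g M := by
      rw [centralizer_singleton_conj]
      exact cj_mono g hc
    rw [supportR_of_le hc, supportR_of_le hc2]
    exact (Subgroup.map_bot _).symm
  · have hc2 : ¬ centralizer ({g * a * g⁻¹} : Set G) ≤ cj g M := by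
      intro h
      apply hc
      rw [centralizer_singleton_conj] at h
      have := cj_mono g⁻¹ h
      rwa [cj_inv_cj, cj_inv_cj] at this
    obtain ⟨L, hB⟩ := exists_big hG h78 hM ha ha1 hc
    obtain ⟨L', hB'⟩ := exists_big hG h78 hM2 ha2 ha21 hc2
    have hL' : cj g L = L' := hB'.uniq (cj g L) (isCoatom_cj hB.coatom g) (by
      rw [centralizer_singleton_conj]
      exact cj_mono g hB.cent)
    rw [supportR_of_big hG hB hc, supportR_of_big hG hB' hc2, ← hL', sc_cj,
      centralizer_singleton_conj]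
    exact (map_conj_inf g _ _).symm

end Cfsg.Agent.Lib.Helper20.BG14
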