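import Mathlib
import Cfsg.Agent.Lib.Helper63.SuzReg

/-!
# The field attached to a regular abelian automorphism group of an elementary abelian 2-group
-/

set_option autoImplicit false
set_option linter.unusedSectionVars false

namespace Cfsg.Agent.Lib.Helper20.Suz

open Cfsg.Agent.Lib.Helper63.Suz

universe u
variable {P : Type u} [Group P]

/-- the commutative group structure on `V` -/
@[reducible] def commGroupV {K : Subgroup (MulAut P)} {V : Subgroup P} (h : RegV K V) :
    CommGroup V :=
  { (inferInstance : Group V) with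
    mul_comm := fun a b => Subtype.ext (h.vcomm a a.2 b b.2) }

/-- restriction of `k ∈ K` to `V` -/
def resHom {K : Subgroup (MulAut P)} {V : Subgroup P} (h : RegV K V) (k : K) : V →* V where
  toFun v := ⟨(k : MulAut P) v, h.inv k k.2 v v.2⟩
  map_one' := Subtype.ext (map_one _)
  map_mul' a b := Subtype.ext (map_mul _ _ _)

theorem exists_field [Finite P] {K : Subgroup (MulAut P)} {V : Subgroup P} (h : RegV K V)
    {e : P} (he : e ∈ V) (he1 : e ≠ 1) :
    ∃ (F : Type u) (_ : Field F) (_ : Fintype F) (_ : CharP F 2) (φ : V → F) (ρ : K → F),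
      Function.Bijective φ ∧ (∀ v w, φ (v * w) = φ v + φ w) ∧
      (∀ (k : K) (v : V), φ (resHom h k v) = ρ k * φ v) ∧
      (∀ k k', ρ (k * k') = ρ k * ρ k') ∧ (∀ k, ρ k ≠ 0) ∧ ∀ a, a ≠ 0 → ∃ k, ρ k = a := by
  classical
  letI := commGroupV h
  let A := Additive V
  let r : K → AddMonoid.End A := fun k => MonoidHom.toAdditive (resHom h k)
  have hr : ∀ (k : K) (a : A), r k a = Additive.ofMul (resHom h k a.toMul) := fun k a => rfl
  have hrmul : ∀ k k' : K, r (k * k') = r k * r k' := by
    intro k k'
    ext a
    rfl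
  have hrone : r 1 = 1 := by
    ext a
    rfl
  have hdouble : ∀ a : A, a + a = 0 := by
    intro a
    have : a.toMul * a.toMul = 1 := Subtype.ext (h.sq _ a.toMul.2)
    exact congrArg Additive.ofMul this
  have hradd : ∀ k k' : K, r k + r k' = 0 ∨ ∃ k'', r k + r k' = r k'' := by
    intro k k'
    by_cases hkk : k = k'
    · left
      subst hkk
      exact AddMonoidHom.ext (fun a => hdouble _)
    · right
      have hm1 : ((k⁻¹ * k' : K) : MulAut P) ≠ 1 := by
        intro h1
        apply hkk
        have : k⁻¹ * k' = 1 := Subtype.ext h1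
        exact (inv_mul_eq_one.1 this)
      obtain ⟨m', hm', hm'v⟩ := h.add_closure he he1 (k⁻¹ * k').2 hm1
      refine ⟨k * ⟨m', hm'⟩, ?_⟩
      refine AddMonoidHom.ext (fun a => ?_)
      change Additive.ofMul (resHom h k a.toMul * resHom h k' a.toMul)
        = Additive.ofMul (resHom h (k * ⟨m', hm'⟩) a.toMul)
      apply congrArg Additive.ofMul
      apply Subtype.ext
      change (k : MulAut P) a.toMul * (k' : MulAut P) a.toMul = (k : MulAut P) (m' a.toMul)
      rw [hm'v _ a.toMul.2, map_mul]
      congr 1
      simp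
  let S : Subring (AddMonoid.End A) :=
    { carrier := {s | s = 0 ∨ ∃ k, s = r k}
      mul_mem' := by
        rintro a b (rfl | ⟨k, rfl⟩) (rfl | ⟨k', rfl⟩)
        · left; simp
        · left; simp
        · left; simp
        · right; exact ⟨k * k', (hrmul k k').symm⟩
      one_mem' := Or.inr ⟨1, hrone.symm⟩
      add_mem' := by
        rintro a b (rfl | ⟨k, rfl⟩) (rfl | ⟨k', rfl⟩)
        · left; simp
        · right; exact ⟨k', by simp⟩
        · right; exact ⟨k, by simp⟩
        · exact hradd k k'
      zero_mem' := Or.inl rfl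
      neg_mem' := by
        rintro a (rfl | ⟨k, rfl⟩)
        · left; simp
        · right
          refine ⟨k, ?_⟩
          refine AddMonoidHom.ext (fun a => ?_)
          have := hdouble (r k a)
          exact neg_eq_of_add_eq_zero_left this }
  have hS : ∀ s : S, s = 0 ∨ ∃ k, s = ⟨r k, Or.inr ⟨k, rfl⟩⟩ := by
    rintro ⟨s, (rfl | ⟨k, rfl⟩)⟩
    · left; rfl
    · right; exact ⟨k, rfl⟩
  let ρ : K → S := fun k => ⟨r k, Or.inr ⟨k, rfl⟩⟩
  have hρmul : ∀ k k', ρ (k * k') = ρ k * ρ k' := fun k k' => Subtype.ext (hrmul k k')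
  have hρone : ρ 1 = 1 := Subtype.ext hrone
  let e' : A := Additive.ofMul ⟨e, he⟩
  have he'0 : e' ≠ 0 := by
    intro h0
    apply he1
    have : (⟨e, he⟩ : V) = 1 := h0
    exact congrArg Subtype.val this
  have hρ0 : ∀ k, ρ k ≠ 0 := by
    intro k h0
    have h1 : r k = 0 := congrArg Subtype.val h0
    have h2 : r k e' = 0 := by rw [h1]; rfl
    have h3 : (k : MulAut P) e = 1 := congrArg (fun a : A => (a.toMul : P)) h2
    apply he1
    have := (k : MulAut P).injective (h3.trans (map_one _).symm)
    exact this
  have hfield : IsField S :=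
    { exists_pair_ne := ⟨ρ 1, 0, hρ0 1⟩
      mul_comm := by
        intro a b
        rcases hS a with rfl | ⟨k, rfl⟩
        · simp
        · rcases hS b with rfl | ⟨k', rfl⟩
          · simp
          · change ρ k * ρ k' = ρ k' * ρ k
            rw [← hρmul, ← hρmul]
            congr 1
            exact Subtype.ext (h.comm k k.2 k' k'.2)
      mul_inv_cancel := by
        intro a ha
        rcases hS a with rfl | ⟨k, rfl⟩
        · exact absurd rfl ha
        · refine ⟨ρ k⁻¹, ?_⟩
          change ρ k * ρ k⁻¹ = 1
          rw [← hρmul, mul_inv_cancel, hρone] }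
  letI : Field S := hfield.toField
  haveI : Finite A := inferInstanceAs (Finite V)
  haveI : Finite S := Finite.of_injective (fun s : S => ((s : AddMonoid.End A) : A → A)) (by
    intro a b hab
    apply Subtype.ext
    exact DFunLike.coe_injective hab)
  letI : Fintype S := Fintype.ofFinite S
  have h2 : (2 : S) = 0 := by
    apply Subtype.ext
    have : ((2 : S) : AddMonoid.End A) = 1 + 1 := by
      have : (2 : S) = 1 + 1 := one_add_one_eq_two.symm
      rw [this]; rfl
    rw [this]
    exact AddMonoidHom.ext (fun a => hdouble a)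
  have h10 : (1 : S) ≠ 0 := by rw [← hρone]; exact hρ0 1
  haveI : CharP S 2 := CharTwo.of_one_ne_zero_of_two_eq_zero h10 h2
  let ev : S → V := fun s => ((s : AddMonoid.End A) e').toMul
  have hev_add : ∀ s t : S, ev (s + t) = ev s * ev t := fun s t => rfl
  have hev_ρ : ∀ k, ((ev (ρ k) : V) : P) = (k : MulAut P) e := fun k => rfl
  have hev_inj : Function.Injective ev := by
    intro a b hab
    rcases hS a with rfl | ⟨k, rfl⟩
    · rcases hS b with rfl | ⟨k', rfl⟩
      · rfl
      · exfalso
        have h3 : (k' : MulAut P) e = 1 := (congrArg Subtype.val hab).symm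
        exact he1 ((k' : MulAut P).injective (h3.trans (map_one _).symm))
    · rcases hS b with rfl | ⟨k', rfl⟩
      · exfalso
        have h3 : (k : MulAut P) e = 1 := (congrArg Subtype.val hab)
        exact he1 ((k : MulAut P).injective (h3.trans (map_one _).symm))
      · have h3 : (k : MulAut P) e = (k' : MulAut P) e := congrArg Subtype.val hab
        have h4 : ((k'⁻¹ * k : K) : MulAut P) = 1 := by
          apply h.un _ (k'⁻¹ * k).2 e he he1
          simp [h3]
        have h5 : k'⁻¹ * k = 1 := Subtype.ext h4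
        have h6 : k = k' := (inv_mul_eq_one.1 h5).symm
        rw [h6]
  have hev_surj : Function.Surjective ev := by
    intro v
    by_cases hv : (v : P) = 1
    · exact ⟨0, Subtype.ext hv.symm⟩
    · obtain ⟨k, hk, hke⟩ := h.tr e he v v.2 he1 hv
      exact ⟨ρ ⟨k, hk⟩, Subtype.ext hke⟩
  let E : S ≃ V := Equiv.ofBijective ev ⟨hev_inj, hev_surj⟩
  refine ⟨S, inferInstance, inferInstance, inferInstance, E.symm, ρ, E.symm.bijective, ?_, ?_, hρmul,
    hρ0, ?_⟩
  · intro v w
    apply E.injective
    rw [E.apply_symm_apply]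
    have : E (E.symm v + E.symm w) = E (E.symm v) * E (E.symm w) := hev_add _ _
    rw [this, E.apply_symm_apply, E.apply_symm_apply]
  · intro k v
    apply E.injective
    rw [E.apply_symm_apply]
    have : E (ρ k * E.symm v) = resHom h k (E (E.symm v)) := rfl
    rw [this, E.apply_symm_apply]
  · intro a ha
    rcases hS a with rfl | ⟨k, rfl⟩
    · exact absurd rfl ha
    · exact ⟨k, rfl⟩

end Cfsg.Agent.Lib.Helper20.Suz
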