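import Mathlib
import Cfsg.Agent.S1140

/-!
# Additive endomorphisms of a finite field of characteristic two as combinations of automorphisms
-/

set_option autoImplicit false
set_option linter.unusedSectionVars false

namespace Cfsg.Agent.Lib.Helper20.Suz

variable {F : Type*} [Field F] [Fintype F] [CharP F 2]

noncomputable instance autFintype : Fintype (F ≃+* F) := Fintype.ofFinite _

theorem exists_rep (f : F →+ F) : ∃ c : (F ≃+* F) → F, ∀ x, f x = ∑ σ, c σ * σ x := by
  classical
  obtain ⟨s, c, hc⟩ := (Cfsg.Agent.S1140.result (F := F)).2.1 f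
  refine ⟨fun σ => if σ ∈ s then c σ else 0, fun x => ?_⟩
  rw [hc x]
  simp only [ite_mul, zero_mul]
  rw [Finset.sum_ite_mem, Finset.univ_inter]

theorem rep_unique (c c' : (F ≃+* F) → F) (h : ∀ x, ∑ σ, c σ * σ x = ∑ σ, c' σ * σ x) :
    c = c' := by
  have hli := (Cfsg.Agent.S1140.result (F := F)).1
  rw [Fintype.linearIndependent_iff] at hli
  funext σ
  have := hli (fun σ => c σ - c' σ) (by
    funext x
    simp only [Finset.sum_apply, Pi.smul_apply, smul_eq_mul, Pi.zero_apply, sub_mul]
    rw [Finset.sum_sub_distrib]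
    exact sub_eq_zero.2 (h x)) σ
  exact sub_eq_zero.1 this

/-- the coefficients of an additive map -/
noncomputable def coef (f : F →+ F) : (F ≃+* F) → F := (exists_rep f).choose

theorem coef_spec (f : F →+ F) (x : F) : f x = ∑ σ, coef f σ * σ x := (exists_rep f).choose_spec x

theorem coef_eq (f : F →+ F) (c : (F ≃+* F) → F) (h : ∀ x, f x = ∑ σ, c σ * σ x) : coef f = c :=
  rep_unique _ _ (fun x => by rw [← coef_spec, h])

theorem coef_add (f g : F →+ F) (σ : F ≃+* F) : coef (f + g) σ = coef f σ + coef g σ := by
  have := coef_eq (f + g) (fun σ => coef f σ + coef g σ) (fun x => by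
    simp only [AddMonoidHom.add_apply, add_mul, Finset.sum_add_distrib, ← coef_spec])
  rw [this]

theorem coef_zero (σ : F ≃+* F) : coef (0 : F →+ F) σ = 0 := by
  have := coef_eq (0 : F →+ F) (fun _ => 0) (fun x => by simp)
  rw [this]

theorem eq_zero_of_coef (f : F →+ F) (h : ∀ σ, coef f σ = 0) : f = 0 := by
  ext x
  rw [coef_spec]
  simp [h]

theorem add_self' (x : F) : x + x = 0 := CharTwo.add_self_eq_zero x

/-- rigidity: `a ↦ a / σ a` and `a ↦ a / τ a` are not related by a field endomorphism -/
theorem aut_eq_of_hom (σ τ : F ≃+* F) (hσ : ∃ a, σ a ≠ a) (θ : F →+* F)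
    (h : ∀ a : F, θ a * τ a = a * θ (σ a)) : σ = τ := by
  have hS : ∀ a : F, θ a + τ a = a + θ (σ a) := by
    intro a
    have h1 := h (a + 1)
    simp only [map_add, map_one] at h1
    have h0 := h a
    have h3 : θ a + τ a = a + θ (σ a) := by linear_combination h1 - h0
    exact h3
  have two0 : (2 : F) = 0 := CharTwo.two_eq_zero
  have hor : ∀ a : F, θ a = a ∨ σ a = a := by
    intro a
    have h1 : (θ a + a) * (θ a + θ (σ a)) = 0 := by
      have e1 := hS a
      have e2 := h a
      have e3 : θ (σ a) = θ a + τ a + a := by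
        linear_combination -e1 - a * two0
      rw [e3] at e2 ⊢
      linear_combination e2 + (θ a * θ a + 2 * a * θ a + a * τ a + a * a) * two0
    rcases mul_eq_zero.1 h1 with h3 | h3
    · left
      linear_combination h3 - a * two0
    · right
      have h4 : θ (σ a) = θ a := by
        linear_combination h3 - θ a * two0
      exact θ.injective h4
  have hθ : ∀ a, θ a = a := by
    by_contra hcon
    push Not at hcon
    obtain ⟨x, hx⟩ := hcon
    obtain ⟨y, hy⟩ := hσ
    have hx' : σ x = x := (hor x).resolve_left hx
    have hy' : θ y = y := (hor y).resolve_right hy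
    rcases hor (x + y) with h1 | h1
    · rw [map_add, hy'] at h1
      exact hx (add_right_cancel h1)
    · rw [map_add, hx'] at h1
      exact hy (add_left_cancel h1)
  ext a
  have := hS a
  rw [hθ, hθ] at this
  exact (add_left_cancel this).symm

end Cfsg.Agent.Lib.Helper20.Suz
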