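import Mathlib
import Cfsg.Agent.Lib.Helper20.SuzFld
import Cfsg.Agent.Lib.Helper20.SuzRep
import Cfsg.Agent.Lib.Helper63.SuzSetup

/-!
# The critical configuration in Higman's theorem on Suzuki 2-groups
-/

set_option autoImplicit false
set_option linter.unusedSectionVars false

namespace Cfsg.Agent.Lib.Helper20.Suz

open Cfsg.Agent.Lib.Helper63.Suz

universe u
variable {P : Type u} [Group P]

structure OmCfg (K : Subgroup (MulAut P)) (H N V : Subgroup P) (E b : P → P → P) : Prop where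
  reg : RegV K V
  VN : V ≤ N
  NH : N ≤ H
  HK : KInv K H
  NK : KInv K N
  EV : ∀ x ∈ H, ∀ z ∈ V, E x z ∈ V
  Eml : ∀ x ∈ H, ∀ y ∈ H, ∀ z ∈ V, E (x * y) z = E x z * E y z
  Emr : ∀ x ∈ H, ∀ z ∈ V, ∀ z' ∈ V, E x (z * z') = E x z * E x z'
  EK : ∀ k ∈ K, ∀ x ∈ H, ∀ z ∈ V, E (k x) (k z) = k (E x z)
  Ef : ∀ x ∈ H, (∀ z ∈ V, E x z = 1) → x ∈ N
  EN : ∀ x ∈ N, ∀ z ∈ V, E x z = 1
  N4 : ∀ x ∈ N, x ^ 4 = 1
  p4V : ∀ x ∈ H, x ^ 4 ∈ V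
  bV : ∀ x ∈ H, ∀ y ∈ H, b x y ∈ V
  g2 : ∀ x ∈ H, E x (x ^ 4) = 1
  g3 : ∀ x ∈ H, ∀ y ∈ H, x ^ 4 = 1 → E x (b x y) = b x y
  bmr : ∀ x ∈ H, ∀ y ∈ H, ∀ y' ∈ H, b x (y * y') = b x y * b x y'
  bsymm : ∀ x ∈ H, ∀ y ∈ H, b x y = b y x
  g4 : ∀ x ∈ H, x ∉ N → x ^ 4 = 1 → ∃ y ∈ H, b x y ≠ 1
  g1 : ∀ M : Subgroup P, KInv K M → N ≤ M → M < H →
    (∀ x ∈ M, x ^ 4 = 1) ∧ ∀ x ∈ M, ∀ y ∈ M, b x y = 1
  surj : ∀ k ∈ K, k ≠ 1 → ∀ y ∈ H, ∃ x ∈ H, y = x⁻¹ * k x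
  three : ∃ e e' : P, e ∈ V ∧ e' ∈ V ∧ e ≠ 1 ∧ e' ≠ 1 ∧ e ≠ e'

/-- the coefficient data extracted from the configuration -/
theorem OmCfg.exists_coef [Finite P] {K : Subgroup (MulAut P)} {H N V : Subgroup P}
    {E b : P → P → P} (c : OmCfg K H N V E b) :
    ∃ (F : Type u) (_ : Field F) (_ : Fintype F) (_ : CharP F 2) (φ : V → F) (ρ : K → F)
      (cf : P → (F ≃+* F) → F),
      Function.Bijective φ ∧ (∀ v w, φ (v * w) = φ v + φ w) ∧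
      (∀ k k', ρ (k * k') = ρ k * ρ k') ∧ (∀ k, ρ k ≠ 0) ∧ (∀ a, a ≠ 0 → ∃ k, ρ k = a) ∧
      (∀ x ∈ H, ∀ y ∈ H, ∀ σ, cf (x * y) σ = cf x σ + cf y σ) ∧
      (∀ (k : K), ∀ x ∈ H, ∀ σ, cf ((k : MulAut P) x) σ = ρ k / σ (ρ k) * cf x σ) ∧
      (∀ x ∈ H, (∀ σ, cf x σ = 0) → x ∈ N) ∧
      (∀ x ∈ N, ∀ σ, cf x σ = 0) ∧
      (∀ x (hx : x ∈ H) (z : V), φ ⟨E x z, c.EV x hx z z.2⟩ = ∑ σ, cf x σ * σ (φ z)) := by
  classical
  obtain ⟨e, e', he, -, he1, -, -⟩ := c.three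
  obtain ⟨F, iF, iFt, iC, φ, ρ, hφb, hφm, hφK, hρm, hρ0, hρs⟩ := exists_field c.reg he he1
  let Φ : V ≃ F := Equiv.ofBijective φ hφb
  have hΦ : ∀ v, Φ v = φ v := fun v => rfl
  have hΦs : ∀ a b, Φ.symm (a + b) = Φ.symm a * Φ.symm b := by
    intro a b
    apply Φ.injective
    rw [Φ.apply_symm_apply, hΦ, hφm, ← hΦ, ← hΦ, Φ.apply_symm_apply, Φ.apply_symm_apply]
  have hφ1 : φ 1 = 0 := by
    have := hφm 1 1
    rw [one_mul] at this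
    exact (left_eq_add.mp this)
  let Eh : P → (F →+ F) := fun x => if hx : x ∈ H then
      AddMonoidHom.mk' (fun a => φ ⟨E x (Φ.symm a), c.EV x hx _ (Φ.symm a).2⟩) (by
        intro a a'
        rw [← hφm]
        congr 1
        apply Subtype.ext
        rw [hΦs]
        exact c.Emr x hx _ (Φ.symm a).2 _ (Φ.symm a').2)
    else 0
  have hEh : ∀ x (hx : x ∈ H) (z : V), Eh x (φ z) = φ ⟨E x z, c.EV x hx z z.2⟩ := by
    intro x hx z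
    simp only [Eh, dif_pos hx, AddMonoidHom.mk'_apply]
    have : Φ.symm (φ z) = z := Φ.symm_apply_apply z
    simp only [this]
  have hsurjφ : ∀ a : F, ∃ z : V, φ z = a := hφb.2
  refine ⟨F, iF, iFt, iC, φ, ρ, fun x => coef (Eh x), hφb, hφm, hρm, hρ0, hρs, ?_, ?_, ?_, ?_, ?_⟩
  · intro x hx y hy σ
    have : Eh (x * y) = Eh x + Eh y := by
      ext a
      obtain ⟨z, rfl⟩ := hsurjφ a
      rw [AddMonoidHom.add_apply, hEh _ (H.mul_mem hx hy), hEh _ hx, hEh _ hy, ← hφm]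
      congr 1
      exact Subtype.ext (c.Eml x hx y hy z z.2)
    change coef (Eh (x * y)) σ = coef (Eh x) σ + coef (Eh y) σ
    rw [this, coef_add]
  · intro k x hx σ
    have hkx : (k : MulAut P) x ∈ H := c.HK k k.2 x hx
    have h1 : ∀ a, Eh ((k : MulAut P) x) a = ρ k * Eh x (a / ρ k) := by
      intro a
      obtain ⟨z, hz⟩ := hsurjφ (a / ρ k)
      have ha : a = φ (resHom c.reg k z) := by
        rw [hφK, hz, mul_div_cancel₀ _ (hρ0 k)]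
      rw [← hz, hEh _ hx, ha, hEh _ hkx, ← hφK]
      congr 1
      exact Subtype.ext (c.EK k k.2 x hx z z.2)
    have := coef_eq (Eh ((k : MulAut P) x)) (fun σ => ρ k / σ (ρ k) * coef (Eh x) σ) (by
      intro a
      rw [h1, coef_spec, Finset.mul_sum]
      apply Finset.sum_congr rfl
      intro σ _
      rw [map_div₀]
      have : σ (ρ k) ≠ 0 := by
        rw [Ne, map_eq_zero_iff σ σ.injective]; exact hρ0 k
      field_simp)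
    change coef (Eh ((k : MulAut P) x)) σ = ρ k / σ (ρ k) * coef (Eh x) σ
    rw [this]
  · intro x hx h0
    apply c.Ef x hx
    intro z hz
    have h1 := eq_zero_of_coef _ h0
    have h2 := hEh x hx ⟨z, hz⟩
    rw [h1, AddMonoidHom.zero_apply, ← hφ1] at h2
    exact (congrArg Subtype.val (hφb.1 h2)).symm
  · intro x hx σ
    have : Eh x = 0 := by
      ext a
      obtain ⟨z, rfl⟩ := hsurjφ a
      rw [hEh _ (c.NH hx), AddMonoidHom.zero_apply, ← hφ1]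
      congr 1
      exact Subtype.ext (c.EN x hx z z.2)
    change coef (Eh x) σ = 0
    rw [this, coef_zero]
  · intro x hx z
    rw [← hEh x hx, coef_spec]

theorem OmCfg.pow_four [Finite P] {K : Subgroup (MulAut P)} {H N V : Subgroup P}
    {E b : P → P → P} (c : OmCfg K H N V E b) : ∀ x ∈ H, x ^ 4 = 1 := by
  classical
  obtain ⟨F, iF, iFt, iC, φ, ρ, cf, hφb, hφm, hρm, hρ0, hρs, hc1, hc2, hc3, hcN, hc4⟩ :=
    c.exists_coef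
  by_contra hcon
  push Not at hcon
  obtain ⟨x₀, hx₀, hx₀4⟩ := hcon
  have hφ1 : φ 1 = 0 := by
    have := hφm 1 1
    rw [one_mul] at this
    exact (left_eq_add.mp this)
  have hcf1 : ∀ σ, cf 1 σ = 0 := fun σ => hcN 1 N.one_mem σ
  have hcfinv : ∀ x ∈ H, ∀ σ, cf x⁻¹ σ = cf x σ := by
    intro x hx σ
    have := hc1 x hx x⁻¹ (H.inv_mem hx) σ
    rw [mul_inv_cancel, hcf1] at this
    exact (CharTwo.add_eq_zero.1 this.symm).symm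
  have hρ1 : ρ 1 = 1 := by
    have := hρm 1 1
    rw [one_mul] at this
    exact (mul_eq_left₀ (hρ0 1)).1 this.symm
  have hρinv : ∀ k, ρ k⁻¹ = (ρ k)⁻¹ := by
    intro k
    have := hρm k k⁻¹
    rw [mul_inv_cancel, hρ1] at this
    exact eq_inv_of_mul_eq_one_right this.symm
  let M : (F ≃+* F) → Subgroup P := fun σ =>
    { carrier := {x | x ∈ H ∧ cf x σ = 0}
      mul_mem' := by
        rintro x y ⟨hx, hx0⟩ ⟨hy, hy0⟩
        exact ⟨H.mul_mem hx hy, by rw [hc1 x hx y hy, hx0, hy0, add_zero]⟩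
      one_mem' := ⟨H.one_mem, hcf1 σ⟩
      inv_mem' := by
        rintro x ⟨hx, hx0⟩
        exact ⟨H.inv_mem hx, by rw [hcfinv x hx, hx0]⟩ }
  have hM : ∀ σ x, x ∈ M σ ↔ (x ∈ H ∧ cf x σ = 0) := fun σ x => Iff.rfl
  have hMK : ∀ σ, KInv K (M σ) := by
    intro σ k hk x hx
    exact ⟨c.HK k hk x hx.1, by rw [hc2 ⟨k, hk⟩ x hx.1, hx.2, mul_zero]⟩
  have hNM : ∀ σ, N ≤ M σ := fun σ x hx => ⟨c.NH hx, hcN x hx σ⟩
  have hMH : ∀ σ, M σ ≤ H := fun σ x hx => hx.1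
  have hJ : ∀ σ, (∃ x ∈ H, cf x σ ≠ 0) →
      (∀ x ∈ M σ, x ^ 4 = 1) ∧ ∀ x ∈ M σ, ∀ y ∈ M σ, b x y = 1 := by
    rintro σ ⟨x, hx, hxσ⟩
    apply c.g1 (M σ) (hMK σ) (hNM σ)
    exact lt_of_le_not_ge (hMH σ) (fun hle => hxσ (hle hx).2)
  obtain ⟨k₁, hk₁⟩ : ∃ k₁ : K, k₁ ≠ 1 := by
    obtain ⟨e, e', he, he', he1, he'1, hee⟩ := c.three
    obtain ⟨k, hk, hke⟩ := c.reg.tr e he e' he' he1 he'1
    refine ⟨⟨k, hk⟩, fun h => hee ?_⟩
    have : k = 1 := congrArg Subtype.val h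
    rw [← hke, this]; rfl
  have hχ : ∀ σ, (∃ x ∈ H, cf x σ ≠ 0) → ∀ k : K, ρ k / σ (ρ k) = 1 → k = 1 := by
    rintro σ ⟨x, hx, hxσ⟩ k hk
    by_contra hk1
    obtain ⟨y, hy, hxy⟩ := c.surj k k.2 (fun h => hk1 (Subtype.ext h)) x hx
    apply hxσ
    rw [hxy, hc1 _ (H.inv_mem hy) _ (c.HK k k.2 y hy), hcfinv y hy, hc2 k y hy, hk, one_mul]
    exact CharTwo.add_self_eq_zero _
  have hσ0 : ∀ (σ : F ≃+* F) (a : F), a ≠ 0 → σ a ≠ 0 := by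
    intro σ a ha
    rw [Ne, map_eq_zero_iff σ σ.injective]; exact ha
  have hμinj : ∀ σ, (∃ x ∈ H, cf x σ ≠ 0) → ∀ a a' : F, a ≠ 0 → a' ≠ 0 →
      a / σ a = a' / σ a' → a = a' := by
    intro σ hσ a a' ha ha' h
    obtain ⟨k, rfl⟩ := hρs a ha
    obtain ⟨k', rfl⟩ := hρs a' ha'
    have h1 : k * k'⁻¹ = 1 := by
      apply hχ σ hσ
      rw [hρm, hρinv, map_mul, map_inv₀]
      have n1 := hσ0 σ _ ha
      have n2 := hσ0 σ _ ha'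
      rw [div_eq_div_iff n1 n2] at h
      field_simp
      exact h
    rw [mul_inv_eq_one.1 h1]
  have hμsurj : ∀ σ, (∃ x ∈ H, cf x σ ≠ 0) → ∀ y : F, y ≠ 0 → ∃ k : K, ρ k / σ (ρ k) = y := by
    intro σ hσ y hy
    let g : {a : F // a ≠ 0} → {a : F // a ≠ 0} :=
      fun a => ⟨a.1 / σ a.1, div_ne_zero a.2 (hσ0 σ _ a.2)⟩
    have hg : Function.Injective g := by
      intro a a' h
      exact Subtype.ext (hμinj σ hσ a.1 a'.1 a.2 a'.2 (congrArg Subtype.val h))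
    obtain ⟨a, ha⟩ := (Finite.injective_iff_surjective.1 hg) ⟨y, hy⟩
    obtain ⟨k, hk⟩ := hρs a.1 a.2
    exact ⟨k, by rw [hk]; exact congrArg Subtype.val ha⟩
  have hfull : ∀ σ (L : Subgroup P), KInv K L → L ≤ H → (∃ x ∈ L, cf x σ ≠ 0) →
      ∀ a : F, ∃ x ∈ L, cf x σ = a := by
    rintro σ L hLK hLH ⟨x, hx, hxσ⟩ a
    by_cases ha : a = 0
    · exact ⟨1, L.one_mem, by rw [hcf1, ha]⟩
    · obtain ⟨k, hk⟩ := hμsurj σ ⟨x, hLH hx, hxσ⟩ (a / cf x σ) (div_ne_zero ha hxσ)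
      exact ⟨(k : MulAut P) x, hLK k k.2 x hx, by
        rw [hc2 k x (hLH hx), hk, div_mul_cancel₀ _ hxσ]⟩
  have hFL : ∀ (σ τ : F ≃+* F) (L : Subgroup P), KInv K L → L ≤ H → (∃ x ∈ L, cf x τ ≠ 0) →
      (∀ x ∈ L, cf x σ = 0 → cf x τ = 0) → σ = τ := by
    rintro σ τ L hLK hLH ⟨y, hyL, hyτ⟩ himp
    have hyσ : cf y σ ≠ 0 := fun h0 => hyτ (himp y hyL h0)
    have hσL : ∃ x ∈ L, cf x σ ≠ 0 := ⟨y, hyL, hyσ⟩
    have hσH : ∃ x ∈ H, cf x σ ≠ 0 := ⟨y, hLH hyL, hyσ⟩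
    have hX := hfull σ L hLK hLH hσL
    choose X hXL hXσ using hX
    have hwd : ∀ x ∈ L, ∀ x' ∈ L, cf x σ = cf x' σ → cf x τ = cf x' τ := by
      intro x hx x' hx' h
      have h1 : cf (x * x'⁻¹) σ = 0 := by
        rw [hc1 x (hLH hx) _ (H.inv_mem (hLH hx')), hcfinv x' (hLH hx'), h]
        exact CharTwo.add_self_eq_zero _
      have h2 := himp _ (L.mul_mem hx (L.inv_mem hx')) h1
      rw [hc1 x (hLH hx) _ (H.inv_mem (hLH hx')), hcfinv x' (hLH hx')] at h2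
      exact CharTwo.add_eq_zero.1 h2
    have hd : cf (X 1) τ ≠ 0 := by
      intro hd0
      apply hyτ
      obtain ⟨k, hk⟩ := hμsurj σ hσH (cf y σ) hyσ
      have : cf y τ = cf ((k : MulAut P) (X 1)) τ :=
        hwd y hyL _ (hLK k k.2 _ (hXL 1)) (by rw [hc2 k _ (hLH (hXL 1)), hXσ, hk, mul_one])
      rw [this, hc2 k _ (hLH (hXL 1)), hd0, mul_zero]
    let θf : F → F := fun a => cf (X a) τ / cf (X 1) τ
    have θadd : ∀ a a', θf (a + a') = θf a + θf a' := by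
      intro a a'
      have : cf (X (a + a')) τ = cf (X a * X a') τ :=
        hwd _ (hXL _) _ (L.mul_mem (hXL a) (hXL a')) (by
          rw [hXσ, hc1 _ (hLH (hXL a)) _ (hLH (hXL a')), hXσ, hXσ])
      change cf (X (a + a')) τ / _ = cf (X a) τ / _ + cf (X a') τ / _
      rw [this, hc1 _ (hLH (hXL a)) _ (hLH (hXL a')), add_div]
    have θone : θf 1 = 1 := div_self hd
    have θzero : θf 0 = 0 := by
      have := θadd 0 0
      rw [add_zero] at this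
      exact (left_eq_add.mp this)
    have θscal : ∀ (k : K) a, θf (ρ k / σ (ρ k) * a) = ρ k / τ (ρ k) * θf a := by
      intro k a
      have : cf (X (ρ k / σ (ρ k) * a)) τ = cf ((k : MulAut P) (X a)) τ :=
        hwd _ (hXL _) _ (hLK k k.2 _ (hXL a)) (by rw [hXσ, hc2 k _ (hLH (hXL a)), hXσ])
      change cf (X (ρ k / σ (ρ k) * a)) τ / _ = ρ k / τ (ρ k) * (cf (X a) τ / _)
      rw [this, hc2 k _ (hLH (hXL a)), mul_div_assoc]
    have θmul : ∀ a a', θf (a * a') = θf a * θf a' := by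
      intro a a'
      by_cases ha : a = 0
      · rw [ha, zero_mul, θzero, zero_mul]
      · obtain ⟨k, rfl⟩ := hμsurj σ hσH a ha
        have h1 := θscal k 1
        rw [mul_one, θone, mul_one] at h1
        rw [θscal, h1]
    let θ : F →+* F :=
      { toFun := θf, map_one' := θone, map_mul' := θmul, map_zero' := θzero, map_add' := θadd }
    apply aut_eq_of_hom σ τ ?_ θ ?_
    · by_contra hall
      push Not at hall
      exact hk₁ (hχ σ hσH k₁ (by rw [hall, div_self (hρ0 _)]))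
    · intro a
      by_cases ha : a = 0
      · simp [ha]
      · obtain ⟨k, rfl⟩ := hρs a ha
        have h1 : θ (ρ k / σ (ρ k)) = ρ k / τ (ρ k) := by
          have := θscal k 1
          rwa [mul_one, θone, mul_one] at this
        rw [map_div₀] at h1
        have hn1 : θ (σ (ρ k)) ≠ 0 := by
          rw [Ne, map_eq_zero_iff θ θ.injective]; exact hσ0 σ _ ha
        rw [div_eq_div_iff hn1 (hσ0 τ _ ha)] at h1
        exact h1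
  have hx₀N : x₀ ∉ N := fun h => hx₀4 (c.N4 x₀ h)
  obtain ⟨σ, hσ⟩ : ∃ σ, cf x₀ σ ≠ 0 := by
    by_contra hall
    push Not at hall
    exact hx₀N (hc3 x₀ hx₀ hall)
  have hσJ : ∃ x ∈ H, cf x σ ≠ 0 := ⟨x₀, hx₀, hσ⟩
  obtain ⟨τ, hτσ, hτ⟩ : ∃ τ, τ ≠ σ ∧ cf x₀ τ ≠ 0 := by
    by_contra hall
    push Not at hall
    have h1 := hc4 x₀ hx₀ ⟨x₀ ^ 4, c.p4V x₀ hx₀⟩
    rw [Finset.sum_eq_single σ (fun τ _ hτ => by rw [hall τ hτ, zero_mul]) (by simp)] at h1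
    have h2 : (⟨E x₀ (x₀ ^ 4), c.EV x₀ hx₀ _ (c.p4V x₀ hx₀)⟩ : V) = 1 :=
      Subtype.ext (c.g2 x₀ hx₀)
    rw [h2, hφ1] at h1
    rcases mul_eq_zero.1 h1.symm with h3 | h3
    · exact hσ h3
    · have h4 : φ ⟨x₀ ^ 4, c.p4V x₀ hx₀⟩ = 0 := (map_eq_zero_iff σ σ.injective).1 h3
      rw [← hφ1] at h4
      exact hx₀4 (congrArg Subtype.val (hφb.1 h4))
  have hτJ : ∃ x ∈ H, cf x τ ≠ 0 := ⟨x₀, hx₀, hτ⟩
  have h1 : ∃ x ∈ M σ, cf x τ ≠ 0 := by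
    by_contra hall
    push Not at hall
    exact hτσ (hFL σ τ H c.HK le_rfl hτJ (fun x hx h0 => hall x ⟨hx, h0⟩)).symm
  have h2 : ∃ x ∈ M τ, cf x σ ≠ 0 := by
    by_contra hall
    push Not at hall
    exact hτσ (hFL τ σ H c.HK le_rfl hσJ (fun x hx h0 => hall x ⟨hx, h0⟩))
  have hdec : ∀ y ∈ H, ∃ u' ∈ M σ, y * u'⁻¹ ∈ M τ := by
    intro y hy
    obtain ⟨u', hu', hu'τ⟩ := hfull τ (M σ) (hMK σ) (hMH σ) h1 (cf y τ)
    refine ⟨u', hu', H.mul_mem hy (H.inv_mem hu'.1), ?_⟩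
    rw [hc1 y hy _ (H.inv_mem hu'.1), hcfinv u' hu'.1, hu'τ]
    exact CharTwo.add_self_eq_zero _
  have hint : ∀ d, d ∈ M σ → d ∈ M τ → d ∈ N := by
    intro d hdσ hdτ
    by_contra hdN
    obtain ⟨y, hy, hby⟩ := c.g4 d hdσ.1 hdN ((hJ σ hσJ).1 d hdσ)
    obtain ⟨u', hu', hyu⟩ := hdec y hy
    apply hby
    have : y = (y * u'⁻¹) * u' := by group
    rw [this, c.bmr d hdσ.1 _ hyu.1 _ hu'.1, (hJ τ hτJ).2 d hdτ _ hyu,
      (hJ σ hσJ).2 d hdσ _ hu', one_mul]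
  have hsupτ : ∀ u ∈ M τ, ∀ π, π ≠ σ → cf u π = 0 := by
    intro u hu π hπ
    by_contra hne
    exact hπ (hFL σ π (M τ) (hMK τ) (hMH τ) ⟨u, hu, hne⟩
      (fun x hx h0 => hcN x (hint x ⟨hx.1, h0⟩ hx) π)).symm
  have hsupσ : ∀ u ∈ M σ, ∀ π, π ≠ τ → cf u π = 0 := by
    intro u hu π hπ
    by_contra hne
    exact hπ (hFL τ π (M σ) (hMK σ) (hMH σ) ⟨u, hu, hne⟩
      (fun x hx h0 => hcN x (hint x hx ⟨hx.1, h0⟩) π)).symm
  have hEτ : ∀ u (hu : u ∈ M τ) (z : V),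
      φ ⟨E u z, c.EV u hu.1 z z.2⟩ = cf u σ * σ (φ z) := by
    intro u hu z
    rw [hc4 u hu.1 z, Finset.sum_eq_single σ
      (fun π _ hπ => by rw [hsupτ u hu π hπ, zero_mul]) (by simp)]
  have hEσ : ∀ u (hu : u ∈ M σ) (z : V),
      φ ⟨E u z, c.EV u hu.1 z z.2⟩ = cf u τ * τ (φ z) := by
    intro u hu z
    rw [hc4 u hu.1 z, Finset.sum_eq_single τ
      (fun π _ hπ => by rw [hsupσ u hu π hπ, zero_mul]) (by simp)]
  obtain ⟨u, hu, huσ⟩ := h2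
  have huN : u ∉ N := fun h => huσ (hcN u h σ)
  have hu4 := (hJ τ hτJ).1 u hu
  obtain ⟨y, hy, hby⟩ := c.g4 u hu.1 huN hu4
  obtain ⟨u₁, hu₁, hyu⟩ := hdec y hy
  have hb1 : b u u₁ ≠ 1 := by
    intro h
    apply hby
    have : y = (y * u₁⁻¹) * u₁ := by group
    rw [this, c.bmr u hu.1 _ hyu.1 _ hu₁.1, (hJ τ hτJ).2 u hu _ hyu, h, one_mul]
  obtain ⟨a, ha0, ha1⟩ : ∃ a : F, a ≠ 0 ∧ a ≠ cf u₁ τ := by
    obtain ⟨e, e', he, he', he1, he'1, hee⟩ := c.three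
    have n1 : φ ⟨e, he⟩ ≠ 0 := by
      intro h; rw [← hφ1] at h; exact he1 (congrArg Subtype.val (hφb.1 h))
    have n2 : φ ⟨e', he'⟩ ≠ 0 := by
      intro h; rw [← hφ1] at h; exact he'1 (congrArg Subtype.val (hφb.1 h))
    by_cases h : φ ⟨e, he⟩ = cf u₁ τ
    · refine ⟨φ ⟨e', he'⟩, n2, fun h' => hee ?_⟩
      exact congrArg Subtype.val (hφb.1 (h.trans h'.symm))
    · exact ⟨_, n1, h⟩
  obtain ⟨w, hw, hwτ⟩ := hfull τ (M σ) (hMK σ) (hMH σ) h1 a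
  obtain ⟨u₂, hu₂, hb2, hne⟩ : ∃ u₂ ∈ M σ, b u u₂ ≠ 1 ∧ cf u₂ τ ≠ cf u₁ τ := by
    by_cases hbw : b u w = 1
    · refine ⟨u₁ * w, (M σ).mul_mem hu₁ hw, ?_, ?_⟩
      · rw [c.bmr u hu.1 _ hu₁.1 _ hw.1, hbw, mul_one]; exact hb1
      · rw [hc1 _ hu₁.1 _ hw.1, hwτ]
        intro h
        exact ha0 (by simpa using h)
    · exact ⟨w, hw, hbw, by rw [hwτ]; exact ha1⟩
  have key : ∀ u' ∈ M σ, b u u' ≠ 1 →
      ∃ β : F, β ≠ 0 ∧ β / σ β = cf u σ ∧ β / τ β = cf u' τ := by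
    intro u' hu' hb
    have hbV : b u u' ∈ V := c.bV u hu.1 u' hu'.1
    have hβ0 : φ ⟨b u u', hbV⟩ ≠ 0 := by
      intro h; rw [← hφ1] at h; exact hb (congrArg Subtype.val (hφb.1 h))
    refine ⟨φ ⟨b u u', hbV⟩, hβ0, ?_, ?_⟩
    · have h := hEτ u hu ⟨b u u', hbV⟩
      have h' : (⟨E u (b u u'), c.EV u hu.1 _ hbV⟩ : V) = ⟨b u u', hbV⟩ :=
        Subtype.ext (c.g3 u hu.1 u' hu'.1 hu4)
      rw [h'] at h
      rw [div_eq_iff (hσ0 σ _ hβ0)]; exact h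
    · have h := hEσ u' hu' ⟨b u u', hbV⟩
      have h' : (⟨E u' (b u u'), c.EV u' hu'.1 _ hbV⟩ : V) = ⟨b u u', hbV⟩ :=
        Subtype.ext (by
          have := c.g3 u' hu'.1 u hu.1 ((hJ σ hσJ).1 u' hu')
          rw [c.bsymm u' hu'.1 u hu.1] at this
          exact this)
      rw [h'] at h
      rw [div_eq_iff (hσ0 τ _ hβ0)]; exact h
  obtain ⟨β₁, h10, h11, h12⟩ := key u₁ hu₁ hb1
  obtain ⟨β₂, h20, h21, h22⟩ := key u₂ hu₂ hb2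
  have hββ : β₁ = β₂ := hμinj σ hσJ β₁ β₂ h10 h20 (h11.trans h21.symm)
  apply hne
  rw [← h12, ← h22, hββ]

end Cfsg.Agent.Lib.Helper20.Suz
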