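import Mathlib
import Cfsg.Agent.Lib.Helper63.SuzCenter
import Cfsg.Agent.Lib.Helper24.PGroup2

/-!
# Higman's theorem on Suzuki 2-groups: the second centre modulo the involutions
-/

set_option autoImplicit false
set_option linter.unusedSectionVars false

namespace Cfsg.Agent.Lib.Helper20.Suz

open Cfsg.Agent.Lib.Helper63.Suz
open scoped commutatorElement

variable {P : Type*} [Group P]

theorem cml (x y g : P) (h : ∀ a : P, a * ⁅y, g⁆ = ⁅y, g⁆ * a) : ⁅x * y, g⁆ = ⁅x, g⁆ * ⁅y, g⁆ := by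
  have h1 := h x
  have h2 := h ⁅x, g⁆
  rw [h2]
  rw [commutatorElement_def] at h1
  simp only [commutatorElement_def]
  calc x * y * g * (x * y)⁻¹ * g⁻¹ = (x * (y * g * y⁻¹ * g⁻¹)) * g * x⁻¹ * g⁻¹ := by group
    _ = ((y * g * y⁻¹ * g⁻¹) * x) * g * x⁻¹ * g⁻¹ := by rw [h1]
    _ = y * g * y⁻¹ * g⁻¹ * (x * g * x⁻¹ * g⁻¹) := by group

theorem cmr (x g g' : P) (h : ∀ a : P, a * ⁅x, g'⁆ = ⁅x, g'⁆ * a) :
    ⁅x, g * g'⁆ = ⁅x, g⁆ * ⁅x, g'⁆ := by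
  have h1 := h g
  rw [commutatorElement_def] at h1
  simp only [commutatorElement_def]
  calc x * (g * g') * x⁻¹ * (g * g')⁻¹ = x * g * x⁻¹ * g⁻¹ * (g * (x * g' * x⁻¹ * g'⁻¹)) * g⁻¹ := by
        group
    _ = x * g * x⁻¹ * g⁻¹ * ((x * g' * x⁻¹ * g'⁻¹) * g) * g⁻¹ := by rw [h1]
    _ = x * g * x⁻¹ * g⁻¹ * (x * g' * x⁻¹ * g'⁻¹) := by group

theorem cinvl (x g : P) (h : ∀ a : P, a * ⁅x, g⁆ = ⁅x, g⁆ * a) : ⁅x⁻¹, g⁆ = ⁅x, g⁆⁻¹ := by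
  have h1 := h x⁻¹
  rw [commutatorElement_def] at h1 ⊢
  rw [commutatorElement_def]
  calc x⁻¹ * g * x⁻¹⁻¹ * g⁻¹ = ((x⁻¹ * (x * g * x⁻¹ * g⁻¹)) * x)⁻¹ := by group
    _ = (((x * g * x⁻¹ * g⁻¹) * x⁻¹) * x)⁻¹ := by rw [h1]
    _ = (x * g * x⁻¹ * g⁻¹)⁻¹ := by group

variable [Finite P] {K : Subgroup (MulAut P)}

theorem Vc (h : Setup K) {v : P} (hv : v ∈ h.V) : ∀ a : P, a * v = v * a := h.central hv

theorem Vinv (h : Setup K) {v : P} (hv : v ∈ h.V) : v⁻¹ = v := inv_eq_of_mul_eq_one_left hv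

theorem VK (h : Setup K) : KInv K h.V := fun k hk v hv => h.regV.inv k hk v hv

/-- the preimage in `H` of the centre of `H / V` -/
def Yy (h : Setup K) (H : Subgroup P) : Subgroup P where
  carrier := {x | x ∈ H ∧ ∀ g ∈ H, ⁅x, g⁆ ∈ h.V}
  one_mem' := ⟨H.one_mem, fun g _ => by rw [commutatorElement_one_left]; exact Subgroup.one_mem _⟩
  mul_mem' := by
    rintro x y ⟨hx, hx'⟩ ⟨hy, hy'⟩
    refine ⟨H.mul_mem hx hy, fun g hg => ?_⟩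
    rw [cml x y g (Vc h (hy' g hg))]
    exact Subgroup.mul_mem _ (hx' g hg) (hy' g hg)
  inv_mem' := by
    rintro x ⟨hx, hx'⟩
    refine ⟨H.inv_mem hx, fun g hg => ?_⟩
    rw [cinvl x g (Vc h (hx' g hg))]
    exact Subgroup.inv_mem _ (hx' g hg)

/-- the preimage in `H` of `Ω₁(Z(H / V))` -/
def Z2 (h : Setup K) (H : Subgroup P) : Subgroup P where
  carrier := {x | x ∈ Yy h H ∧ x * x ∈ h.V}
  one_mem' := ⟨Subgroup.one_mem _, by rw [one_mul]; exact Subgroup.one_mem _⟩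
  mul_mem' := by
    rintro x y ⟨hx, hx'⟩ ⟨hy, hy'⟩
    refine ⟨Subgroup.mul_mem _ hx hy, ?_⟩
    have h1 : x * y * (x * y) = (x * x) * ⁅x⁻¹, y⁆ * (y * y) := by
      rw [commutatorElement_def]; group
    rw [h1]
    exact Subgroup.mul_mem _ (Subgroup.mul_mem _ hx' (((Yy h H).inv_mem hx).2 y hy.1)) hy'
  inv_mem' := by
    rintro x ⟨hx, hx'⟩
    refine ⟨Subgroup.inv_mem _ hx, ?_⟩
    rw [← mul_inv_rev]
    exact Subgroup.inv_mem _ hx'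

theorem mem_Z2 (h : Setup K) {H : Subgroup P} {x : P} :
    x ∈ Z2 h H ↔ x ∈ H ∧ (∀ g ∈ H, ⁅x, g⁆ ∈ h.V) ∧ x * x ∈ h.V :=
  ⟨fun hx => ⟨hx.1.1, hx.1.2, hx.2⟩, fun hx => ⟨⟨hx.1, hx.2.1⟩, hx.2.2⟩⟩

theorem Z2_le (h : Setup K) (H : Subgroup P) : Z2 h H ≤ H := fun _ hx => hx.1.1

theorem V_le_Z2 (h : Setup K) {H : Subgroup P} (hVH : h.V ≤ H) : h.V ≤ Z2 h H := by
  intro v hv
  rw [mem_Z2]
  refine ⟨hVH hv, fun g _ => ?_, ?_⟩
  · have : ⁅v, g⁆ = 1 := by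
      rw [commutatorElement_eq_one_iff_mul_comm]; exact (Vc h hv g).symm
    rw [this]; exact Subgroup.one_mem _
  · have : v * v = 1 := hv
    rw [this]; exact Subgroup.one_mem _

theorem Z2_K (h : Setup K) {H : Subgroup P} (hH : KInv K H) : KInv K (Z2 h H) := by
  intro k hk x hx
  rw [mem_Z2] at hx ⊢
  refine ⟨hH k hk x hx.1, fun g hg => ?_, ?_⟩
  · have h1 : ⁅k x, g⁆ = k ⁅x, k⁻¹ g⁆ := by
      rw [map_commutatorElement, MulAut.apply_inv_self]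
    rw [h1]
    exact VK h k hk _ (hx.2.1 _ (hH.inv_mem hk hg))
  · rw [← map_mul]
    exact VK h k hk _ hx.2.2

/-- the centralizer in `H` of `Z2` -/
def Cc (h : Setup K) (H : Subgroup P) : Subgroup P := H ⊓ Subgroup.centralizer (Z2 h H : Set P)

theorem mem_Cc (h : Setup K) {H : Subgroup P} {x : P} :
    x ∈ Cc h H ↔ x ∈ H ∧ ∀ w ∈ Z2 h H, w * x = x * w := by
  rw [Cc, Subgroup.mem_inf, Subgroup.mem_centralizer_iff]
  rfl

theorem Cc_K (h : Setup K) {H : Subgroup P} (hH : KInv K H) : KInv K (Cc h H) := by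
  intro k hk x hx
  rw [mem_Cc] at hx ⊢
  refine ⟨hH k hk x hx.1, fun w hw => ?_⟩
  have h1 := hx.2 (k⁻¹ w) ((Z2_K h hH).inv_mem hk hw)
  have h2 := congrArg k h1
  rw [map_mul, map_mul, MulAut.apply_inv_self] at h2
  exact h2

theorem sq_mem_Cc (h : Setup K) {H : Subgroup P} {x : P} (hx : x ∈ H) : x * x ∈ Cc h H := by
  rw [mem_Cc]
  refine ⟨H.mul_mem hx hx, fun w hw => ?_⟩
  have hv := (mem_Z2 h).1 hw |>.2.1 x hx
  have hv2 : ⁅w, x⁆ * ⁅w, x⁆ = 1 := hv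
  have hc := Vc h hv
  have e1 : w * x = ⁅w, x⁆ * x * w := by rw [commutatorElement_def]; group
  calc w * (x * x) = (w * x) * x := by group
    _ = ⁅w, x⁆ * x * (w * x) := by rw [e1]; group
    _ = ⁅w, x⁆ * x * (⁅w, x⁆ * x * w) := by rw [← e1]
    _ = ⁅w, x⁆ * (x * ⁅w, x⁆) * x * w := by group
    _ = ⁅w, x⁆ * (⁅w, x⁆ * x) * x * w := by rw [hc x]
    _ = (⁅w, x⁆ * ⁅w, x⁆) * x * x * w := by group
    _ = x * x * w := by rw [hv2, one_mul]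

theorem comm_mem_Cc (h : Setup K) {H : Subgroup P} {x y : P} (hx : x ∈ H) (hy : y ∈ H) :
    ⁅x, y⁆ ∈ Cc h H := by
  rw [comm_eq_squares]
  exact Subgroup.mul_mem _ (Subgroup.mul_mem _ (sq_mem_Cc h (H.mul_mem hx hy))
    (sq_mem_Cc h (H.mul_mem (H.mul_mem (H.inv_mem hy) (H.inv_mem hx)) hy)))
    (sq_mem_Cc h (H.inv_mem hy))

theorem conj_mem_Z2 (h : Setup K) {H : Subgroup P} (hVH : h.V ≤ H) {g w : P} (hg : g ∈ H)
    (hw : w ∈ Z2 h H) : g * w * g⁻¹ ∈ Z2 h H := by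
  have h1 : g * w * g⁻¹ = ⁅w, g⁆⁻¹ * w := by rw [commutatorElement_def]; group
  rw [h1]
  exact Subgroup.mul_mem _ (Subgroup.inv_mem _ (V_le_Z2 h hVH ((mem_Z2 h).1 hw |>.2.1 g hg))) hw

theorem conj_mem_Cc (h : Setup K) {H : Subgroup P} (hVH : h.V ≤ H) {g c : P} (hg : g ∈ H)
    (hc : c ∈ Cc h H) : g * c * g⁻¹ ∈ Cc h H := by
  rw [mem_Cc] at hc ⊢
  refine ⟨H.mul_mem (H.mul_mem hg hc.1) (H.inv_mem hg), fun w hw => ?_⟩
  have h1 := hc.2 (g⁻¹ * w * g⁻¹⁻¹) (conj_mem_Z2 h hVH (H.inv_mem hg) hw)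
  calc w * (g * c * g⁻¹) = g * ((g⁻¹ * w * g⁻¹⁻¹) * c) * g⁻¹ := by group
    _ = g * (c * (g⁻¹ * w * g⁻¹⁻¹)) * g⁻¹ := by rw [h1]
    _ = g * c * g⁻¹ * w := by group

theorem le_normalizer_of_conj {H D : Subgroup P} (hD : ∀ g ∈ H, ∀ c ∈ D, g * c * g⁻¹ ∈ D) :
    H ≤ Subgroup.normalizer (D : Set P) := by
  intro g hg
  rw [Subgroup.mem_normalizer_iff]
  intro n
  refine ⟨fun hn => hD g hg n hn, fun hn => ?_⟩
  have := hD g⁻¹ (H.inv_mem hg) _ hn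
  have e : g⁻¹ * (g * n * g⁻¹) * g⁻¹⁻¹ = n := by group
  rwa [e] at this

/-- a subgroup `D ≰ V` of `H`, normalized by `H`, meets `Z2` outside `V` -/
theorem exists_mem_Z2 (h : Setup K) {H D : Subgroup P} (hDH : D ≤ H)
    (hD : ∀ g ∈ H, ∀ c ∈ D, g * c * g⁻¹ ∈ D) (hDV : ¬ D ≤ h.V) :
    ∃ x ∈ D, x ∈ Z2 h H ∧ x ∉ h.V := by
  classical
  haveI : Fact (Nat.Prime 2) := ⟨Nat.prime_two⟩
  have hnil : Group.IsNilpotent H := (h.two.to_subgroup H).isNilpotent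
  obtain ⟨f, hfD, hfV, hfc⟩ :=
    Cfsg.Agent.Lib.Helper24.exists_central_mod hnil hDH (le_normalizer_of_conj hD) hDV
  have hfY : f ∈ Yy h H := ⟨hDH hfD, hfc⟩
  have hex : ∃ n : ℕ, f ^ (2 ^ n) ∈ h.V := by
    obtain ⟨n, hn⟩ := h.two f
    exact ⟨n, by rw [hn]; exact Subgroup.one_mem _⟩
  have hs := Nat.find_spec hex
  have hm := fun m => Nat.find_min hex (m := m)
  obtain ⟨j, hj⟩ : ∃ j, Nat.find hex = j + 1 := by
    rcases Nat.eq_zero_or_eq_succ_pred (Nat.find hex) with h0 | h1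
    · rw [h0] at hs; simp at hs; exact absurd hs hfV
    · exact ⟨_, h1⟩
  refine ⟨f ^ (2 ^ j), D.pow_mem hfD _, ⟨Subgroup.pow_mem _ hfY _, ?_⟩, hm j (by omega)⟩
  rw [pow_two_pow_mul_self, ← hj]
  exact hs

end Cfsg.Agent.Lib.Helper20.Suz
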