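import Mathlib
import Cfsg.Agent.Lib.Helper20.SuzT1

/-!
# Higman's theorem on Suzuki 2-groups: the operators `E_x`
-/

set_option autoImplicit false
set_option linter.unusedSectionVars false

namespace Cfsg.Agent.Lib.Helper20.Suz

open Cfsg.Agent.Lib.Helper63.Suz
open scoped commutatorElement

variable {P : Type*} [Group P] [Finite P] {K : Subgroup (MulAut P)}

structure BCtx (h : Setup K) (H : Subgroup P) : Prop where
  HK : KInv K H
  VH : h.V ≤ H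
  Nab : ∀ a ∈ Z2 h H, ∀ b ∈ Z2 h H, a * b = b * a
  Cab : ∀ a ∈ Cc h H, ∀ b ∈ Cc h H, a * b = b * a
  w0 : ∃ w ∈ Z2 h H, w ∉ h.V

variable {h : Setup K} {H : Subgroup P}

theorem BCtx.N_le_C (B : BCtx h H) : Z2 h H ≤ Cc h H := by
  intro w hw
  rw [mem_Cc]
  exact ⟨Z2_le h H hw, fun w' hw' => B.Nab w' hw' w hw⟩

theorem BCtx.sq_onto (B : BCtx h H) {v : P} (hv : v ∈ h.V) : ∃ w ∈ Z2 h H, w * w = v := by
  obtain ⟨w, hw, hwV⟩ := B.w0
  by_cases hv1 : v = 1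
  · exact ⟨1, Subgroup.one_mem _, by rw [hv1, one_mul]⟩
  have hw2 : w * w ∈ h.V := hw.2
  obtain ⟨k, hk, -⟩ := h.reg (w * w) v hwV hw2 hv1 hv
  exact ⟨(k : MulAut P) w, Z2_K h B.HK k k.2 w hw, by rw [← map_mul, hk]⟩

theorem BCtx.mem_Z2_of_sq (B : BCtx h H) {c : P} (hc : c ∈ Cc h H) (hc2 : c * c ∈ h.V) :
    c ∈ Z2 h H := by
  obtain ⟨w, hw, hww⟩ := B.sq_onto hc2
  have hcw : w * c = c * w := ((mem_Cc h).1 hc).2 w hw
  have h1 : (c * w⁻¹) * (c * w⁻¹) = 1 := by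
    calc (c * w⁻¹) * (c * w⁻¹) = c * (w⁻¹ * (c * w) * w⁻¹) * w⁻¹ := by group
      _ = c * (w⁻¹ * (w * c) * w⁻¹) * w⁻¹ := by rw [hcw]
      _ = (c * c) * (w * w)⁻¹ := by group
      _ = 1 := by rw [hww, mul_inv_cancel]
  have h2 : c * w⁻¹ ∈ Z2 h H := V_le_Z2 h B.VH h1
  have : c = (c * w⁻¹) * w := by group
  rw [this]
  exact Subgroup.mul_mem _ h2 hw

/-- a square root in `Z2` -/
noncomputable def rt (h : Setup K) (H : Subgroup P) (z : P) : P := by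
  classical
  exact if hz : ∃ w ∈ Z2 h H, w * w = z then hz.choose else 1

theorem BCtx.rt_mem (B : BCtx h H) {z : P} (hz : z ∈ h.V) : rt h H z ∈ Z2 h H := by
  have := B.sq_onto hz
  rw [rt, dif_pos this]
  exact this.choose_spec.1

theorem BCtx.rt_sq (B : BCtx h H) {z : P} (hz : z ∈ h.V) : rt h H z * rt h H z = z := by
  have := B.sq_onto hz
  rw [rt, dif_pos this]
  exact this.choose_spec.2

/-- the operator `E_x` -/
noncomputable def EE (h : Setup K) (H : Subgroup P) (x z : P) : P := ⁅rt h H z, x⁆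

theorem BCtx.comm_congr (B : BCtx h H) {w w' x : P} (hw : w ∈ Z2 h H) (hw' : w' ∈ Z2 h H)
    (hww : w * w = w' * w') : ⁅w, x⁆ = ⁅w', x⁆ := by
  have hc := B.Nab w hw w' hw'
  have h1 : (w'⁻¹ * w) * (w'⁻¹ * w) = 1 := by
    calc (w'⁻¹ * w) * (w'⁻¹ * w) = w'⁻¹ * (w'⁻¹ * (w' * w) * w'⁻¹) * w := by group
      _ = w'⁻¹ * (w'⁻¹ * (w * w') * w'⁻¹) * w := by rw [hc]
      _ = (w' * w')⁻¹ * (w * w) := by group
      _ = 1 := by rw [hww, inv_mul_cancel]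
  have hv : w'⁻¹ * w ∈ h.V := h1
  have h2 : ⁅w'⁻¹ * w, x⁆ = 1 := by
    rw [commutatorElement_eq_one_iff_mul_comm]; exact (Vc h hv x).symm
  have h3 : w = w' * (w'⁻¹ * w) := by group
  rw [h3, cml w' (w'⁻¹ * w) x (by rw [h2]; simp), h2, mul_one]

theorem BCtx.E_eq (B : BCtx h H) {w x : P} (hw : w ∈ Z2 h H) : ⁅w, x⁆ = EE h H x (w * w) :=
  B.comm_congr hw (B.rt_mem hw.2) (B.rt_sq hw.2).symm

theorem BCtx.EV (B : BCtx h H) {x z : P} (hx : x ∈ H) (hz : z ∈ h.V) : EE h H x z ∈ h.V :=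
  ((mem_Z2 h).1 (B.rt_mem hz)).2.1 x hx

theorem BCtx.Eml (B : BCtx h H) {x y z : P} (hy : y ∈ H) (hz : z ∈ h.V) :
    EE h H (x * y) z = EE h H x z * EE h H y z :=
  cmr _ x y (Vc h (B.EV hy hz))

theorem BCtx.Emr (B : BCtx h H) {x z z' : P} (hx : x ∈ H) (hz : z ∈ h.V) (hz' : z' ∈ h.V) :
    EE h H x (z * z') = EE h H x z * EE h H x z' := by
  have h1 : rt h H z * rt h H z' ∈ Z2 h H := Subgroup.mul_mem _ (B.rt_mem hz) (B.rt_mem hz')
  have h2 : (rt h H z * rt h H z') * (rt h H z * rt h H z') = z * z' := by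
    have hc := B.Nab _ (B.rt_mem hz) _ (B.rt_mem hz')
    calc (rt h H z * rt h H z') * (rt h H z * rt h H z')
        = rt h H z * (rt h H z' * rt h H z) * rt h H z' := by group
      _ = rt h H z * (rt h H z * rt h H z') * rt h H z' := by rw [hc]
      _ = (rt h H z * rt h H z) * (rt h H z' * rt h H z') := by group
      _ = z * z' := by rw [B.rt_sq hz, B.rt_sq hz']
  rw [← h2, ← B.E_eq h1]
  exact cml _ _ x (Vc h (B.EV hx hz'))

theorem BCtx.E_one (B : BCtx h H) {x : P} (hx : x ∈ H) : EE h H x 1 = 1 := by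
  have := B.Emr hx (Subgroup.one_mem _) (Subgroup.one_mem _)
  rw [one_mul] at this
  exact (left_eq_mul.mp this)

theorem BCtx.EK (B : BCtx h H) {k : MulAut P} (hk : k ∈ K) {x z : P} (hz : z ∈ h.V) :
    EE h H (k x) (k z) = k (EE h H x z) := by
  have h1 : k (rt h H z) ∈ Z2 h H := Z2_K h B.HK k hk _ (B.rt_mem hz)
  have h2 : k (rt h H z) * k (rt h H z) = k z := by rw [← map_mul, B.rt_sq hz]
  rw [← h2, ← B.E_eq h1, EE, map_commutatorElement]

theorem BCtx.Ef (B : BCtx h H) {x : P} (hx : x ∈ H) (hE : ∀ z ∈ h.V, EE h H x z = 1) :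
    x ∈ Cc h H := by
  rw [mem_Cc]
  refine ⟨hx, fun w hw => ?_⟩
  have := hE _ hw.2
  rw [← B.E_eq hw, commutatorElement_eq_one_iff_mul_comm] at this
  exact this

theorem BCtx.EN (B : BCtx h H) {x z : P} (hx : x ∈ Cc h H) (hz : z ∈ h.V) : EE h H x z = 1 := by
  rw [EE, commutatorElement_eq_one_iff_mul_comm]
  exact ((mem_Cc h).1 hx).2 _ (B.rt_mem hz)

end Cfsg.Agent.Lib.Helper20.Suz
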