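import Mathlib
import Cfsg.Agent.Lib.Helper20.SuzT2

/-!
# Higman's theorem on Suzuki 2-groups: the case where `C_H(Z2)` has exponent at least 8
-/

set_option autoImplicit false
set_option linter.unusedSectionVars false

namespace Cfsg.Agent.Lib.Helper20.Suz

open Cfsg.Agent.Lib.Helper63.Suz
open scoped commutatorElement

variable {P : Type*} [Group P] [Finite P] {K : Subgroup (MulAut P)}
variable {h : Setup K} {H : Subgroup P}

theorem BCtx.fourth_root (B : BCtx h H) (hc : ∃ c ∈ Cc h H, c ^ 4 ≠ 1) {z : P} (hz : z ∈ h.V) :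
    ∃ m ∈ Cc h H, m ^ 4 = z := by
  obtain ⟨c, hcC, hc4⟩ := hc
  by_cases hz1 : z = 1
  · exact ⟨1, Subgroup.one_mem _, by rw [one_pow, hz1]⟩
  obtain ⟨j, hj1, hj2⟩ := exists_pow_invol h.two hc4
  obtain ⟨k, hk, -⟩ := h.reg _ z hj1 hj2 hz1 hz
  refine ⟨(k : MulAut P) (c ^ (2 ^ j)), Cc_K h B.HK k k.2 _ (Subgroup.pow_mem _ hcC _), ?_⟩
  rw [← map_pow, ← pow_mul, mul_comm, pow_mul, hk]

theorem BCtx.idem (B : BCtx h H) (hc : ∃ c ∈ Cc h H, c ^ 4 ≠ 1) {x z : P} (hx : x ∈ H)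
    (hz : z ∈ h.V) : EE h H x (EE h H x z) = EE h H x z := by
  obtain ⟨m, hm, hmz⟩ := B.fourth_root hc hz
  have ha : x * m * x⁻¹ ∈ Cc h H := conj_mem_Cc h B.VH hx hm
  have hxx : x * x ∈ Cc h H := sq_mem_Cc h hx
  have hma : m * (x * m * x⁻¹) = (x * m * x⁻¹) * m := B.Cab _ hm _ ha
  have hma' : m * (x * m * x⁻¹)⁻¹ = (x * m * x⁻¹)⁻¹ * m := B.Cab _ hm _ (Subgroup.inv_mem _ ha)
  have hxxm : (x * x) * m = m * (x * x) := B.Cab _ hxx _ hm
  have hu : ⁅m, x⁆ = m * (x * m * x⁻¹)⁻¹ := by rw [commutatorElement_def]; group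
  have huC : ⁅m, x⁆ ∈ Cc h H := by rw [hu]; exact Subgroup.mul_mem _ hm (Subgroup.inv_mem _ ha)
  have h1 : ⁅m * m, x⁆ = ⁅m, x⁆ * ⁅m, x⁆ := by
    rw [hu]
    calc ⁅m * m, x⁆ = m * (m * (x * m * x⁻¹)⁻¹) * (x * m * x⁻¹)⁻¹ := by
          rw [commutatorElement_def]; group
      _ = m * ((x * m * x⁻¹)⁻¹ * m) * (x * m * x⁻¹)⁻¹ := by rw [hma']
      _ = _ := by group
  have h2 : ⁅⁅m, x⁆, x⁆ = ⁅m, x⁆ * ⁅m, x⁆ := by
    have e1 : x * ⁅m, x⁆ * x⁻¹ = (x * m * x⁻¹) * m⁻¹ := by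
      calc x * ⁅m, x⁆ * x⁻¹ = (x * m * x⁻¹) * (((x * x) * m) * (x * x)⁻¹)⁻¹ := by
            rw [commutatorElement_def]; group
        _ = (x * m * x⁻¹) * ((m * (x * x)) * (x * x)⁻¹)⁻¹ := by rw [hxxm]
        _ = _ := by group
    calc ⁅⁅m, x⁆, x⁆ = ⁅m, x⁆ * (x * ⁅m, x⁆ * x⁻¹)⁻¹ := by
          rw [commutatorElement_def ⁅m, x⁆ x]; group
      _ = ⁅m, x⁆ * ((x * m * x⁻¹) * m⁻¹)⁻¹ := by rw [e1]
      _ = ⁅m, x⁆ * (m * (x * m * x⁻¹)⁻¹) := by group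
      _ = _ := by rw [← hu]
  have hmm4 : (m * m) * (m * m) = z := by
    rw [← hmz, ← pow_two, ← pow_two, ← pow_mul]
  have hmmZ : m * m ∈ Z2 h H :=
    B.mem_Z2_of_sq (Subgroup.mul_mem _ hm hm) (by rw [hmm4]; exact hz)
  have h3 : EE h H x z = ⁅m, x⁆ * ⁅m, x⁆ := by rw [← hmm4, ← B.E_eq hmmZ, h1]
  have huZ : ⁅m, x⁆ ∈ Z2 h H := B.mem_Z2_of_sq huC (by rw [← h3]; exact B.EV hx hz)
  rw [h3, ← B.E_eq huZ, h2]

theorem BCtx.E_comm (B : BCtx h H) (hc : ∃ c ∈ Cc h H, c ^ 4 ≠ 1) {x y z : P} (hx : x ∈ H)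
    (hy : y ∈ H) (hz : z ∈ h.V) : EE h H x (EE h H y z) = EE h H y (EE h H x z) := by
  have h1 := B.idem hc (H.mul_mem hx hy) hz
  have a1 := B.EV hx hz
  have a2 := B.EV hy hz
  rw [B.Eml hy hz, B.Eml hy (Subgroup.mul_mem _ a1 a2), B.Emr hx a1 a2, B.Emr hy a1 a2,
    B.idem hc hx hz, B.idem hc hy hz] at h1
  have b1 := B.EV hx a2
  have b2 := B.EV hy a1
  -- a1 * b1 * (b2 * a2) = a1 * a2
  have h2 : EE h H x (EE h H y z) * EE h H y (EE h H x z) = 1 := by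
    have e : EE h H x z * EE h H x (EE h H y z) * (EE h H y (EE h H x z) * EE h H y z)
        = EE h H x z * (EE h H x (EE h H y z) * EE h H y (EE h H x z)) * EE h H y z := by group
    rw [e] at h1
    have h3 := mul_right_cancel h1
    exact (mul_eq_left.mp h3)
  have h3 : EE h H x (EE h H y z) = (EE h H y (EE h H x z))⁻¹ := eq_inv_of_mul_eq_one_left h2
  rw [h3, Vinv h b2]

theorem BCtx.exists_eigen (B : BCtx h H) (hc : ∃ c ∈ Cc h H, c ^ 4 ≠ 1) {e : P} (he : e ∈ h.V)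
    (he1 : e ≠ 1) (T : Finset P) (hT : ∀ x ∈ T, x ∈ H) :
    ∃ v ∈ h.V, v ≠ 1 ∧ ∀ x ∈ T, EE h H x v = 1 ∨ EE h H x v = v := by
  classical
  induction T using Finset.induction_on with
  | empty => exact ⟨e, he, he1, by simp⟩
  | insert x T _ ih =>
    obtain ⟨v, hv, hv1, hvT⟩ := ih (fun y hy => hT y (Finset.mem_insert_of_mem hy))
    have hx : x ∈ H := hT x (Finset.mem_insert_self x T)
    by_cases hxv : EE h H x v = 1
    · refine ⟨v, hv, hv1, fun y hy => ?_⟩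
      rcases Finset.mem_insert.1 hy with rfl | hy
      · exact Or.inl hxv
      · exact hvT y hy
    · refine ⟨EE h H x v, B.EV hx hv, hxv, fun y hy => ?_⟩
      rcases Finset.mem_insert.1 hy with rfl | hy
      · exact Or.inr (B.idem hc hx hv)
      · have hyH : y ∈ H := hT y (Finset.mem_insert_of_mem hy)
        rw [B.E_comm hc hyH hx hv]
        rcases hvT y hy with h1 | h1
        · left; rw [h1, B.E_one hx]
        · right; rw [h1]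

theorem BCtx.caseB1 (B : BCtx h H) (hc : ∃ c ∈ Cc h H, c ^ 4 ≠ 1)
    (h3 : ∃ e e' : P, e ∈ h.V ∧ e' ∈ h.V ∧ e ≠ 1 ∧ e' ≠ 1 ∧ e ≠ e') : H ≤ Cc h H := by
  classical
  obtain ⟨e, e', he, he', he1, he'1, hee⟩ := h3
  cases nonempty_fintype P
  obtain ⟨v, hv, hv1, hvT⟩ := B.exists_eigen hc he he1 (Finset.univ.filter (· ∈ H))
    (fun x hx => (Finset.mem_filter.1 hx).2)
  have hall : ∀ w ∈ h.V, ∀ x ∈ H, EE h H x w = 1 ∨ EE h H x w = w := by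
    intro w hw x hx
    by_cases hw1 : w = 1
    · left; rw [hw1, B.E_one hx]
    obtain ⟨k, hk, -⟩ := h.reg v w hv1 hv hw1 hw
    have hx' : (k : MulAut P)⁻¹ x ∈ H := B.HK.inv_mem k.2 hx
    have h1 := B.EK k.2 (x := (k : MulAut P)⁻¹ x) hv
    rw [MulAut.apply_inv_self, hk] at h1
    rw [h1]
    rcases hvT _ (Finset.mem_filter.2 ⟨Finset.mem_univ _, hx'⟩) with h2 | h2
    · left; rw [h2, map_one]
    · right; rw [h2, hk]
  have hdich : ∀ x ∈ H, (∀ w ∈ h.V, EE h H x w = 1) ∨ (∀ w ∈ h.V, EE h H x w = w) := by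
    intro x hx
    by_contra hcon
    push Not at hcon
    obtain ⟨⟨w₁, hw₁, h1⟩, ⟨w₂, hw₂, h2⟩⟩ := hcon
    have h1' : EE h H x w₁ = w₁ := (hall w₁ hw₁ x hx).resolve_left h1
    have h2' : EE h H x w₂ = 1 := (hall w₂ hw₂ x hx).resolve_right h2
    have hw₁1 : w₁ ≠ 1 := fun h0 => h1 (by rw [h0, B.E_one hx])
    have hw₂1 : w₂ ≠ 1 := fun h0 => h2 (by rw [h2', h0])
    have h4 := B.Emr hx hw₁ hw₂
    rw [h1', h2', mul_one] at h4
    rcases hall _ (Subgroup.mul_mem _ hw₁ hw₂) x hx with h5 | h5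
    · exact hw₁1 (h4.symm.trans h5)
    · rw [h4] at h5
      exact hw₂1 (left_eq_mul.mp h5)
  have hprod : ∀ x ∈ H, ∀ y ∈ H, x ∉ Cc h H → y ∉ Cc h H → x * y ∈ Cc h H := by
    intro x hx y hy hxC hyC
    have hx' := (hdich x hx).resolve_left (fun h0 => hxC (B.Ef hx h0))
    have hy' := (hdich y hy).resolve_left (fun h0 => hyC (B.Ef hy h0))
    apply B.Ef (H.mul_mem hx hy)
    intro z hz
    rw [B.Eml hy hz, hx' z hz, hy' z hz]
    exact hz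
  by_contra hHC
  obtain ⟨x, hx, hxC⟩ := SetLike.not_le_iff_exists.1 hHC
  obtain ⟨k, hk, hke⟩ := h.regV.tr e he e' he' he1 he'1
  have hk1 : k ≠ 1 := by
    intro h0
    apply hee
    rw [← hke, h0]; rfl
  have hkx : k x ∉ Cc h H := by
    intro h0
    apply hxC
    have := (Cc_K h B.HK).inv_mem hk h0
    rwa [MulAut.inv_apply_self] at this
  have hxinv : x⁻¹ ∉ Cc h H := fun h0 => hxC (by simpa using Subgroup.inv_mem _ h0)
  have hc0 : x⁻¹ * k x ∈ Cc h H := hprod _ (H.inv_mem hx) _ (B.HK k hk x hx) hxinv hkx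
  -- the map `c ↦ c⁻¹ k(c)` on `C`
  let g : Cc h H → Cc h H := fun c =>
    ⟨(c : P)⁻¹ * k c, Subgroup.mul_mem _ (Subgroup.inv_mem _ c.2) (Cc_K h B.HK k hk c c.2)⟩
  have hg : Function.Injective g := by
    intro c c' hcc
    have h1 : (c : P)⁻¹ * k c = (c' : P)⁻¹ * k c' := congrArg Subtype.val hcc
    have h2 : k ((c : P) * (c' : P)⁻¹) = (c : P) * (c' : P)⁻¹ := by
      rw [map_mul, map_inv]
      calc k c * (k c')⁻¹ = c * ((c : P)⁻¹ * k c) * (k c')⁻¹ := by group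
        _ = c * ((c' : P)⁻¹ * k c') * (k c')⁻¹ := by rw [h1]
        _ = _ := by group
    by_contra hne
    have h3 : (c : P) * (c' : P)⁻¹ ≠ 1 := by
      intro h0
      exact hne (Subtype.ext (mul_inv_eq_one.1 h0))
    exact hk1 (h.fpf hk h3 h2)
  obtain ⟨c, hcg⟩ := (Finite.injective_iff_surjective.1 hg) ⟨(x⁻¹ * k x)⁻¹, Subgroup.inv_mem _ hc0⟩
  have h1 : (c : P)⁻¹ * k c = (x⁻¹ * k x)⁻¹ := congrArg Subtype.val hcg
  have hkc : k (c : P) ∈ Cc h H := Cc_K h B.HK k hk c c.2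
  have h2 : k (x * c) = x * c := by
    have e1 : k (c : P) = c * (x⁻¹ * k x)⁻¹ := by
      calc k (c : P) = c * ((c : P)⁻¹ * k c) := by group
        _ = _ := by rw [h1]
    have e2 : (x⁻¹ * k x) * (c : P) = c * (x⁻¹ * k x) := B.Cab _ hc0 _ c.2
    rw [map_mul, e1]
    calc k x * (c * (x⁻¹ * k x)⁻¹) = x * ((x⁻¹ * k x) * c) * (x⁻¹ * k x)⁻¹ := by group
      _ = x * (c * (x⁻¹ * k x)) * (x⁻¹ * k x)⁻¹ := by rw [e2]
      _ = x * c := by group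
  have h3 : x * (c : P) ≠ 1 := by
    intro h0
    apply hxC
    have : x = (c : P)⁻¹ := eq_inv_of_mul_eq_one_left h0
    rw [this]; exact Subgroup.inv_mem _ c.2
  exact hk1 (h.fpf hk h3 h2)

end Cfsg.Agent.Lib.Helper20.Suz
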