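import Mathlib
import Cfsg.Agent.Lib.Helper20.SuzT3
import Cfsg.Agent.Lib.Helper20.SuzOm

/-!
# Higman's theorem on Suzuki 2-groups: `P / Ω₁(P)` is elementary abelian
-/

set_option autoImplicit false
set_option linter.unusedSectionVars false

namespace Cfsg.Agent.Lib.Helper20.Suz

open Cfsg.Agent.Lib.Helper63.Suz
open scoped commutatorElement

variable {P : Type*} [Group P] [Finite P] {K : Subgroup (MulAut P)}
variable {h : Setup K} {H : Subgroup P}

theorem pow_four_eq (x : P) : x ^ 4 = (x * x) * (x * x) := by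
  rw [← pow_two, ← pow_two, ← pow_mul]

theorem BCtx.sq_mul (B : BCtx h H) {a b : P} (ha : a ∈ Z2 h H) (hb : b ∈ Z2 h H) :
    (a * b) * (a * b) = (a * a) * (b * b) := by
  have hc := B.Nab a ha b hb
  calc (a * b) * (a * b) = a * (b * a) * b := by group
    _ = a * (a * b) * b := by rw [hc]
    _ = _ := by group

theorem surj_of_fpf (h : Setup K) {H : Subgroup P} (hH : KInv K H) {k : MulAut P} (hk : k ∈ K)
    (hk1 : k ≠ 1) {y : P} (hy : y ∈ H) : ∃ x ∈ H, y = x⁻¹ * k x := by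
  let g : H → H := fun c => ⟨(c : P)⁻¹ * k c, H.mul_mem (H.inv_mem c.2) (hH k hk c c.2)⟩
  have hg : Function.Injective g := by
    intro c c' hcc
    have h1 : (c : P)⁻¹ * k c = (c' : P)⁻¹ * k c' := congrArg Subtype.val hcc
    have h2 : k ((c : P) * (c' : P)⁻¹) = (c : P) * (c' : P)⁻¹ := by
      rw [map_mul, map_inv]
      calc k c * (k c')⁻¹ = c * ((c : P)⁻¹ * k c) * (k c')⁻¹ := by group
        _ = c * ((c' : P)⁻¹ * k c') * (k c')⁻¹ := by rw [h1]
        _ = _ := by group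
    by_contra hne
    have h3 : (c : P) * (c' : P)⁻¹ ≠ 1 := by
      intro h0
      exact hne (Subtype.ext (mul_inv_eq_one.1 h0))
    exact hk1 (h.fpf hk h3 h2)
  obtain ⟨c, hc⟩ := (Finite.injective_iff_surjective.1 hg) ⟨y, hy⟩
  exact ⟨c, c.2, (congrArg Subtype.val hc).symm⟩

theorem BCtx.caseB2 (B : BCtx h H) (hc : ∀ c ∈ Cc h H, c ^ 4 = 1)
    (h3 : ∃ e e' : P, e ∈ h.V ∧ e' ∈ h.V ∧ e ≠ 1 ∧ e' ≠ 1 ∧ e ≠ e')
    (IH : ∀ M : Subgroup P, KInv K M → M < H →
      (∀ a ∈ M, ∀ b ∈ M, a * b = b * a) ∨ (∀ x ∈ M, x * x ∈ h.V)) :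
    ∀ x ∈ H, x * x ∈ h.V := by
  have hCN : Cc h H ≤ Z2 h H := by
    intro c hcC
    apply B.mem_Z2_of_sq hcC
    have := hc c hcC
    rw [pow_four_eq] at this
    exact this
  have hsqN : ∀ x ∈ H, x * x ∈ Z2 h H := fun x hx => hCN (sq_mem_Cc h hx)
  have hcomN : ∀ x ∈ H, ∀ y ∈ H, ⁅x, y⁆ ∈ Z2 h H := fun x hx y hy => hCN (comm_mem_Cc h hx hy)
  have cfg : OmCfg K H (Z2 h H) h.V (EE h H) (fun x y => ⁅x, y⁆ * ⁅x, y⁆) :=
    { reg := h.regV
      VN := V_le_Z2 h B.VH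
      NH := Z2_le h H
      HK := B.HK
      NK := Z2_K h B.HK
      EV := fun x hx z hz => B.EV hx hz
      Eml := fun x _ y hy z hz => B.Eml hy hz
      Emr := fun x hx z hz z' hz' => B.Emr hx hz hz'
      EK := fun k hk x _ z hz => B.EK hk hz
      Ef := fun x hx hE => hCN (B.Ef hx hE)
      EN := fun x hx z hz => B.EN (B.N_le_C hx) hz
      N4 := fun x hx => hc x (B.N_le_C hx)
      p4V := fun x hx => by rw [pow_four_eq]; exact (hsqN x hx).2
      bV := fun x hx y hy => (hcomN x hx y hy).2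
      g2 := fun x hx => by
        rw [pow_four_eq, ← B.E_eq (hsqN x hx), commutatorElement_eq_one_iff_mul_comm]
        group
      g3 := fun x hx y hy hx4 => by
        have hxxV : x * x ∈ h.V := by
          rw [pow_four_eq] at hx4; exact hx4
        have hcen := Vc h hxxV y
        change EE h H x (⁅x, y⁆ * ⁅x, y⁆) = ⁅x, y⁆ * ⁅x, y⁆
        rw [← B.E_eq (hcomN x hx y hy)]
        have e1 : x * ⁅x, y⁆ * x⁻¹ = ⁅x, y⁆⁻¹ := by
          calc x * ⁅x, y⁆ * x⁻¹ = ((x * x) * y) * x⁻¹ * y⁻¹ * x⁻¹ := by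
                rw [commutatorElement_def]; group
            _ = (y * (x * x)) * x⁻¹ * y⁻¹ * x⁻¹ := by rw [hcen]
            _ = ⁅x, y⁆⁻¹ := by rw [commutatorElement_def]; group
        calc ⁅⁅x, y⁆, x⁆ = ⁅x, y⁆ * (x * ⁅x, y⁆ * x⁻¹)⁻¹ := by
              rw [commutatorElement_def ⁅x, y⁆ x]; group
          _ = ⁅x, y⁆ * ⁅x, y⁆ := by rw [e1, inv_inv]
      bmr := fun x hx y hy y' hy' => by
        have hn := hcomN x hx y hy
        have hn' := hcomN x hx y' hy'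
        have hv : ⁅⁅x, y'⁆, y⁆⁻¹ ∈ h.V := Subgroup.inv_mem _ (((mem_Z2 h).1 hn').2.1 y hy)
        have e1 : ⁅x, y * y'⁆ = ⁅x, y⁆ * (⁅⁅x, y'⁆, y⁆⁻¹ * ⁅x, y'⁆) := by
          simp only [commutatorElement_def]; group
        change ⁅x, y * y'⁆ * ⁅x, y * y'⁆ = ⁅x, y⁆ * ⁅x, y⁆ * (⁅x, y'⁆ * ⁅x, y'⁆)
        have hvZ := V_le_Z2 h B.VH hv
        have hvv : ⁅⁅x, y'⁆, y⁆⁻¹ * ⁅⁅x, y'⁆, y⁆⁻¹ = 1 := hv
        rw [e1, B.sq_mul hn (Subgroup.mul_mem _ hvZ hn'), B.sq_mul hvZ hn', hvv, one_mul]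
      bsymm := fun x hx y hy => by
        change ⁅x, y⁆ * ⁅x, y⁆ = ⁅y, x⁆ * ⁅y, x⁆
        rw [← commutatorElement_inv x y, ← mul_inv_rev, Vinv h (hcomN x hx y hy).2]
      g4 := fun x hx hxN hx4 => by
        by_contra hcon
        push Not at hcon
        apply hxN
        rw [mem_Z2]
        refine ⟨hx, fun g hg => hcon g hg, ?_⟩
        rw [pow_four_eq] at hx4; exact hx4
      g1 := fun M hMK hNM hMH => by
        rcases IH M hMK hMH with hab | hsq
        · refine ⟨fun x hx => hc x ?_, fun x hx y hy => ?_⟩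
          · rw [mem_Cc]
            exact ⟨hMH.le hx, fun w hw => hab w (hNM hw) x hx⟩
          · have : ⁅x, y⁆ = 1 := by
              rw [commutatorElement_eq_one_iff_mul_comm]; exact hab x hx y hy
            change ⁅x, y⁆ * ⁅x, y⁆ = 1
            rw [this, one_mul]
        · refine ⟨fun x hx => by rw [pow_four_eq]; exact hsq x hx, fun x hx y hy => ?_⟩
          have : ⁅x, y⁆ ∈ h.V := by
            rw [comm_eq_squares]
            exact Subgroup.mul_mem _ (Subgroup.mul_mem _ (hsq _ (M.mul_mem hx hy))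
              (hsq _ (M.mul_mem (M.mul_mem (M.inv_mem hy) (M.inv_mem hx)) hy)))
              (hsq _ (M.inv_mem hy))
          exact this
      surj := fun k hk hk1 y hy => surj_of_fpf h B.HK hk hk1 hy
      three := h3 }
  intro x hx
  have := cfg.pow_four x hx
  rw [pow_four_eq] at this
  exact this

/-- **Higman.** A `K`-invariant subgroup is abelian or has all its squares of order at most 2. -/
theorem higman (h : Setup K)
    (h3 : ∃ e e' : P, e ∈ h.V ∧ e' ∈ h.V ∧ e ≠ 1 ∧ e' ≠ 1 ∧ e ≠ e') :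
    ∀ (n : ℕ) (H : Subgroup P), Nat.card H = n → KInv K H →
      (∀ a ∈ H, ∀ b ∈ H, a * b = b * a) ∨ (∀ x ∈ H, x * x ∈ h.V) := by
  intro n
  induction n using Nat.strong_induction_on with
  | _ n IH =>
    intro H hn hH
    by_cases hab : ∀ a ∈ H, ∀ b ∈ H, a * b = b * a
    · exact Or.inl hab
    right
    have hne : H ≠ ⊥ := by
      rintro rfl
      apply hab
      intro a ha b hb
      rw [Subgroup.mem_bot] at ha hb
      rw [ha, hb]
    have hVH : h.V ≤ H := h.V_le hH hne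
    have hHV : ¬ H ≤ h.V := by
      intro hle
      apply hab
      intro a _ b hb
      exact Vc h (hle hb) a
    have IH' : ∀ M : Subgroup P, KInv K M → M < H →
        (∀ a ∈ M, ∀ b ∈ M, a * b = b * a) ∨ (∀ x ∈ M, x * x ∈ h.V) := by
      intro M hMK hMH
      exact IH _ (by rw [← hn]; exact Cfsg.Agent.Lib.Helper24.card_lt_of_lt hMH) M rfl hMK
    obtain ⟨w₀, -, hw₀Z, hw₀V⟩ := exists_mem_Z2 h (le_refl H)
      (fun g hg c hc => H.mul_mem (H.mul_mem hg hc) (H.inv_mem hg)) hHV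
    have hCH : ¬ H ≤ Cc h H := by
      intro hle
      apply hab
      apply h.abelian_of_center _ H rfl hH
      refine ⟨w₀, Z2_le h H hw₀Z, fun x hx => ((mem_Cc h).1 (hle hx)).2 w₀ hw₀Z, hw₀V⟩
    by_cases hNab : ∀ a ∈ Z2 h H, ∀ b ∈ Z2 h H, a * b = b * a
    · have hw₀C : w₀ ∈ Cc h H := by
        rw [mem_Cc]
        exact ⟨Z2_le h H hw₀Z, fun w hw => hNab w hw w₀ hw₀Z⟩
      have hCab : ∀ a ∈ Cc h H, ∀ b ∈ Cc h H, a * b = b * a := by
        apply h.abelian_of_center _ (Cc h H) rfl (Cc_K h hH)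
        exact ⟨w₀, hw₀C, fun x hx => ((mem_Cc h).1 hx).2 w₀ hw₀Z, hw₀V⟩
      have B : BCtx h H := ⟨hH, hVH, hNab, hCab, ⟨w₀, hw₀Z, hw₀V⟩⟩
      by_cases hc : ∃ c ∈ Cc h H, c ^ 4 ≠ 1
      · exact absurd (B.caseB1 hc h3) hCH
      · push Not at hc
        exact B.caseB2 hc h3 IH'
    · have hCV : Cc h H ≤ h.V := by
        by_contra hcon
        obtain ⟨x, hxC, hxZ, hxV⟩ := exists_mem_Z2 h (D := Cc h H) (H := H) inf_le_left
          (fun g hg c hc => conj_mem_Cc h hVH hg hc) hcon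
        apply hNab
        apply h.abelian_of_center _ (Z2 h H) rfl (Z2_K h hH)
        exact ⟨x, hxZ, fun w hw => (((mem_Cc h).1 hxC).2 w hw).symm, hxV⟩
      intro x hx
      exact hCV (sq_mem_Cc h hx)

end Cfsg.Agent.Lib.Helper20.Suz
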