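import Mathlib
import Cfsg.Agent.Lib.Helper20.SuzT4
import Cfsg.Agent.S3773

/-!
# Higman's theorem on Suzuki 2-groups: the order
-/

set_option autoImplicit false
set_option linter.unusedSectionVars false

namespace Cfsg.Agent.Lib.Helper20.Suz

open Cfsg.Agent.Lib.Helper63.Suz
open scoped commutatorElement

variable {P : Type*} [Group P] [Finite P] {K : Subgroup (MulAut P)}

theorem card_K_add_one (h : Setup K) {e : P} (he : e ∈ h.V) (he1 : e ≠ 1) :
    Nat.card K + 1 = Nat.card h.V := by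
  classical
  have e1 : K ≃ {v : h.V // v ≠ 1} := Equiv.ofBijective
    (fun k => ⟨⟨(k : MulAut P) e, VK h k k.2 e he⟩, fun h0 => he1 (by
      have h1 : (k : MulAut P) e = 1 := congrArg Subtype.val h0
      exact (k : MulAut P).injective (h1.trans (map_one _).symm))⟩)
    ⟨by
      intro k k' hkk
      have h1 : (k : MulAut P) e = (k' : MulAut P) e := congrArg (fun v => ((v.1 : h.V) : P)) hkk
      obtain ⟨k0, -, hk0⟩ := h.reg e ((k' : MulAut P) e) he1 he (fun h0 => he1 (by
        exact (k' : MulAut P).injective (h0.trans (map_one _).symm))) (VK h k' k'.2 e he)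
      rw [hk0 k h1, hk0 k' rfl], by
      rintro ⟨⟨v, hv⟩, hv1⟩
      have hv1' : v ≠ 1 := fun h0 => hv1 (Subtype.ext h0)
      obtain ⟨k, hk, -⟩ := h.reg e v he1 he hv1' hv
      exact ⟨k, Subtype.ext (Subtype.ext hk)⟩⟩
  rw [Nat.card_congr e1]
  cases nonempty_fintype h.V
  rw [Nat.card_eq_fintype_card, Nat.card_eq_fintype_card, Fintype.card_subtype_compl,
    Fintype.card_subtype_eq]
  have : 0 < Fintype.card h.V := Fintype.card_pos
  omega

theorem card_K_dvd (h : Setup K) : Nat.card K ∣ Nat.card P - 1 := by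
  classical
  cases nonempty_fintype P
  haveI : Finite (MulAut P) :=
    Finite.of_injective (fun k : MulAut P => (k : P → P)) DFunLike.coe_injective
  cases nonempty_fintype K
  letI : Fintype (Quotient (MulAction.orbitRel K P)) := Fintype.ofFinite _
  have hB := MulAction.sum_card_fixedBy_eq_card_orbits_mul_card_group K P
  have h1 : Fintype.card (MulAction.fixedBy P (1 : K)) = Fintype.card P := by
    rw [← Fintype.card_congr (Equiv.Set.univ P)]
    apply Fintype.card_congr
    apply Equiv.setCongr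
    ext x
    simp
  have h2 : ∀ k ∈ (Finset.univ.erase (1 : K)), Fintype.card (MulAction.fixedBy P k) = 1 := by
    intro k hk
    have hk1 : k ≠ 1 := (Finset.mem_erase.1 hk).1
    rw [Fintype.card_eq_one_iff]
    refine ⟨⟨1, by
      rw [MulAction.mem_fixedBy]
      exact map_one (k : MulAut P)⟩, ?_⟩
    rintro ⟨x, hx⟩
    apply Subtype.ext
    by_contra hx1
    rw [MulAction.mem_fixedBy] at hx
    exact hk1 (Subtype.ext (h.fpf k.2 hx1 hx))
  rw [← Finset.add_sum_erase Finset.univ _ (Finset.mem_univ (1 : K)), h1, Finset.sum_congr rfl h2,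
    Finset.sum_const, Finset.card_erase_of_mem (Finset.mem_univ _), Finset.card_univ, smul_eq_mul,
    mul_one] at hB
  rw [Nat.card_eq_fintype_card, Nat.card_eq_fintype_card]
  have hK : 0 < Fintype.card K := Fintype.card_pos
  have hP : 0 < Fintype.card P := Fintype.card_pos
  have hΩ : 0 < Fintype.card (Quotient (MulAction.orbitRel K P)) :=
    Fintype.card_pos_iff.2 ⟨Quotient.mk'' 1⟩
  obtain ⟨t, ht⟩ : ∃ t, Fintype.card (Quotient (MulAction.orbitRel K P)) = t + 1 :=
    ⟨_, (Nat.succ_pred_eq_of_pos hΩ).symm⟩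
  rw [ht] at hB
  refine ⟨t, ?_⟩
  have : (t + 1) * Fintype.card K = t * Fintype.card K + Fintype.card K := by ring
  rw [mul_comm]
  omega

theorem dvd_of_mersenne {n a : ℕ} (h : 2 ^ n - 1 ∣ 2 ^ a - 1) : n ∣ a := by
  have h1 := Nat.pow_sub_one_gcd_pow_sub_one 2 n a
  rw [Nat.gcd_eq_left h] at h1
  have h2 : 2 ^ n = 2 ^ (Nat.gcd n a) := by
    have a1 : 0 < 2 ^ n := by positivity
    have a2 : 0 < 2 ^ (Nat.gcd n a) := by positivity
    omega
  have h3 : n = Nat.gcd n a := Nat.pow_right_injective (le_refl 2) h2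
  rw [h3]
  exact Nat.gcd_dvd_right n a

theorem card_cases (h : Setup K)
    (h3 : ∃ e e' : P, e ∈ h.V ∧ e' ∈ h.V ∧ e ≠ 1 ∧ e' ≠ 1 ∧ e ≠ e')
    (hna : ∃ x y : P, x * y ≠ y * x) :
    (∀ x : P, x * x ∈ h.V) ∧
      (Nat.card P = Nat.card h.V ^ 2 ∨ Nat.card P = Nat.card h.V ^ 3) := by
  classical
  haveI : Fact (Nat.Prime 2) := ⟨Nat.prime_two⟩
  have hsq : ∀ x : P, x * x ∈ h.V := by
    rcases higman h h3 _ ⊤ rfl (fun _ _ _ _ => Subgroup.mem_top _) with hab | hsq
    · obtain ⟨x, y, hxy⟩ := hna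
      exact absurd (hab x (Subgroup.mem_top _) y (Subgroup.mem_top _)) hxy
    · exact fun x => hsq x (Subgroup.mem_top _)
  refine ⟨hsq, ?_⟩
  obtain ⟨e, e', he, he', he1, he'1, hee⟩ := h3
  have cfg : Cfsg.Agent.S3773.Cfg h.V := ⟨fun t ht g => Vc h ht g, fun t ht => ht, hsq⟩
  have hstar := Cfsg.Agent.S3773.star cfg
  have hcen : Nat.card (Subgroup.center P) = Nat.card h.V := by
    have : Subgroup.center P = h.V := by
      apply le_antisymm
      · intro z hz
        exact h.center_sq hna hz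
      · intro v hv
        exact Subgroup.mem_center_iff.2 (Vc h hv)
    rw [this]
  have hinv : Nat.card {x : P // x ^ 2 = 1} = Nat.card h.V := by
    apply Nat.card_congr
    exact Equiv.subtypeEquivRight (fun x => by rw [pow_two]; exact Iff.rfl)
  rw [hcen, hinv] at hstar
  obtain ⟨a, ha⟩ := IsPGroup.iff_card.1 h.two
  obtain ⟨n, hn⟩ := IsPGroup.iff_card.1 (h.two.to_subgroup h.V)
  have hK := card_K_add_one h he he1
  have hdvd := card_K_dvd h
  have hKq : Nat.card K = 2 ^ n - 1 := by omega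
  rw [hKq, ha] at hdvd
  obtain ⟨j, rfl⟩ := dvd_of_mersenne hdvd
  rw [ha, hn] at hstar ⊢
  have hn1 : 1 ≤ n := by
    rcases Nat.eq_zero_or_pos n with h0 | h0
    · exfalso
      rw [h0, pow_zero] at hn
      have := (Nat.card_eq_one_iff_unique.1 hn).1
      exact he1 (congrArg Subtype.val (Subsingleton.elim (⟨e, he⟩ : h.V) 1))
    · exact h0
  -- upper bound
  have hj3 : j ≤ 3 := by
    have h1 : 2 ^ (n * j + n) ≤ 2 ^ (4 * n) := by
      calc 2 ^ (n * j + n) = 2 ^ (n * j) * 2 ^ n := by rw [pow_add]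
        _ ≤ (2 ^ n * 2 ^ n) ^ 2 := hstar
        _ = 2 ^ (4 * n) := by rw [← pow_add, ← pow_mul]; congr 1; ring
    have h2 := (Nat.pow_le_pow_iff_right (by norm_num : 1 < 2)).1 h1
    by_contra hcon
    have : 4 ≤ j := by omega
    nlinarith
  have hj2 : 2 ≤ j := by
    by_contra hcon
    have hle : Nat.card P ≤ Nat.card h.V := by
      rw [ha, hn]
      apply Nat.pow_le_pow_right (by norm_num)
      have : j ≤ 1 := by omega
      nlinarith
    have htop : h.V = ⊤ := by
      apply Subgroup.eq_top_of_card_eq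
      exact le_antisymm (Subgroup.card_le_card_group _) hle
    obtain ⟨x, y, hxy⟩ := hna
    apply hxy
    have : y ∈ h.V := by rw [htop]; exact Subgroup.mem_top _
    exact Vc h this x
  have : j = 2 ∨ j = 3 := by omega
  rcases this with rfl | rfl
  · left; rw [pow_mul]
  · right; rw [pow_mul]

end Cfsg.Agent.Lib.Helper20.Suz
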