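import Mathlib
import Cfsg.Agent.Lib.Helper6.ZasFeit
import Cfsg.Prelude.Def_LieRecognition

/-!
# Zassenhaus groups with a 2-group kernel of Suzuki type: the element of order five (part A)
-/

set_option autoImplicit false
set_option linter.unusedSectionVars false

namespace Cfsg.Agent.Lib.Helper20.SuzZas

open Cfsg MulAction Cfsg.Agent.Lib.Helper6.Zas

/-- the derived facts, at the level of elements of `G` -/
structure Cx (G Ω : Type*) [Group G] [MulAction G Ω] (a b : Ω) (U : Subgroup G) : Prop where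
  hb : Base G Ω
  hab : a ≠ b
  Ua : ∀ x ∈ U, x • a = a
  Ufix : ∀ x ∈ U, x ≠ 1 → ∀ c : Ω, x • c = c → c = a
  Utr : ∀ y z : Ω, y ≠ a → z ≠ a → ∃ x ∈ U, x • y = z
  ifix : ∀ t : G, t ≠ 1 → t * t = 1 → ∃ c : Ω, t • c = c
  iuniq : ∀ t : G, t ≠ 1 → t * t = 1 → ∀ c d : Ω, t • c = c → t • d = d → c = d
  iU : ∀ t : G, t * t = 1 → t • a = a → t ∈ U ∧ ∀ x ∈ U, x * t = t * x
  sq : ∀ x ∈ U, (x * x) * (x * x) = 1

variable {G Ω : Type*} [Group G] [MulAction G Ω] {a b : Ω} {U : Subgroup G}

/-- a product of two involutions with different fixed points has odd order -/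
theorem Cx.odd_order [Finite G] (C : Cx G Ω a b U) {x y : G} (hx1 : x ≠ 1) (hx2 : x * x = 1)
    (hy1 : y ≠ 1) (hy2 : y * y = 1) {p p' : Ω} (hp : x • p = p) (hp' : y • p' = p')
    (hpp : p ≠ p') : Odd (orderOf (x * y)) := by
  by_contra hodd
  rw [Nat.not_odd_iff_even] at hodd
  obtain ⟨m, hm⟩ := hodd
  have hn0 : 0 < orderOf (x * y) := orderOf_pos _
  have hm0 : m ≠ 0 := by omega
  have hxi : x⁻¹ = x := inv_eq_of_mul_eq_one_left hx2
  have hyi : y⁻¹ = y := inv_eq_of_mul_eq_one_left hy2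
  set w := (x * y) ^ m with hw
  have hw1 : w ≠ 1 := pow_ne_one_of_lt_orderOf hm0 (by omega)
  have hw2 : w * w = 1 := by
    rw [hw, ← pow_add, ← hm, pow_orderOf_eq_one]
  have hwi : w⁻¹ = w := inv_eq_of_mul_eq_one_left hw2
  have hxy : (x * y)⁻¹ = y * x := by rw [mul_inv_rev, hxi, hyi]
  have h1 : x * w * x⁻¹ = w := by
    rw [hw, ← conj_pow]
    have : x * (x * y) * x⁻¹ = (x * y)⁻¹ := by
      rw [hxy, hxi, ← mul_assoc, hx2, one_mul]
    rw [this, inv_pow, ← hw, hwi]
  have h2 : y * w * y⁻¹ = w := by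
    rw [hw, ← conj_pow]
    have : y * (x * y) * y⁻¹ = (x * y)⁻¹ := by
      rw [hxy, hyi, mul_assoc, mul_assoc, hy2, mul_one]
    rw [this, inv_pow, ← hw, hwi]
  have h1' : x * w = w * x := by
    calc x * w = (x * w * x⁻¹) * x := by group
      _ = w * x := by rw [h1]
  have h2' : y * w = w * y := by
    calc y * w = (y * w * y⁻¹) * y := by group
      _ = w * y := by rw [h2]
  have h3 : w • p = p := by
    apply C.iuniq x hx1 hx2 _ _ _ hp
    rw [← mul_smul, h1', mul_smul, hp]
  have h4 : w • p' = p' := by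
    apply C.iuniq y hy1 hy2 _ _ _ hp'
    rw [← mul_smul, h2', mul_smul, hp']
  exact hpp (C.iuniq w hw1 hw2 _ _ h3 h4)

/-- the basic configuration: `t` swaps `a, b`, fixes `c`; `β ∈ U` maps `c` to `b` -/
structure Cfg (G Ω : Type*) [Group G] [MulAction G Ω] (a b : Ω) (U : Subgroup G) (t β z : G) (c : Ω) :
    Prop where
  t2 : t * t = 1
  ta : t • a = b
  tb : t • b = a
  tc : t • c = c
  βU : β ∈ U
  βc : β • c = b
  z1 : z ≠ 1
  z2 : z * z = 1
  za : z • a = a
  hz : β * t * β⁻¹ = t * z * t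

theorem Cx.exists_cfg (C : Cx G Ω a b U) {t : G} (t2 : t * t = 1) (ta : t • a = b)
    (tb : t • b = a) : ∃ β z c, Cfg G Ω a b U t β z c := by
  have ht1 : t ≠ 1 := by
    rintro rfl
    rw [one_smul] at ta
    exact C.hab ta
  have hti : t⁻¹ = t := inv_eq_of_mul_eq_one_left t2
  obtain ⟨c, tc⟩ := C.ifix t ht1 t2
  have hca : c ≠ a := by
    rintro rfl
    exact C.hab (tc.symm.trans ta)
  obtain ⟨β, βU, βc⟩ := C.Utr c b hca C.hab.symm
  refine ⟨β, t * (β * t * β⁻¹) * t, c, t2, ta, tb, tc, βU, βc, ?_, ?_, ?_, ?_⟩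
  · intro h
    apply ht1
    have h1 : β * t * β⁻¹ = t * (t * (β * t * β⁻¹) * t) * t := by
      calc β * t * β⁻¹ = (t * t) * (β * t * β⁻¹) * (t * t) := by rw [t2, one_mul, mul_one]
        _ = _ := by group
    rw [h, mul_one, t2] at h1
    calc t = β⁻¹ * (β * t * β⁻¹) * β := by group
      _ = 1 := by rw [h1]; group
  · calc t * (β * t * β⁻¹) * t * (t * (β * t * β⁻¹) * t)
        = t * (β * t * β⁻¹) * (t * t) * (β * t * β⁻¹) * t := by group
      _ = t * (β * t * β⁻¹) * (β * t * β⁻¹) * t := by rw [t2, mul_one]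
      _ = t * (β * (t * t) * β⁻¹) * t := by group
      _ = 1 := by rw [t2]; simp [t2]
  · rw [mul_smul, mul_smul, ta, mul_smul, mul_smul]
    have : β⁻¹ • b = c := by rw [← βc, inv_smul_smul]
    rw [this, tc, βc, tb]
  · calc β * t * β⁻¹ = (t * t) * (β * t * β⁻¹) * (t * t) := by rw [t2, one_mul, mul_one]
      _ = _ := by group

variable {t β z : G} {c : Ω}

theorem Cfg.key (F : Cfg G Ω a b U t β z c) (C : Cx G Ω a b U) :
    (β * β * t) * (β * β * t) = (t * z) ^ 3 := by
  have hzc := (C.iU z F.z2 F.za).2 β F.βU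
  have hs2 := C.sq β F.βU
  have hsi : (β * β)⁻¹ = β * β := inv_eq_of_mul_eq_one_left hs2
  have h1 : β * z * β⁻¹ = z := by rw [hzc]; group
  have h2 : (β * β) * t * (β * β)⁻¹ = (t * z * t) * z * (t * z * t) := by
    calc (β * β) * t * (β * β)⁻¹ = β * (β * t * β⁻¹) * β⁻¹ := by group
      _ = β * (t * z * t) * β⁻¹ := by rw [F.hz]
      _ = (β * t * β⁻¹) * (β * z * β⁻¹) * (β * t * β⁻¹) := by group
      _ = _ := by rw [F.hz, h1]
  rw [hsi] at h2
  calc (β * β * t) * (β * β * t) = ((β * β) * t * (β * β)) * t := by group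
    _ = (t * z * t) * z * (t * z * t) * t := by rw [h2]
    _ = t * z * t * z * t * z * (t * t) := by group
    _ = (t * z) ^ 3 := by rw [F.t2, mul_one, pow_succ, pow_two]; group

/-- the case `β² ≠ 1`: an element of order five without fixed points -/
theorem Cfg.five [Finite G] [Finite Ω] (F : Cfg G Ω a b U t β z c) (C : Cx G Ω a b U)
    (hs : β * β ≠ 1) : 5 ∣ Nat.card Ω := by
  have hkey := F.key C
  have hs2 := C.sq β F.βU
  have hsU : β * β ∈ U := U.mul_mem F.βU F.βU
  have hsa : (β * β) • a = a := C.Ua _ hsU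
  have hzU := (C.iU z F.z2 F.za).1
  have hzc := (C.iU z F.z2 F.za).2
  have ht1 : t ≠ 1 := by
    intro h
    have := F.ta
    rw [h, one_smul] at this
    exact C.hab this
  have hca : c ≠ a := by
    intro h
    have h1 := F.tc
    rw [h, F.ta] at h1
    exact C.hab h1.symm
  have hβ1 : β ≠ 1 := by
    intro h
    apply hs
    rw [h, one_mul]
  set s := β * β with hsdef
  -- `s t` has odd order
  obtain ⟨m, hm⟩ := C.odd_order hs hs2 ht1 F.t2 hsa F.tc hca.symm
  have h1 : s * t = ((t * z) ^ 3) ^ (m + 1) := by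
    rw [← hkey, ← pow_two, ← pow_mul]
    have : 2 * (m + 1) = orderOf (s * t) + 1 := by omega
    rw [this, pow_succ, pow_orderOf_eq_one, one_mul]
  have h2 : Commute (s * t) (t * z) := by
    rw [h1]
    exact ((Commute.refl (t * z)).pow_left 3).pow_left (m + 1)
  have h3 : s * z = t * (z * s) * t := by
    have h4 : (s * t) * (t * z) = (t * z) * (s * t) := h2
    calc s * z = s * (t * t) * z := by rw [F.t2, mul_one]
      _ = (s * t) * (t * z) := by group
      _ = (t * z) * (s * t) := h4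
      _ = _ := by group
  have hsz : s * z = z * s := hzc s hsU
  have h5 : t * (s * z) = (s * z) * t := by
    calc t * (s * z) = t * (t * (z * s) * t) := by rw [← h3]
      _ = (t * t) * (z * s) * t := by group
      _ = (s * z) * t := by rw [F.t2, one_mul, hsz]
  have h6 : s * z = 1 := by
    by_contra hne
    have h7 : (s * z) • b = b := by
      rw [← F.ta, ← mul_smul, ← h5, mul_smul, C.Ua _ (U.mul_mem hsU hzU)]
    exact C.hab (C.Ufix _ (U.mul_mem hsU hzU) hne b h7).symm
  have hsz' : s = z := by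
    calc s = s * (z * z) := by rw [F.z2, mul_one]
      _ = (s * z) * z := by group
      _ = z := by rw [h6, one_mul]
  -- `y = z t` has order five
  set y := z * t with hy
  have hyi : t * z = y⁻¹ := by
    rw [hy, mul_inv_rev, inv_eq_of_mul_eq_one_left F.t2, inv_eq_of_mul_eq_one_left F.z2]
  have hy5 : y ^ 5 = 1 := by
    have h8 : y * y = (y⁻¹) ^ 3 := by
      rw [← hyi, ← hkey, hsz']
    calc y ^ 5 = y ^ 3 * (y * y) := by group
      _ = y ^ 3 * (y⁻¹) ^ 3 := by rw [h8]
      _ = 1 := by group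
  have hy1 : y ≠ 1 := by
    intro h
    have h9 : y • a = a := by rw [h, one_smul]
    rw [hy, mul_smul, F.ta] at h9
    have h10 : z • b = b := by
      have : z • (z • b) = z • a := by rw [h9]
      rw [← mul_smul, F.z2, one_smul, F.za] at this
      rw [h9]
      exact this.symm
    exact C.hab (C.Ufix z hzU F.z1 b h10).symm
  have hconj : β * y * β⁻¹ = y * y := by
    have h11 : β * z * β⁻¹ = z := by rw [hzc β F.βU]; group
    calc β * y * β⁻¹ = (β * z * β⁻¹) * (β * t * β⁻¹) := by rw [hy]; group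
      _ = z * (t * z * t) := by rw [h11, F.hz]
      _ = y * y := by rw [hy]; group
  have hya : y • a ≠ a := by
    intro h9
    rw [hy, mul_smul, F.ta] at h9
    have h10 : z • b = b := by
      have : z • (z • b) = z • a := by rw [h9]
      rw [← mul_smul, F.z2, one_smul, F.za] at this
      rw [h9]
      exact this.symm
    exact C.hab (C.Ufix z hzU F.z1 b h10).symm
  have hstep : ∀ p : Ω, y • p = p → y • (β • p) = β • p := by
    intro p hp
    have h12 : (y * y) • (β • p) = β • p := by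
      rw [← hconj, ← mul_smul]
      have : β * y * β⁻¹ * β = β * y := by group
      rw [this, mul_smul, hp]
    have h13 : y = (y * y) ^ 3 := by
      calc y = y ^ 5 * y := by rw [hy5, one_mul]
        _ = (y * y) ^ 3 := by rw [← pow_two, ← pow_mul, ← pow_succ]
    rw [h13, pow_succ, pow_two, mul_smul, mul_smul, h12, h12, h12]
  have hfpf : ∀ p : Ω, y • p ≠ p := by
    intro p hp
    have hp1 := hstep p hp
    have hp2 := hstep _ hp1
    have hpa : p ≠ a := by
      intro h
      rw [h] at hp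
      exact hya hp
    have hd1 : p ≠ β • p := fun h => hpa (C.Ufix β F.βU hβ1 p h.symm)
    have hd2 : β • p ≠ β • (β • p) := fun h => hd1 (smul_left_cancel β h)
    have hd3 : p ≠ β • (β • p) := by
      intro h
      apply hpa
      apply C.Ufix s hsU hs p
      rw [hsdef, mul_smul]
      exact h.symm
    exact hy1 (C.hb.three y _ _ _ hd1 hd2 hd3 hp hp1 hp2)
  have : Fact (Nat.Prime 5) := ⟨by norm_num⟩
  have ho : orderOf y = 5 := orderOf_eq_prime hy5 hy1
  have hP : IsPGroup 5 (Subgroup.zpowers y) := by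
    apply IsPGroup.of_card (n := 1)
    rw [Nat.card_zpowers, ho, pow_one]
  have hmod := hP.card_modEq_card_fixedPoints Ω
  have hempty : IsEmpty (fixedPoints (Subgroup.zpowers y) Ω) := by
    constructor
    rintro ⟨p, hp⟩
    exact hfpf p (hp ⟨y, Subgroup.mem_zpowers y⟩)
  have h0 : Nat.card (fixedPoints (Subgroup.zpowers y) Ω) = 0 := Nat.card_of_isEmpty
  rw [h0] at hmod
  exact (Nat.modEq_zero_iff_dvd).1 hmod

end Cfsg.Agent.Lib.Helper20.SuzZas
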