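import Mathlib
import Cfsg.Agent.Lib.Helper20.SuzZasA

/-!
# Zassenhaus groups with a 2-group kernel of Suzuki type: the subgroup of order `(q+1) q d` (part B)
-/

set_option autoImplicit false
set_option linter.unusedSectionVars false

namespace Cfsg.Agent.Lib.Helper20.SuzZas

open Cfsg MulAction Cfsg.Agent.Lib.Helper6.Zas
open scoped Pointwise

variable {G Ω : Type*} [Group G] [MulAction G Ω] {a b : Ω} {U : Subgroup G}

theorem card_eq_orbit_mul (L : Subgroup G) (x : Ω) :
    Nat.card L = Nat.card (orbit L x) * Nat.card (L ⊓ stabilizer G x : Subgroup G) := by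
  rw [Subgroup.card_eq_card_quotient_mul_card_subgroup (stabilizer L x),
    Nat.card_congr (orbitEquivQuotientStabilizer L x)]
  congr 1
  apply Nat.card_congr
  exact ⟨fun g => ⟨g.1.1, g.1.2, g.2⟩, fun g => ⟨⟨g.1, g.2.1⟩, g.2.2⟩, fun _ => rfl, fun _ => rfl⟩

/-- the elements of order at most two fixing `a` -/
def Zs (G : Type*) {Ω : Type*} [Group G] [MulAction G Ω] (a : Ω) : Set G := {x | x * x = 1 ∧ x • a = a}

/-- the block -/
def Dl (G : Type*) {Ω : Type*} [Group G] [MulAction G Ω] (a b : Ω) : Set Ω :=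
  {x | x = a ∨ ∃ z ∈ Zs G a, x = z • b}

variable {t β z : G} {c : Ω}

theorem Cfg.sub [Finite G] [Finite Ω] (F : Cfg G Ω a b U t β z c) (C : Cx G Ω a b U)
    (hs : β * β = 1)
    (tinv : ∀ h ∈ stabilizer G a ⊓ stabilizer G b, t * h * t⁻¹ = h⁻¹)
    (htrans : ∀ z' : G, z' ≠ 1 → z' * z' = 1 → z' • a = a →
      ∃ h ∈ stabilizer G a ⊓ stabilizer G b, z' = h * β * h⁻¹) :
    ∃ L : Subgroup G, Nat.card L = (Nat.card (Zs G a) + 1) *
      (Nat.card (Zs G a) * Nat.card ↥(stabilizer G a ⊓ stabilizer G b)) := by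
  classical
  have hfin : (Dl G a b).Finite := Set.toFinite _
  have haD : a ∈ Dl G a b := Or.inl rfl
  have hzD : ∀ z' ∈ Zs G a, z' • b ∈ Dl G a b := fun z' hz' => Or.inr ⟨z', hz', rfl⟩
  have h1Z : (1 : G) ∈ Zs G a := ⟨by simp, by simp⟩
  have hbD : b ∈ Dl G a b := by
    have := hzD 1 h1Z
    rwa [one_smul] at this
  have hmulZ : ∀ x ∈ Zs G a, ∀ y ∈ Zs G a, x * y ∈ Zs G a := by
    intro x hx y hy
    refine ⟨?_, by rw [mul_smul, hy.2, hx.2]⟩
    have h1 := (C.iU y hy.1 hy.2).2 x (C.iU x hx.1 hx.2).1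
    calc x * y * (x * y) = x * (y * x) * y := by group
      _ = x * (x * y) * y := by rw [h1]
      _ = (x * x) * (y * y) := by group
      _ = 1 := by rw [hx.1, hy.1, one_mul]
  have hinj : ∀ x ∈ Zs G a, ∀ y ∈ Zs G a, x • b = y • b → x = y := by
    intro x hx y hy hxy
    by_contra hne
    have hxU := (C.iU x hx.1 hx.2).1
    have hyU := (C.iU y hy.1 hy.2).1
    have h1 : (y⁻¹ * x) • b = b := by rw [mul_smul, hxy, inv_smul_smul]
    have h2 : y⁻¹ * x ≠ 1 := by
      intro h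
      apply hne
      calc x = y * (y⁻¹ * x) := by group
        _ = y := by rw [h, mul_one]
    exact C.hab (C.Ufix _ (U.mul_mem (U.inv_mem hyU) hxU) h2 b h1).symm
  have hne_a : ∀ x ∈ Zs G a, x • b ≠ a := by
    intro x hx h
    apply C.hab
    have : x⁻¹ • (x • b) = x⁻¹ • a := by rw [h]
    rw [inv_smul_smul] at this
    rw [this, eq_comm, inv_smul_eq_iff, hx.2]
  have hti : t⁻¹ = t := inv_eq_of_mul_eq_one_left F.t2
  have hβb : β • b = c := by
    rw [← F.βc, ← mul_smul, hs, one_smul]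
  have hβa : β • a = a := C.Ua β F.βU
  set L : Subgroup G := stabilizer G (Dl G a b) with hL
  have hZL : ∀ x ∈ Zs G a, x ∈ L := by
    intro x hx
    rw [hL, mem_stabilizer_set' hfin]
    rintro p (rfl | ⟨y, hy, rfl⟩)
    · rw [hx.2]; exact haD
    · rw [← mul_smul]; exact hzD _ (hmulZ x hx y hy)
  have hHL : stabilizer G a ⊓ stabilizer G b ≤ L := by
    intro h hh
    have hha : h • a = a := hh.1
    have hhb : h • b = b := hh.2
    rw [hL, mem_stabilizer_set' hfin]
    rintro p (rfl | ⟨y, hy, rfl⟩)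
    · rw [hha]; exact haD
    · have h1 : h • y • b = (h * y * h⁻¹) • b := by
        rw [mul_smul, mul_smul, inv_smul_eq_iff.2 hhb.symm]
      rw [h1]
      apply hzD
      refine ⟨?_, ?_⟩
      · calc h * y * h⁻¹ * (h * y * h⁻¹) = h * (y * y) * h⁻¹ := by group
          _ = 1 := by rw [hy.1]; group
      · rw [mul_smul, mul_smul, inv_smul_eq_iff.2 hha.symm, hy.2, hha]
  have htL : t ∈ L := by
    rw [hL, mem_stabilizer_set' hfin]
    rintro p (rfl | ⟨y, hy, rfl⟩)
    · rw [F.ta]; exact hbD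
    · by_cases hy1 : y = 1
      · rw [hy1, one_smul, F.tb]; exact haD
      · obtain ⟨h, hh, rfl⟩ := htrans y hy1 hy.1 hy.2
        have hha : h • a = a := hh.1
        have hhb : h • b = b := hh.2
        have hhib : h⁻¹ • b = b := inv_smul_eq_iff.2 hhb.symm
        have hhia : h⁻¹ • a = a := inv_smul_eq_iff.2 hha.symm
        have h1 : t • (h * β * h⁻¹) • b = (h⁻¹ * β * h) • b := by
          have h2 : t * h = h⁻¹ * t := by
            calc t * h = (t * h * t⁻¹) * t := by group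
              _ = h⁻¹ * t := by rw [tinv h hh]
          rw [mul_smul, mul_smul, hhib, hβb, ← mul_smul, h2, mul_smul, F.tc, mul_smul, mul_smul,
            hhb, hβb]
        rw [h1]
        apply hzD
        refine ⟨?_, ?_⟩
        · calc h⁻¹ * β * h * (h⁻¹ * β * h) = h⁻¹ * (β * β) * h := by group
            _ = 1 := by rw [hs]; group
        · rw [mul_smul, mul_smul, hha, hβa, hhia]
  have hLD : ∀ g ∈ L, ∀ p ∈ Dl G a b, g • p ∈ Dl G a b := by
    intro g hg p hp
    rw [hL, mem_stabilizer_set' hfin] at hg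
    exact hg hp
  refine ⟨L, ?_⟩
  rw [card_eq_orbit_mul L a, card_eq_orbit_mul (L ⊓ stabilizer G a) b]
  have e1 : Nat.card (orbit L a) = Nat.card (Zs G a) + 1 := by
    rw [← Finite.card_option]
    symm
    apply Nat.card_congr
    refine Equiv.ofBijective (fun o => match o with
      | none => ⟨a, mem_orbit_self a⟩
      | some x => ⟨x.1 • b, ⟨⟨x.1 * t, L.mul_mem (hZL x.1 x.2) htL⟩, by
          show (x.1 * t) • a = x.1 • b
          rw [mul_smul, F.ta]⟩⟩) ⟨?_, ?_⟩
    · rintro (_ | x) (_ | y) hxy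
      · rfl
      · exact absurd (congrArg Subtype.val hxy).symm (hne_a y.1 y.2)
      · exact absurd (congrArg Subtype.val hxy) (hne_a x.1 x.2)
      · exact congrArg some (Subtype.ext (hinj x.1 x.2 y.1 y.2 (congrArg Subtype.val hxy)))
    · rintro ⟨p, ⟨g, rfl⟩⟩
      rcases hLD g.1 g.2 a haD with h | ⟨y, hy, h⟩
      · exact ⟨none, Subtype.ext h.symm⟩
      · exact ⟨some ⟨y, hy⟩, Subtype.ext h.symm⟩
  have e2 : Nat.card (orbit ↥(L ⊓ stabilizer G a) b) = Nat.card (Zs G a) := by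
    symm
    apply Nat.card_congr
    refine Equiv.ofBijective (fun x => ⟨x.1 • b, ⟨⟨x.1, hZL x.1 x.2, x.2.2⟩, rfl⟩⟩) ⟨?_, ?_⟩
    · intro x y hxy
      exact Subtype.ext (hinj x.1 x.2 y.1 y.2 (congrArg Subtype.val hxy))
    · rintro ⟨p, ⟨g, rfl⟩⟩
      rcases hLD g.1 g.2.1 b hbD with h | ⟨y, hy, h⟩
      · exfalso
        apply C.hab
        have hga : g.1 • a = a := g.2.2
        have : g.1 • b = g.1 • a := by rw [h, hga]
        exact (smul_left_cancel g.1 this).symm
      · exact ⟨⟨y, hy⟩, Subtype.ext h.symm⟩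
  have e3 : L ⊓ stabilizer G a ⊓ stabilizer G b = stabilizer G a ⊓ stabilizer G b := by
    rw [inf_assoc]
    exact inf_eq_right.2 hHL
  rw [e1, e2, e3]

end Cfsg.Agent.Lib.Helper20.SuzZas
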