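import Mathlib
import Cfsg.Agent.Lib.Helper20.SuzZasB

/-!
# Zassenhaus groups with a 2-group kernel of Suzuki type: `5 ∣ |Ω|` or a subgroup of order `(q+1) q d`
-/

set_option autoImplicit false
set_option linter.unusedSectionVars false

namespace Cfsg.Agent.Lib.Helper20.SuzZas

open Cfsg MulAction Cfsg.Agent.Lib.Helper6.Zas
open scoped Pointwise

theorem suz_five {G Ω : Type*} [Group G] [Finite G] [MulAction G Ω] [Finite Ω]
    (hZ : Cfsg.IsZassenhausGroup G Ω) {a b : Ω} (hab : a ≠ b) (U : Subgroup G)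
    (hUle : U ≤ stabilizer G a) (hU2 : IsPGroup 2 U)
    (hreg : ∀ y z : Ω, y ≠ a → z ≠ a → ∃! u : U, (u : G) • y = z)
    (hinv : ∀ x : U, (x ≠ 1 ∧ x * x = 1) ↔ (x ∈ Subgroup.center U ∧ x ≠ 1))
    (hsq : ∀ x : U, x * x ∈ Subgroup.center U) :
    5 ∣ Nat.card Ω ∨ ∃ L : Subgroup G, Nat.card L = (Nat.card (Subgroup.center U) + 1) *
      (Nat.card (Subgroup.center U) * Nat.card ↥(stabilizer G a ⊓ stabilizer G b)) := by
  classical
  cases nonempty_fintype Ω
  cases nonempty_fintype G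
  have : Fact (Nat.Prime 2) := ⟨Nat.prime_two⟩
  have hb := base_of_zassenhaus hZ
  have Ua : ∀ x ∈ U, x • a = a := fun x hx => hUle hx
  have Ufix : ∀ x ∈ U, x ≠ 1 → ∀ c : Ω, x • c = c → c = a := by
    intro x hx hx1 c hc
    by_contra hca
    obtain ⟨u, -, hu⟩ := hreg c c hca hca
    have h1 := hu ⟨x, hx⟩ hc
    have h2 := hu 1 (by simp)
    apply hx1
    have := h1.trans h2.symm
    exact congrArg Subtype.val this
  have Utr : ∀ y z : Ω, y ≠ a → z ≠ a → ∃ x ∈ U, x • y = z := by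
    intro y z hy hz
    obtain ⟨u, hu, -⟩ := hreg y z hy hz
    exact ⟨u.1, u.2, hu⟩
  -- cardinalities
  have hcardU : Nat.card U + 1 = Fintype.card Ω := by
    have e : U ≃ {y : Ω // y ≠ a} := Equiv.ofBijective
      (fun x => ⟨(x : G) • b, fun h => hab (by
        have h1 : (x : G) • b = (x : G) • a := by rw [h, Ua x.1 x.2]
        exact (smul_left_cancel _ h1).symm)⟩)
      ⟨by
        intro x y hxy
        have h1 : (x : G) • b = (y : G) • b := congrArg Subtype.val hxy
        have hne : (y : G) • b ≠ a := fun h => hab (by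
          have h1 : (y : G) • b = (y : G) • a := by rw [h, Ua y.1 y.2]
          exact (smul_left_cancel _ h1).symm)
        obtain ⟨u, -, hu⟩ := hreg b ((y : G) • b) hab.symm hne
        rw [hu x h1, hu y rfl], by
        rintro ⟨y, hy⟩
        obtain ⟨u, hu, -⟩ := hreg b y hab.symm hy
        exact ⟨u, Subtype.ext hu⟩⟩
    rw [Nat.card_congr e, Nat.card_eq_fintype_card, Fintype.card_subtype_compl,
      Fintype.card_subtype_eq]
    have : 0 < Fintype.card Ω := Fintype.card_pos_iff.2 ⟨a⟩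
    omega
  obtain ⟨k, hk⟩ := hU2.exists_card_eq
  have hk0 : k ≠ 0 := by
    rintro rfl
    rw [pow_zero] at hk
    obtain ⟨c, hca, hcb⟩ := exists_third hZ a b
    obtain ⟨x, hx, hxb⟩ := Utr b c hab.symm hca
    have hsub : Subsingleton U := (Nat.card_eq_one_iff_unique.1 hk).1
    have h1 : (⟨x, hx⟩ : U) = 1 := Subsingleton.elim _ _
    have h2 : x = 1 := congrArg Subtype.val h1
    rw [h2, one_smul] at hxb
    exact hcb hxb.symm
  have hev : Even (2 ^ k) := (Nat.even_pow.2 ⟨even_two, hk0⟩)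
  have hn : Odd (Fintype.card Ω) := by
    rw [← hcardU, hk]
    exact hev.add_one
  have hodd : Odd (Nat.card ↥(stabilizer G a ⊓ stabilizer G b)) := by
    have h1 := hb.card_stab2_dvd hab (h := 2 ^ k) (by rw [← hcardU, hk])
    have h2 : Odd (2 ^ k - 1) := by
      have : 0 < 2 ^ k := by positivity
      obtain ⟨r, hr⟩ := hev
      exact ⟨r - 1, by omega⟩
    exact Odd.of_dvd_nat h2 h1
  have ifix : ∀ t : G, t ≠ 1 → t * t = 1 → ∃ c : Ω, t • c = c :=
    fun t h1 h2 => hb.invol_exists_fix hn t h1 h2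
  have iuniq : ∀ t : G, t ≠ 1 → t * t = 1 → ∀ c d : Ω, t • c = c → t • d = d → c = d :=
    fun t h1 h2 c d hc hd => hb.invol_fix_unique hab hodd t h1 h2 hc hd
  have hker := mem_kernel hb hab U hUle hcardU Ufix
  have iU : ∀ t : G, t * t = 1 → t • a = a → t ∈ U ∧ ∀ x ∈ U, x * t = t * x := by
    intro t h2 ha
    by_cases h1 : t = 1
    · subst h1
      exact ⟨U.one_mem, fun x _ => by simp⟩
    have htU : t ∈ U := hker t ha (fun d hd => iuniq t h1 h2 d a hd ha)
    refine ⟨htU, fun x hx => ?_⟩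
    have h3 : (⟨t, htU⟩ : U) ∈ Subgroup.center U :=
      ((hinv ⟨t, htU⟩).1 ⟨fun h => h1 (congrArg Subtype.val h), Subtype.ext h2⟩).1
    exact congrArg Subtype.val (Subgroup.mem_center_iff.1 h3 ⟨x, hx⟩)
  have hcen2 : ∀ x : U, x ∈ Subgroup.center U → (x : G) * x = 1 := by
    intro x hx
    by_cases h1 : x = 1
    · subst h1; simp
    · exact congrArg Subtype.val ((hinv x).2 ⟨hx, h1⟩).2
  have sq : ∀ x ∈ U, (x * x) * (x * x) = 1 := fun x hx => hcen2 _ (hsq ⟨x, hx⟩)
  have C : Cx G Ω a b U := ⟨hb, hab, Ua, Ufix, Utr, ifix, iuniq, iU, sq⟩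
  obtain ⟨t, t2, ta, tb⟩ := exists_invol_swap hZ hab
  obtain ⟨β, z, c, F⟩ := C.exists_cfg t2 ta tb
  by_cases hs : β * β = 1
  · right
    have tinv := (swap_inverts_of_odd_degree hZ hn hab hodd t ta tb).2
    have hq : Nat.card (Subgroup.center U) = Nat.card (Zs G a) := by
      apply Nat.card_congr
      refine ⟨fun x => ⟨x.1.1, hcen2 x.1 x.2, Ua _ x.1.2⟩, fun x => ⟨⟨x.1, (iU x.1 x.2.1 x.2.2).1⟩,
        Subgroup.mem_center_iff.2 (fun y => Subtype.ext ((iU x.1 x.2.1 x.2.2).2 y.1 y.2))⟩,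
        fun _ => rfl, fun _ => rfl⟩
    have hβ1 : β ≠ 1 := by
      intro h
      have h1 := F.βc
      rw [h, one_smul] at h1
      have h2 := F.tc
      rw [h1, tb] at h2
      exact hab h2
    have hβa : β • a = a := Ua β F.βU
    have hsetup := kernel_setup hb hab U hUle hcardU Ufix
    have htrans : ∀ z' : G, z' ≠ 1 → z' * z' = 1 → z' • a = a →
        ∃ h ∈ stabilizer G a ⊓ stabilizer G b, z' = h * β * h⁻¹ := by
      have hcount := (hb.card_invol_of_fix hab rfl (h := 2 ^ k) (by rw [← hcardU, hk])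
        (fun c d hcd s hsc hsd => by
          have hodd' : Odd (Nat.card ↥(stabilizer G c ⊓ stabilizer G d)) := by
            rw [hb.card_stab2 hab hcd]; exact hodd
          exact (swap_inverts_of_odd_degree hZ hn hcd hodd' s hsc hsd).1)
        (fun t h1 h2 => by
          obtain ⟨c, hc⟩ := ifix t h1 h2
          exact ⟨c, hc, fun d hd => iuniq t h1 h2 d c hd hc⟩)).2 a
      let f : ↥(stabilizer G a ⊓ stabilizer G b) → {t : G // (t ≠ 1 ∧ t * t = 1) ∧ t • a = a} :=
        fun h => ⟨h.1 * β * h.1⁻¹, ⟨by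
          intro h0
          apply hβ1
          calc β = h.1⁻¹ * (h.1 * β * h.1⁻¹) * h.1 := by group
            _ = 1 := by rw [h0]; group, by
          calc h.1 * β * h.1⁻¹ * (h.1 * β * h.1⁻¹) = h.1 * (β * β) * h.1⁻¹ := by group
            _ = 1 := by rw [hs]; group⟩, by
          have hha : h.1 • a = a := h.2.1
          rw [mul_smul, mul_smul, inv_smul_eq_iff.2 hha.symm, hβa, hha]⟩
      have hfinj : Function.Injective f := by
        intro h h' hh
        have h1 : h.1 * β * h.1⁻¹ = h'.1 * β * h'.1⁻¹ := congrArg Subtype.val hh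
        have h2 : h'.1⁻¹ * h.1 ∈ Subgroup.centralizer ({β} : Set G) := by
          rw [Subgroup.mem_centralizer_singleton_iff]
          calc h'.1⁻¹ * h.1 * β = h'.1⁻¹ * (h.1 * β * h.1⁻¹) * h.1 := by group
            _ = h'.1⁻¹ * (h'.1 * β * h'.1⁻¹) * h.1 := by rw [h1]
            _ = β * (h'.1⁻¹ * h.1) := by group
        have h3 : h'.1⁻¹ * h.1 ∈ U := hsetup.cent β F.βU hβ1 h2
        have h4 : (h'.1⁻¹ * h.1) • b = b := by
          have hb1 : h.1 • b = b := h.2.2
          have hb2 : h'.1 • b = b := h'.2.2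
          rw [mul_smul, hb1, inv_smul_eq_iff, hb2]
        have h5 : h'.1⁻¹ * h.1 = 1 := by
          by_contra hne
          exact hab (Ufix _ h3 hne b h4).symm
        apply Subtype.ext
        calc h.1 = h'.1 * (h'.1⁻¹ * h.1) := by group
          _ = h'.1 := by rw [h5, mul_one]
      have hfbij : Function.Bijective f := by
        rw [Fintype.bijective_iff_injective_and_card]
        refine ⟨hfinj, ?_⟩
        rw [Fintype.card_subtype (fun t : G => (t ≠ 1 ∧ t * t = 1) ∧ t • a = a), hcount,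
          Nat.card_eq_fintype_card]
      intro z' h1 h2 h3
      obtain ⟨h, hh⟩ := hfbij.2 ⟨z', ⟨h1, h2⟩, h3⟩
      exact ⟨h.1, h.2, (congrArg Subtype.val hh).symm⟩
    rw [hq]
    exact F.sub C hs tinv htrans
  · left
    exact F.five C hs

end Cfsg.Agent.Lib.Helper20.SuzZas
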