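/-
Helper library (helper20): Bender–Glauberman 14.4(e) / 14.6: general lemmas.
`π(M) ∩ σ(H) ⊆ β(H)` in the configuration `q ∈ σ(M) ∩ τ₂(H)`, `A ∈ E_q²(M ∩ H)`.
-/
import Cfsg.Agent.Lib.Helper20.BG144g
import Cfsg.Agent.Lib.Helper24.BG10c

set_option autoImplicit false
set_option linter.unusedSimpArgs false
set_option linter.unusedVariables false
set_option linter.style.haveILetI false
set_option linter.unusedSectionVars false

namespace Cfsg.Agent.Lib.Helper20.BG14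

open Subgroup Cfsg
open Cfsg.Agent.Lib
open Cfsg.Agent.Lib.Helper24 Cfsg.Agent.Lib.Helper34 Cfsg.Agent.Lib.Helper31.BG11
open Cfsg.Agent.Lib.Helper34.BG13 Cfsg.Agent.Lib.Helper34.BG16 Cfsg.Agent.Lib.Helper10.BG124

universe u

variable {G : Type u} [Group G] [Finite G]

theorem elemAb_of_card_prime {X : Subgroup G} {p : ℕ} (hp : p.Prime) (hX : Nat.card X = p) :
    IsElementaryAbelian p X := by
  haveI : Fact p.Prime := ⟨hp⟩
  haveI : IsCyclic X := isCyclic_of_prime_card hX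
  refine ⟨⟨⟨fun a b => ?_⟩⟩, ?_⟩
  · exact IsCyclic.commGroup.mul_comm a b
  · intro a ha
    have := pow_card_eq_one' (G := X) (x := ⟨a, ha⟩)
    rw [hX] at this
    exact congrArg Subtype.val this

theorem isPGroup_of_card_prime {X : Subgroup G} {p : ℕ} (hp : p.Prime) (hX : Nat.card X = p) :
    IsPGroup p X := by
  haveI : Fact p.Prime := ⟨hp⟩
  exact IsPGroup.of_card (n := 1) (by rw [hX, pow_one])

/-- In a group of `p`-rank one the subgroups of order `p` are conjugate. -/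
theorem conj_of_rank_one {L X₁ X₂ : Subgroup G} {p : ℕ} [hp : Fact p.Prime] (hp2 : p ≠ 2)
    (h1 : PRankLE p 1 L) (hX₁ : X₁ ≤ L) (hX₂ : X₂ ≤ L) (c₁ : Nat.card X₁ = p)
    (c₂ : Nat.card X₂ = p) : ∃ m ∈ L, cj m X₂ = X₁ := by
  obtain ⟨S, hS, hXS⟩ := exists_isSylowIn_ge hX₁ (isPGroup_of_card_prime hp.out c₁)
  obtain ⟨m, hm, hle⟩ := hS.exists_conj_le hX₂ (isPGroup_of_card_prime hp.out c₂)
  refine ⟨m, hm, ?_⟩
  haveI hcyc : IsCyclic S := isCyclic_of_pRankLE_one hp2 hS.2.1 (pRankLE_mono hS.1 h1)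
  have hc2 : Nat.card (cj m X₂) = p := by rw [card_map_conj, c₂]
  obtain ⟨x, hx, hx1⟩ := exists_ne_one_of_card_prime hp.out hc2
  have hxS : x ∈ S := hle hx
  have hcomm : ∀ a ∈ S, ∀ b ∈ S, a * b = b * a := by
    intro a ha b hb
    have := IsCyclic.commGroup.mul_comm (⟨a, ha⟩ : S) ⟨b, hb⟩
    exact congrArg Subtype.val this
  have hxc : x ∈ centralizer (X₁ : Set G) := by
    rw [mem_centralizer_iff]
    intro y hy
    exact hcomm y (hXS hy) x hxS
  have hxp : x ^ p = 1 := (elemAb_of_card_prime hp.out hc2).2 x hx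
  have hel := elemAb_sup_zpowers (elemAb_of_card_prime hp.out c₁) hxc hxp
  have hle2 : X₁ ⊔ zpowers x ≤ L := sup_le hX₁ (zpowers_le.mpr (hS.1 hxS))
  have hcard := (pRankLE_iff L).mp h1 _ hle2 hel.1 hel.2
  rw [pow_one] at hcard
  have heq : X₁ = X₁ ⊔ zpowers x :=
    Subgroup.eq_of_le_of_card_ge le_sup_left (by rw [c₁]; exact hcard)
  have hz : cj m X₂ ≤ X₁ := by
    rw [eq_zpowers_of_card_prime hp.out hc2 hx hx1, heq]
    exact le_sup_right
  exact Subgroup.eq_of_le_of_card_ge hz (by rw [c₁, hc2])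

theorem alpha_cj {L : Subgroup G} {p : ℕ} (g : G) (h : p ∈ alpha L) : p ∈ alpha (cj g L) := by
  refine ⟨h.1, fun h2 => h.2 ?_⟩
  have := pRankLE_cj g⁻¹ h2
  rwa [cj_inv_cj] at this

theorem beta_cj {L : Subgroup G} {p : ℕ} (g : G) (h : p ∈ beta L) : p ∈ beta (cj g L) :=
  ⟨alpha_cj g h.1, h.2⟩

/-- `q ∈ τ₂(H)`, `t ∈ σ(H) ∖ β(H)`: then `q < t`. -/
theorem tau2_lt_sigma_beta (hG : IsMinSimpleOddOrder G) {H : Subgroup G} (hH : IsCoatom H)
    {q t : ℕ} (hq : q ∈ tau2 H) (ht : t ∈ sigma H) (hti : t ∉ beta H) : q < t := by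
  have hU := ut hG
  haveI : Fact q.Prime := ⟨hq.1⟩
  haveI : Fact t.Prime := ⟨ht.1⟩
  obtain ⟨E, hE⟩ := exists_compl hG hU hH
  obtain ⟨A, hA⟩ := exists_T2 hE hq
  have hAH : A ≤ H := hA.le.trans hE.1
  have h17 := Cfsg.Agent.S1417.result hG H hH q hq A ⟨hAH, hA.elem, hA.card⟩
  obtain ⟨T, hT, -⟩ := exists_isSylowIn_ge (bot_le : (⊥ : Subgroup G) ≤ sigmaCore H)
    (IsPGroup.of_bot (p := t))
  have hHT := le_normalizer_of_sylow_nilpotent (sc_norm H) h17.1 hT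
  have hTH := sc_sylow hG hU hH ht hT
  have hT1 : T ≠ ⊥ := by
    rintro rfl
    apply hTH.2.2
    rw [Subgroup.relIndex_bot_left]
    exact ht.2.1
  have h14 := ((Cfsg.Agent.S1414.result hG H hH).2.2.2.2 t ht.1 ht.2.1 hti).2.2
  by_contra hlt
  have hne : q ≠ t := by
    rintro rfl
    exact hq.2.1 ht
  have hidx : ¬ q ∣ (Helper9.pPrimeCoreOf t H).relIndex H := by
    intro hd
    unfold Subgroup.relIndex at hd
    rw [Helper9.pPrimeCoreOf_subgroupOf] at hd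
    have := h14 q hq.1 hd
    omega
  have hAO : A ≤ Helper9.pPrimeCoreOf t H :=
    le_of_normal_of_not_dvd (Helper9.pPrimeCoreOf_le H) (Helper9.le_normalizer_pPrimeCoreOf H) hidx
      hAH hA.pg
  have hinf : T ⊓ Helper9.pPrimeCoreOf t H = ⊥ :=
    Helper9.inf_eq_bot_of_isPGroup_of_coprime hT.2.1 (Helper9.card_pPrimeCoreOf_coprime H)
  have hcen : T ≤ centralizer (Helper9.pPrimeCoreOf t H : Set G) :=
    Helper9.le_centralizer_of_normalize_of_inf_eq_bot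
      (hTH.1.trans (Helper9.le_normalizer_pPrimeCoreOf H)) ((Helper9.pPrimeCoreOf_le H).trans hHT) hinf
  have hcA : T ≤ centralizer (A : Set G) := hcen.trans (centralizer_le hAO)
  apply hT1
  rw [eq_bot_iff, ← h17.2.2.2.1]
  exact le_inf hT.1 hcA

/-- (e2) : `π(M) ∩ σ(H) ⊆ β(H)`. -/
theorem e2 (hG : IsMinSimpleOddOrder G) (h78 : H1378 G) {M H A : Subgroup G} (hM : IsCoatom M)
    (hH : IsCoatom H) {q : ℕ} [hq : Fact q.Prime] (hqM : q ∈ sigma M) (hqH : q ∈ tau2 H)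
    (hAM : A ≤ M) (hAH : A ≤ H) (hA : IsElementaryAbelian q A) (hAc : Nat.card A = q ^ 2)
    {s : ℕ} (hsM : s ∣ Nat.card M) (hsH : s ∈ sigma H) : s ∈ beta H := by
  have hU := ut hG
  by_contra hsb
  haveI : Fact s.Prime := ⟨hsH.1⟩
  have h1 : q < s := tau2_lt_sigma_beta hG hH hqH hsH hsb
  -- `s ∉ σ(M)`
  have hsσ : s ∉ sigma M := by
    intro h
    obtain ⟨g, rfl⟩ := h78 M H hM hH ⟨s, h, hsH⟩
    exact hqH.2.1 ((sigma_cj_iff g).mpr hqM)
  have hE := ec3 hG hM hH hqM hqH hAM hAH hA hAc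
  have h18 := Cfsg.Agent.S1418.result hG H hH (M ⊓ H) hE q hqH A ⟨le_inf hAM hAH, hA, hAc⟩
  -- a subgroup of order `s` of `M`
  obtain ⟨y, hy⟩ := exists_prime_orderOf_dvd_card' (G := M) s hsM
  have hYc : Nat.card (zpowers (y : G)) = s := by
    rw [Nat.card_zpowers, Subgroup.orderOf_coe, hy]
  have hYM : zpowers (y : G) ≤ M := zpowers_le.mpr y.2
  have hYs : IsPGroup s (zpowers (y : G)) := isPGroup_of_card_prime hsH.1 hYc
  have hsσc : ¬ s ∣ Nat.card (sigmaCore M) := fun h => hsσ (sc_primes M hsH.1 h)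
  obtain ⟨Q', hQ', hYQ'⟩ := exists_inv_sylow hYs hsσc (hYM.trans (sc_norm M)) q
  have hAσ : A ≤ sigmaCore M := le_sc hG hU hM hqM hAM (isPGroup_of_elemAb hA)
  obtain ⟨Q, hQ, hAQ⟩ := exists_isSylowIn_ge hAσ (isPGroup_of_elemAb hA)
  obtain ⟨m, hm, hmQ⟩ := isSylowIn_exists_cj_eq hQ hQ'
  -- `Y₁ = cj m Y` normalizes `Q`
  set Y₁ := cj m (zpowers (y : G)) with hY₁
  have hmM : m ∈ M := sc_le M hm
  have hY₁M : Y₁ ≤ M := by
    have h0 := cj_mono m hYM
    have h00 : cj m M = M := map_conj_eq_self_of_mem hmM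
    rwa [h00] at h0
  have hY₁Q : Y₁ ≤ normalizer (Q : Set G) := by
    rw [← hmQ, normalizer_map_conj]
    exact cj_mono m hYQ'
  have hY₁c : Nat.card Y₁ = s := by rw [hY₁, card_map_conj, hYc]
  have hY₁s : IsPGroup s Y₁ := isPGroup_of_card_prime hsH.1 hY₁c
  have hqi : ¬ IsIdealPrime q G :=
    (Cfsg.Agent.S1408.result hG H hH q hqH.2.1 hqH.2.2.1 hqH.2.2.2).1
  have h14 := ((Cfsg.Agent.S1414.result hG M hM).2.2.2.2 q hq.out hqM.2.1 (fun h => hqi h.2)).2.2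
  have hidx : ¬ s ∣ (Helper9.pPrimeCoreOf q M).relIndex M := by
    intro hd
    unfold Subgroup.relIndex at hd
    rw [Helper9.pPrimeCoreOf_subgroupOf] at hd
    have := h14 s hsH.1 hd
    omega
  have hYO : Y₁ ≤ Helper9.pPrimeCoreOf q M :=
    le_of_normal_of_not_dvd (Helper9.pPrimeCoreOf_le M) (Helper9.le_normalizer_pPrimeCoreOf M) hidx
      hY₁M hY₁s
  have hinf : Q ⊓ Helper9.pPrimeCoreOf q M = ⊥ :=
    Helper9.inf_eq_bot_of_isPGroup_of_coprime hQ.2.1 (Helper9.card_pPrimeCoreOf_coprime M)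
  have hQM : Q ≤ M := hQ.1.trans (sc_le M)
  -- `Y₁` centralizes `Q`
  have hcen : Y₁ ≤ centralizer (Q : Set G) := by
    intro v hv
    rw [mem_centralizer_iff]
    intro w hw
    have h2 : w * v * w⁻¹ * v⁻¹ ∈ Q ⊓ Helper9.pPrimeCoreOf q M := by
      refine mem_inf.mpr ⟨?_, ?_⟩
      · have : v * w⁻¹ * v⁻¹ ∈ Q := (mem_normalizer_iff.mp (hY₁Q hv) _).mp (inv_mem hw)
        have h3 := mul_mem hw this
        simpa [mul_assoc] using h3
      · have : w * v * w⁻¹ ∈ Helper9.pPrimeCoreOf q M :=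
          (mem_normalizer_iff.mp (Helper9.le_normalizer_pPrimeCoreOf M (hQM hw)) _).mp (hYO hv)
        exact mul_mem this (inv_mem (hYO hv))
    rw [hinf, mem_bot] at h2
    have h3 : w * v * w⁻¹ * v⁻¹ * (v * w) = v * w := by rw [h2, one_mul]
    simpa [mul_assoc] using h3
  have hY₁E : Y₁ ≤ M ⊓ H := by
    have : Y₁ ≤ centralizer (A : Set G) := hcen.trans (centralizer_le hAQ)
    exact (this.trans h18.2.1.1).trans (h18.2.1.2.1.le)
  exact compl_not_sigma hG hU hH hE hsH.1 (hY₁c ▸ Subgroup.card_dvd_of_le hY₁E) hsH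

end Cfsg.Agent.Lib.Helper20.BG14
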