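/-
Helper library (helper20): Bender–Glauberman 14.6: part (b), and `τ₂(M) = ∅` from `κ(M) = ∅`.
-/
import Cfsg.Agent.Lib.Helper20.BG146a
import Cfsg.Agent.Lib.Helper24.BG13F
import Cfsg.Agent.Lib.Helper48.FF1
import Cfsg.Agent.S1423
import Cfsg.Agent.S1425

set_option autoImplicit false
set_option linter.unusedSimpArgs false
set_option linter.unusedVariables false
set_option linter.style.haveILetI false
set_option linter.unusedSectionVars false

namespace Cfsg.Agent.Lib.Helper20.BG14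

open Subgroup Cfsg
open Cfsg.Agent.Lib
open Cfsg.Agent.Lib.Helper24 Cfsg.Agent.Lib.Helper34 Cfsg.Agent.Lib.Helper31.BG11
open Cfsg.Agent.Lib.Helper34.BG13 Cfsg.Agent.Lib.Helper34.BG16 Cfsg.Agent.Lib.Helper10.BG124

universe u

variable {G : Type u} [Group G] [Finite G]

theorem elemAb_cj {q : ℕ} {F : Subgroup G} (hF : IsElementaryAbelian q F) (m : G) :
    IsElementaryAbelian q (cj m F) := by
  refine ⟨?_, ?_⟩
  · constructor
    constructor
    rintro ⟨a, ha⟩ ⟨b, hb⟩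
    obtain ⟨a', ha', rfl⟩ := ha
    obtain ⟨b', hb', rfl⟩ := hb
    apply Subtype.ext
    have hab : a' * b' = b' * a' := by
      have := hF.1.is_comm.comm ⟨a', ha'⟩ ⟨b', hb'⟩
      exact congrArg Subtype.val this
    show (MulAut.conj m).toMonoidHom a' * (MulAut.conj m).toMonoidHom b'
      = (MulAut.conj m).toMonoidHom b' * (MulAut.conj m).toMonoidHom a'
    rw [← map_mul, ← map_mul, hab]
  · rintro a ⟨a', ha', rfl⟩
    rw [← map_pow, hF.2 a' ha', map_one]

/-- Two complements `M ∩ L`, `M^g ∩ L` of `L_σ`: then `n g ∈ M` for some `n ∈ L_σ`. -/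
theorem compl_conj (hG : IsMinSimpleOddOrder G) {M L A : Subgroup G} (hM : IsCoatom M)
    (hL : IsCoatom L) {q : ℕ} [hq : Fact q.Prime] (hqM : q ∈ sigma M) {g : G}
    (hE : IsComplIn (M ⊓ L) (sigmaCore L) L) (hE1 : IsComplIn (cj g M ⊓ L) (sigmaCore L) L)
    (hAle : A ≤ M ⊓ L) (hA : IsElementaryAbelian q A) (hAc : Nat.card A = q ^ 2) :
    ∃ n ∈ sigmaCore L, n * g ∈ M := by
  have hLsolv : Group.IsSolvable (sigmaCore L) := by
    apply MS_solvable hG
    intro h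
    exact hL.1 (top_le_iff.mp (h ▸ sc_le L))
  obtain ⟨n, hn, hle⟩ := Helper1.sz_dominance_rel (sigmaCore L) (cj g M ⊓ L) (M ⊓ L)
    (inf_le_right.trans (sc_norm L)) (sc_compl_coprime hG hL hE1) (Or.inr hLsolv)
    (by
      intro y hy
      obtain ⟨a, ha, b, hb, rfl⟩ := hE1.2.2.2 y hy.2
      exact mul_mem (mem_sup_left ha) (mem_sup_right hb))
    (sc_compl_coprime hG hL hE)
  have hle' : ∀ y ∈ M ⊓ L, n⁻¹ * y * n ∈ cj g M ⊓ L := by
    intro y hy
    have := hle hy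
    rw [Subgroup.mem_pointwise_smul_iff_inv_smul_mem] at this
    simpa [MulAut.smul_def, MulAut.conj_apply, mul_assoc] using this
  refine ⟨n, hn, ?_⟩
  have h1 : cj (g⁻¹ * n⁻¹) A ≤ M := by
    rintro _ ⟨a, ha, rfl⟩
    have h2 : n⁻¹ * a * n ∈ cj g M := (mem_inf.mp (hle' a (hAle ha))).1
    rw [mem_map_conj] at h2
    simpa [MulAut.conj_apply, mul_assoc] using h2
  have hA1 : A ≠ ⊥ := by
    rintro rfl
    rw [Subgroup.card_bot] at hAc
    have := hq.out.two_le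
    nlinarith
  obtain ⟨m, hm, c, hc, hmc⟩ := (Cfsg.Agent.S1404.result hG M hM q hqM A (isPGroup_of_elemAb hA) hA1
    (hAle.trans inf_le_left)).1 (g⁻¹ * n⁻¹) h1
  have hcM : c ∈ M := (Cfsg.Agent.S1416.result hG M hM q A ⟨hAle.trans inf_le_left, hA, hAc⟩).1 hc
  have h2 : g⁻¹ * n⁻¹ ∈ M := hmc ▸ mul_mem hm hcM
  have := inv_mem h2
  simpa using this

theorem s1436b (hG : IsMinSimpleOddOrder G) {M N N' : Subgroup G} (hM : IsCoatom M) {x y : G}
    (hx : x ∈ sigmaCore M) (hx1 : x ≠ 1) (hy : y ∈ sigmaCore M) (hy1 : y ≠ 1)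
    (hBx : Big M N x) (hBy : Big M N' y) {g : G} (hg : cj g N' = N) :
    ∃ m ∈ M, cj m N' = N := by
  obtain ⟨q, hq, hqd⟩ := Nat.exists_prime_and_dvd (n := orderOf x) (by
    intro h
    exact hx1 (orderOf_eq_one_iff.mp h))
  obtain ⟨t, ht, htd⟩ := Nat.exists_prime_and_dvd (n := orderOf y) (by
    intro h
    exact hy1 (orderOf_eq_one_iff.mp h))
  haveI : Fact q.Prime := ⟨hq⟩
  haveI : Fact t.Prime := ⟨ht⟩
  obtain ⟨A, hAle, hA, hAc⟩ := hBx.exA q hq hqd
  obtain ⟨A', hAle', hA', hAc'⟩ := hBy.exA t ht htd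
  have hE1 : IsComplIn (cj g M ⊓ N) (sigmaCore N) N := by
    apply ec3 hG (isCoatom_cj hM g) hBx.coatom ((sigma_cj_iff g).mpr (prime_mem_sigma hy ht htd))
      (q := t) (A := cj g A') _ (cj_mono g (hAle'.trans inf_le_left)) _ (elemAb_cj hA' g)
      (by rw [card_map_conj, hAc'])
    · rw [← hg]
      exact (tau2_cj_iff g).mpr (hBy.tau t ht htd)
    · rw [← hg]
      exact cj_mono g (hAle'.trans inf_le_right)
  obtain ⟨n, hn, hng⟩ := compl_conj hG hM hBx.coatom (prime_mem_sigma hx hq hqd) hBx.compl hE1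
    hAle hA hAc
  refine ⟨n * g, hng, ?_⟩
  rw [← cj_cj, hg]
  exact map_conj_eq_self_of_mem (sc_le N hn)

end Cfsg.Agent.Lib.Helper20.BG14
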