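/-
Helper library (helper20): Bender–Glauberman 14.6(a): `τ₂(M) = ∅` from `κ(M) = ∅` when some prime
of `σ(N)` divides `|M|`.
-/
import Cfsg.Agent.Lib.Helper20.BG146b

set_option autoImplicit false
set_option linter.unusedSimpArgs false
set_option linter.unusedVariables false
set_option linter.style.haveILetI false
set_option linter.unusedSectionVars false

namespace Cfsg.Agent.Lib.Helper20.BG14

open Subgroup Cfsg
open Cfsg.Agent.Lib
open Cfsg.Agent.Lib.Helper24 Cfsg.Agent.Lib.Helper34 Cfsg.Agent.Lib.Helper31.BG11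
open Cfsg.Agent.Lib.Helper34.BG13 Cfsg.Agent.Lib.Helper34.BG16 Cfsg.Agent.Lib.Helper10.BG124

universe u

variable {G : Type u} [Group G] [Finite G]

theorem h18' (hG : IsMinSimpleOddOrder G) : H1418 G :=
  fun L hL E hE q _ hq A hA => Cfsg.Agent.S1418.result hG L hL E hE q hq A hA

/-- a subgroup of `B` (of order `t ^ 2`) which is neither `⊥` nor `B` has order `t`. -/
theorem card_eq_of_lt {t : ℕ} (ht : t.Prime) {B S : Subgroup G} (hB : Nat.card B = t ^ 2)
    (hSB : S ≤ B) (hS1 : S ≠ ⊥) (hS2 : S ≠ B) : Nat.card S = t := by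
  have hd : Nat.card S ∣ t ^ 2 := hB ▸ Subgroup.card_dvd_of_le hSB
  obtain ⟨k, hk, hkc⟩ := (Nat.dvd_prime_pow ht).mp hd
  interval_cases k
  · exfalso
    apply hS1
    rw [pow_zero] at hkc
    exact Subgroup.card_eq_one.mp hkc
  · rw [hkc, pow_one]
  · exfalso
    apply hS2
    exact Subgroup.eq_of_le_of_card_ge hSB (by rw [hB, hkc])

/-- The data: `P` of order `p`, of `p`-rank one in `M`, acting on `B ∈ E_t²(E)`, fixed point
freely on `M_σ`; `C(P) ≤ H`, where `H` has `t`-rank one and contains a conjugate of every subgroup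
of order `t` of `C_B(M_σ)`. -/
theorem tau2_core (hG : IsMinSimpleOddOrder G) {M E B P H : Subgroup G} (hM : IsCoatom M)
    (hE : IsComplIn E (sigmaCore M) M) {p t : ℕ} [hp : Fact p.Prime] [ht : Fact t.Prime]
    (hpt : p ≠ t) (hB : T2 M E t B) (hPE : P ≤ E) (hPc : Nat.card P = p) (hp1 : PRankLE p 1 M)
    (hσ1 : sigmaCore M ≠ ⊥)
    (hfix : sigmaCore M ⊓ centralizer (P : Set G) = ⊥) (hCP : centralizer (P : Set G) ≤ H)
    (hPB : ¬ P ≤ centralizer (B : Set G)) (ht1 : PRankLE t 1 H)
    (hconj : ∀ D : Subgroup G, D ≤ B → D ≤ centralizer (sigmaCore M : Set G) → ∃ g, cj g D ≤ H) :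
    False := by
  have hU := ut hG
  have hp2 : p ≠ 2 := MS_prime_ne_two hG (H := P) (by rw [hPc])
  have ht2 : t ≠ 2 := MS_prime_ne_two hG (H := B) (by rw [hB.card]; exact Dvd.intro_left _ (by ring))
  have hBM : B ≤ M := hB.le.trans hE.1
  have h18 := Cfsg.Agent.S1418.result hG M hM E hE t hB.tau B ⟨hB.le, hB.elem, hB.card⟩
  have h17 := Cfsg.Agent.S1417.result hG M hM t hB.tau B ⟨hBM, hB.elem, hB.card⟩
  have hPnB : P ≤ normalizer (B : Set G) := hPE.trans h18.1.1
  have hPp : IsPGroup p P := isPGroup_of_card_prime hp.out hPc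
  have hpB : ¬ p ∣ Nat.card B := by
    rw [hB.card]
    intro h
    exact hpt ((Nat.prime_dvd_prime_iff_eq hp.out ht.out).mp (hp.out.dvd_of_dvd_pow h))
  set S := ⁅B, P⁆ with hS
  have hS1 : S ≠ ⊥ := by
    intro h
    apply hPB
    rw [hS, Subgroup.commutator_eq_bot_iff_le_centralizer] at h
    exact le_centralizer_iff.mp h
  have hSB : S ≤ B := commutator_le_left_of_le_normalizer hPnB
  have hPS : P ≤ normalizer (S : Set G) :=
    (le_inf hPnB le_normalizer).trans (normalizer_inf_le_normalizer_commutator B P)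
  have hSfix : S ⊓ centralizer (P : Set G) = ⊥ := by
    apply Helper48.commutator_inf_centralizer_eq_bot hB.elem.1 hPnB
    intro v hv hv1
    rw [hPc] at hv1
    exact Helper23.eq_one_of_pow_coprime ((Nat.coprime_primes hp.out ht.out).mpr hpt) hv1
      (hB.elem.2 v hv)
  have hP1 : P ≠ ⊥ := card_prime_ne_bot hp.out hPc
  have hVS : sigmaCore M ≤ centralizer (S : Set G) := by
    apply Helper24.BG13F.frob_centralizes hS1 hP1 hPS
    · intro e he he1 u hu heu
      have : u ∈ S ⊓ centralizer (P : Set G) := by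
        refine ⟨hu, ?_⟩
        rw [centralizer_eq_of_card_prime hp.out hPc he he1]
        exact mem_centralizer_singleton.mpr heu
      rw [hSfix, mem_bot] at this
      exact this
    · exact (hSB.trans hBM).trans (sc_norm M)
    · exact (hPE.trans hE.1).trans (sc_norm M)
    · apply MS_solvable hG
      intro h
      exact hM.1 (top_le_iff.mp (h ▸ sc_le M))
    · have h1 := sc_compl_coprime hG hM hE
      exact (Nat.Coprime.coprime_dvd_left
        (Subgroup.card_dvd_of_le (sup_le (hSB.trans hB.le) hPE)) h1).symm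
    · rw [hfix]
      exact bot_le
  have hS2 : S ≠ B := by
    intro h
    apply hσ1
    rw [eq_bot_iff, ← h17.2.2.2.1]
    exact le_inf le_rfl (h ▸ hVS)
  have hSc : Nat.card S = t := card_eq_of_lt ht.out hB.card hSB hS1 hS2
  -- `S = C_B(M_σ)` is normal in `M`
  set D := B ⊓ centralizer (sigmaCore M : Set G) with hD
  have hSD : S ≤ D := le_inf hSB (le_centralizer_iff.mp hVS)
  have hD2 : D ≠ B := by
    intro h
    apply hσ1
    rw [eq_bot_iff, ← h17.2.2.2.1]
    refine le_inf le_rfl (le_centralizer_iff.mp ?_)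
    rw [← h]
    exact inf_le_right
  have hD1 : D ≠ ⊥ := fun h => hS1 (eq_bot_iff.mpr (h ▸ hSD))
  have hDc : Nat.card D = t := card_eq_of_lt ht.out hB.card inf_le_left hD1 hD2
  have hSeq : S = D := Subgroup.eq_of_le_of_card_ge hSD (by rw [hSc, hDc])
  have hMD : M ≤ normalizer (D : Set G) := by
    intro m hm
    obtain ⟨a, ha, b, hb, rfl⟩ := hE.2.2.2 m hm
    refine mul_mem ?_ ?_
    · exact Helper22.le_normalizer_inf_centralizer h18.1.1 (hE.1.trans (sc_norm M)) ha
    · apply centralizer_le_normalizer' D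
      exact (le_centralizer_iff.mp (inf_le_right : D ≤ centralizer (sigmaCore M : Set G))) hb
  have hDt : IsPGroup t D := isPGroup_of_card_prime ht.out hDc
  have hND : normalizer (D : Set G) = M := by
    by_contra hne
    exact MS_normalizer_ne_top hG hD1 (MS_isPGroup_ne_top hG hDt)
      (hM.2 _ (lt_of_le_of_ne hMD (Ne.symm hne)))
  -- `B₀ = C_B(P) ≠ 1`
  have hsup := Helper22.commutator_sup_centralizer P B hPp hpB hPnB
  have hB0 : B ⊓ centralizer (P : Set G) ≠ ⊥ := by
    intro h
    rw [h, sup_bot_eq] at hsup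
    exact hS2 hsup
  obtain ⟨b, hb⟩ := Subgroup.ne_bot_iff_exists_ne_one.mp hB0
  have hb1 : (b : G) ≠ 1 := fun h => hb (Subtype.ext h)
  have hbB : (b : G) ∈ B := b.2.1
  have hbP : (b : G) ∈ centralizer (P : Set G) := b.2.2
  have hbo : orderOf (b : G) = t := orderOf_eq_prime (hB.elem.2 _ hbB) hb1
  have hX0c : Nat.card (zpowers (b : G)) = t := by rw [Nat.card_zpowers, hbo]
  have hX0H : zpowers (b : G) ≤ H := zpowers_le.mpr (hCP hbP)
  obtain ⟨g, hg⟩ := hconj D inf_le_left inf_le_right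
  obtain ⟨h, hh, hhg⟩ := conj_of_rank_one ht2 ht1 hX0H hg hX0c (by rw [card_map_conj, hDc])
  rw [cj_cj] at hhg
  set g' := h * g with hg'
  -- `N(X₀) = cj g' M`
  have hNX : normalizer ((zpowers (b : G) : Subgroup G) : Set G) = cj g' M := by
    rw [← hhg, normalizer_map_conj, hND]
  have hPX : P ≤ centralizer ((zpowers (b : G) : Subgroup G) : Set G) := by
    rw [le_centralizer_iff]
    exact zpowers_le.mpr hbP
  have hPM2 : P ≤ cj g' M := by
    rw [← hNX]
    exact hPX.trans (centralizer_le_normalizer' _)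
  obtain ⟨m, hm, hmP⟩ := conj_of_rank_one hp2 (pRankLE_cj g' hp1) hPM2
    (cj_mono g' (hPE.trans hE.1)) hPc (by rw [card_map_conj, hPc])
  rw [cj_cj] at hmP
  have hmX : cj (m * g') D = zpowers (b : G) := by
    rw [← cj_cj, hhg]
    apply map_conj_eq_self_of_mem_normalizer
    rw [hNX]
    exact hm
  have h5 : cj (m * g') P ≤ centralizer ((cj (m * g') D : Subgroup G) : Set G) := by
    rw [hmP, hmX]
    exact hPX
  rw [centralizer_map_conj] at h5
  have h6 : P ≤ centralizer (D : Set G) := by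
    have := cj_mono (m * g')⁻¹ h5
    rwa [cj_inv_cj, cj_inv_cj] at this
  apply hS1
  rw [eq_bot_iff, ← hSfix]
  refine le_inf le_rfl ?_
  rw [hSeq]
  exact le_centralizer_iff.mp h6

end Cfsg.Agent.Lib.Helper20.BG14
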