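/-
Helper library (helper20): Bender–Glauberman 14.6(a): `τ₂(M) = ∅` from `κ(M) = ∅`, assembly.
-/
import Cfsg.Agent.Lib.Helper20.BG146c

set_option autoImplicit false
set_option linter.unusedSimpArgs false
set_option linter.unusedVariables false
set_option linter.style.haveILetI false
set_option linter.unusedSectionVars false

namespace Cfsg.Agent.Lib.Helper20.BG14

open Subgroup Cfsg
open Cfsg.Agent.Lib
open Cfsg.Agent.Lib.Helper24 Cfsg.Agent.Lib.Helper34 Cfsg.Agent.Lib.Helper31.BG11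
open Cfsg.Agent.Lib.Helper34.BG13 Cfsg.Agent.Lib.Helper34.BG16 Cfsg.Agent.Lib.Helper10.BG124

universe u

variable {G : Type u} [Group G] [Finite G]

theorem tau2_empty (hG : IsMinSimpleOddOrder G) (h78 : H1378 G) {M N : Subgroup G}
    (hM : IsCoatom M) {x : G} (hx : x ∈ sigmaCore M) (hx1 : x ≠ 1) (hB : Big M N x) {p : ℕ}
    (hpN : p ∈ sigma N) (hpM : p ∣ Nat.card M) (hκ : kappa M = ∅) : tau2 M = ∅ := by
  have hU := ut hG
  rw [Set.eq_empty_iff_forall_notMem]
  intro t ht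
  have hN := hB.coatom
  haveI : Fact p.Prime := ⟨hpN.1⟩
  haveI : Fact t.Prime := ⟨ht.1⟩
  obtain ⟨q, hq, hqd⟩ := Nat.exists_prime_and_dvd (n := orderOf x) (by
    intro h
    exact hx1 (orderOf_eq_one_iff.mp h))
  haveI : Fact q.Prime := ⟨hq⟩
  obtain ⟨A, hAle, hA, hAc⟩ := hB.exA q hq hqd
  have hqM := prime_mem_sigma hx hq hqd
  have hqN := hB.tau q hq hqd
  have hAM := hAle.trans inf_le_left
  have hAN := hAle.trans inf_le_right
  have hpβ : p ∈ beta N := e2 hG h78 hM hN hqM hqN hAM hAN hA hAc hpM hpN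
  have hpσM : p ∉ sigma M := by
    intro h
    obtain ⟨g, hg⟩ := h78 M N hM hN ⟨p, h, hpN⟩
    exact hB.nconj g hg
  have hp1 : PRankLE p 1 M := by
    rcases tau2_or_rank_one hG hU hM hpN.1 hpσM with h | h
    · exact ((Cfsg.Agent.S1408.result hG M hM p h.2.1 h.2.2.1 h.2.2.2).1 hpβ.2).elim
    · exact h
  obtain ⟨E, hE⟩ := exists_compl hG hU hM
  obtain ⟨B, hBT⟩ := exists_T2 hE ht
  have hBM : B ≤ M := hBT.le.trans hE.1
  have htM : t ∣ Nat.card M :=
    (Dvd.intro_left t (by rw [hBT.card]; ring)).trans (Subgroup.card_dvd_of_le hBM)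
  have hti := (Cfsg.Agent.S1408.result hG M hM t ht.2.1 ht.2.2.1 ht.2.2.2).1
  have htσN : t ∉ sigma N := fun h =>
    hti (e2 hG h78 hM hN hqM hqN hAM hAN hA hAc htM h).2
  have hpt : p ≠ t := by
    rintro rfl
    exact htσN hpN
  -- `P ≤ E` of order `p`
  have hpE : p ∣ Nat.card E := by
    have h1 := Helper23.complIn_card_mul hE
    rw [← h1] at hpM
    rcases (Nat.Prime.dvd_mul hpN.1).mp hpM with h | h
    · exact h
    · exact (hpσM (sc_primes M hpN.1 h)).elim
  obtain ⟨e, he⟩ := exists_prime_orderOf_dvd_card' (G := E) p hpE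
  have heo : orderOf (e : G) = p := by rw [Subgroup.orderOf_coe, he]
  have hPc : Nat.card (zpowers (e : G)) = p := by rw [Nat.card_zpowers, heo]
  have hPE : zpowers (e : G) ≤ E := zpowers_le.mpr e.2
  have hPM : zpowers (e : G) ≤ M := hPE.trans hE.1
  have hP1 : zpowers (e : G) ≠ ⊥ := card_prime_ne_bot hpN.1 hPc
  have hfix : sigmaCore M ⊓ centralizer ((zpowers (e : G) : Subgroup G) : Set G) = ⊥ := by
    by_contra hne
    obtain ⟨y, hy⟩ := Subgroup.ne_bot_iff_exists_ne_one.mp hne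
    have hy1 : (y : G) ≠ 1 := fun h => hy (Subtype.ext h)
    have hyc := mem_centralizer_iff.mp y.2.2 (e : G) (mem_zpowers _)
    have := mem_kappa_of hG hM hpN.1 hpσM hp1 (hE.1 e.2) heo y.2.1 hy1 hyc
    rw [hκ] at this
    exact this
  -- the maximal subgroup `H`
  obtain ⟨g, hg⟩ := Cfsg.Agent.S1425.result hG N hN (zpowers (e : G)) hP1 (by
    intro r hr hd
    rw [hPc] at hd
    rw [(Nat.prime_dvd_prime_iff_eq hr hpN.1).mp hd]
    exact hpN)
  have hPH : zpowers (e : G) ≤ sigmaCore (cj g⁻¹ N) := by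
    rw [sc_cj]
    exact le_cj_iff.mpr (by rwa [inv_inv])
  have hH := isCoatom_cj hN g⁻¹
  obtain ⟨Sy⟩ : Nonempty (Sylow p ↥(sigmaCore (cj g⁻¹ N))) := inferInstance
  have hCP := (Cfsg.Agent.S1423.result hG (cj g⁻¹ N) hH p ((sigma_cj_iff g⁻¹).mpr hpN)
    (zpowers (e : G)) (hPH.trans (sc_le _)) hPc Sy (Or.inl (beta_cj g⁻¹ hpβ))).1.1
  have htσH : t ∉ sigma (cj g⁻¹ N) := fun h => htσN ((sigma_cj_iff g⁻¹).mp h)
  have hHM : M ≠ cj g⁻¹ N := by
    intro h
    apply hB.nconj g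
    rw [h, cj_cj_inv]
  by_cases hPB : zpowers (e : G) ≤ centralizer (B : Set G)
  · -- `B ≤ C(P) ≤ H`
    have hBH : B ≤ cj g⁻¹ N := (le_centralizer_iff.mp hPB).trans hCP
    have hr1 : ¬ PRankLE t 1 (cj g⁻¹ N) := by
      apply not_pRankLE_of_le hBH hBT.elem.1 hBT.elem.2
      rw [hBT.card]
      exact Nat.pow_lt_pow_right ht.1.one_lt (by norm_num)
    have htH : t ∈ tau2 (cj g⁻¹ N) := by
      rcases tau2_or_rank_one hG hU hH ht.1 htσH with h | h
      · exact h
      · exact (hr1 h).elim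
    have h17 := (Cfsg.Agent.S1417.result hG (cj g⁻¹ N) hH t htH B
      ⟨hBH, hBT.elem, hBT.card⟩).2.2.2.2.1 M hM hHM hBM
    apply hP1
    rw [eq_bot_iff, ← h17]
    exact le_inf hPH hPM
  · -- the main case
    have htN2 : t ∉ tau2 N := by
      intro h
      obtain ⟨EM, hEM⟩ := exists_compl hG hU hM
      have h20 := (Cfsg.Agent.S1420.result hG M hM EM hEM).2.2.1 q A hqM (isPGroup_of_elemAb hA) hAM
        (not_isCyclic_of_elemAb hA hAc)
      exact ht.2.1 (tau2_subset_sigma hG hU (h18' hG) hN hB.compl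
        (⟨hqN, hAle, hA, hAc⟩ : T2 N (M ⊓ N) q A) hM h20 h)
    have ht1N : PRankLE t 1 N := by
      rcases tau2_or_rank_one hG hU hN ht.1 htσN with h | h
      · exact (htN2 h).elim
      · exact h
    refine tau2_core hG hM hE hpt hBT hPE hPc hp1 ?_ hfix hCP hPB (pRankLE_cj g⁻¹ ht1N) ?_
    · intro h
      rw [h, mem_bot] at hx
      exact hx1 hx
    · intro D hDB hDc
      refine ⟨g⁻¹, cj_mono g⁻¹ ?_⟩
      intro d hd
      apply hB.cent
      rw [mem_centralizer_singleton]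
      exact mem_centralizer_iff.mp (hDc hd) x hx

end Cfsg.Agent.Lib.Helper20.BG14
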