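/-
Helper library (helper20): Bender–Glauberman 14.6(a): `κ(M) = ∅` (from the rows of BG 14.7, taken
as hypotheses `BGRows.HNNNN`), and S1436.
-/
import Cfsg.Agent.Lib.Helper20.BG146d
import Cfsg.Agent.Lib.Helper34.BGRows

set_option autoImplicit false
set_option linter.unusedSimpArgs false
set_option linter.unusedVariables false
set_option linter.style.haveILetI false
set_option linter.unusedSectionVars false

namespace Cfsg.Agent.Lib.Helper20.BG14

open Subgroup Cfsg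
open Cfsg.Agent.Lib
open Cfsg.Agent.Lib.Helper24 Cfsg.Agent.Lib.Helper34 Cfsg.Agent.Lib.Helper31.BG11
open Cfsg.Agent.Lib.Helper34.BG13 Cfsg.Agent.Lib.Helper34.BG16 Cfsg.Agent.Lib.Helper10.BG124

universe u

variable {G : Type u} [Group G] [Finite G]

theorem le_normalizer_map_subtype {L : Subgroup G} (N : Subgroup L) (hN : N.Normal) :
    L ≤ normalizer ((N.map L.subtype : Subgroup G) : Set G) := by
  have hNL : N.map L.subtype ≤ L := by
    rintro _ ⟨y, -, rfl⟩
    exact y.2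
  have hsub : (N.map L.subtype).subgroupOf L = N :=
    Subgroup.comap_map_eq_self_of_injective L.subtype_injective N
  rw [← normal_subgroupOf_iff_le_normalizer hNL, hsub]
  exact hN

theorem le_normalizer_fittingOf (L : Subgroup G) : L ≤ normalizer (fittingOf L : Set G) :=
  le_normalizer_map_subtype _ (Subgroup.sSup_normal _ (fun _ h => h.1))

theorem fittingOf_le (L : Subgroup G) : fittingOf L ≤ L := by
  rintro _ ⟨y, -, rfl⟩
  exact y.2

/-- If a normal subgroup `F ≠ 1` of `M` is a TI-subset then `C_G(x) ≤ M` for `x ∈ F#`. -/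
theorem cent_le_of_TI (hG : IsMinSimpleOddOrder G) {M F : Subgroup G} (hM : IsCoatom M)
    (hFM : F ≤ M) (hn : M ≤ normalizer (F : Set G)) (hTI : IsTISubset (F : Set G)) {x : G}
    (hx : x ∈ F) (hx1 : x ≠ 1) : centralizer ({x} : Set G) ≤ M := by
  have hF1 : F ≠ ⊥ := by
    rintro rfl
    exact hx1 (mem_bot.mp hx)
  have hFt : F ≠ ⊤ := by
    rintro rfl
    exact hM.1 (top_le_iff.mp hFM)
  have hN : normalizer (F : Set G) = M := by
    by_contra hne
    exact MS_normalizer_ne_top hG hF1 hFt (hM.2 _ (lt_of_le_of_ne hn (Ne.symm hne)))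
  intro c hc
  by_contra hcM
  apply hx1
  apply hTI c (by rw [hN]; exact hcM) x hx
  have : c * x * c⁻¹ = x := by
    rw [← mem_centralizer_singleton.mp hc]; group
  rw [this]
  exact hx

theorem kappa_empty (hG : IsMinSimpleOddOrder G) (h78 : H1378 G)
    (h51 : BGRows.H1351 G) (h52 : BGRows.H1352 G) (h66 : BGRows.H1366 G) (h68 : BGRows.H1368 G)
    (h72 : BGRows.H1372 G) (h34 : BGRows.H1434 G) {M N : Subgroup G}
    (hM : IsCoatom M) {x : G} (hx : x ∈ sigmaCore M) (hx1 : x ≠ 1)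
    (hxM : ¬ centralizer ({x} : Set G) ≤ M) (hB : Big M N x) {p : ℕ}
    (hpN : p ∈ sigma N) (hpM : p ∣ Nat.card M) : kappa M = ∅ := by
  have hU := ut hG
  rw [Set.eq_empty_iff_forall_notMem]
  intro r hr
  have hN := hB.coatom
  obtain ⟨⟨K, hK⟩, hcyc⟩ := h51 M hM
  have hKc := hcyc K hK
  have hK1 : K ≠ ⊥ := by
    rintro rfl
    apply hK.2.2 r hr.1 hr
    rw [Subgroup.relIndex_bot_left]
    exact hr.2.1
  obtain ⟨U, hKU⟩ := (h52 M hM K hKc hK).1
  by_cases hU1 : U = ⊥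
  · subst hU1
    have hpσM : p ∉ sigma M := by
      intro h
      obtain ⟨g, hg⟩ := h78 M N hM hN ⟨p, h, hpN⟩
      exact hB.nconj g hg
    -- `p ∣ |K|`
    have hpK : p ∣ Nat.card K := by
      have h1 := Helper23.complIn_card_mul hKU.compl
      rw [Subgroup.card_bot, one_mul] at h1
      have h2 := Helper1.card_sup_dvd (hK.1.trans (sc_norm M))
      rw [h1] at h2
      rcases (Nat.Prime.dvd_mul hpN.1).mp (hpM.trans h2) with h | h
      · exact h
      · exact (hpσM (sc_primes M hpN.1 h)).elim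
    obtain ⟨Ms, ⟨hMs, hKst, hKstH⟩, -⟩ := h66 M hM K ⊥ hKU hK1
    have hKle : K ≤ sigmaCore Ms := by
      rw [hKst]
      exact inf_le_left
    have hpMs : p ∈ sigma Ms := sc_primes Ms hpN.1 (hpK.trans (Subgroup.card_dvd_of_le hKle))
    obtain ⟨g, hg⟩ := h78 N Ms hN hMs ⟨p, hpN, hpMs⟩
    obtain ⟨q, hq, hqd⟩ := Nat.exists_prime_and_dvd (n := orderOf x) (by
      intro h
      exact hx1 (orderOf_eq_one_iff.mp h))
    haveI : Fact q.Prime := ⟨hq⟩
    have hqM := prime_mem_sigma hx hq hqd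
    have hqMs : q ∈ tau2 Ms := by
      rw [hg]
      exact (tau2_cj_iff g).mpr (hB.tau q hq hqd)
    have hHall := (h34 M hM K ⊥ hKU hK1 Ms hMs hKst hKstH).2.1
    haveI hZc := (h68 M hM K ⊥ hKU hK1 Ms hMs hKst hKstH).2
    obtain ⟨Q, hQ, -⟩ := exists_isSylowIn_ge
      (bot_le : (⊥ : Subgroup G) ≤ sigmaCore M ⊓ centralizer (K : Set G)) (IsPGroup.of_bot (p := q))
    have hQMs := isSylowIn_of_normal_hall hHall.1 (hHall.2.2 q hq hqM) hQ
    have hQle : Q ≤ K ⊔ (sigmaCore M ⊓ centralizer (K : Set G)) := hQ.1.trans le_sup_right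
    haveI : IsCyclic Q := by
      have : IsCyclic (Q.subgroupOf (K ⊔ (sigmaCore M ⊓ centralizer (K : Set G)))) :=
        Subgroup.isCyclic _
      exact isCyclic_of_surjective (Subgroup.subgroupOfEquivOfLe hQle).toMonoidHom
        (Subgroup.subgroupOfEquivOfLe hQle).surjective
    exact hqMs.2.2.2 (pRankLE_of_isSylowIn hQMs (pRankLE_one_of_isCyclic hq.pos))
  · obtain ⟨-, hTI, hle⟩ := h72 M hM K U hKU hK1 hU1
    exact hxM (cent_le_of_TI hG hM (fittingOf_le M) (le_normalizer_fittingOf M) hTI (hle hx) hx1)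

theorem s1436 (hG : IsMinSimpleOddOrder G) (h78 : H1378 G)
    (h51 : BGRows.H1351 G) (h52 : BGRows.H1352 G) (h66 : BGRows.H1366 G) (h68 : BGRows.H1368 G)
    (h72 : BGRows.H1372 G) (h34 : BGRows.H1434 G)
    (M : Subgroup G) (hM : IsCoatom M) (x : G) (hx : x ∈ sigmaCore M) (hx1 : x ≠ 1)
    (hxM : ¬ centralizer ({x} : Set G) ≤ M)
    (N : Subgroup G) (hN : IsCoatom N) (hxN : centralizer ({x} : Set G) ≤ N) :
    ((∃ p ∈ sigma N, p ∣ Nat.card M) → kappa M = ∅ ∧ tau2 M = ∅) ∧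
      ∀ (y : G) (N' : Subgroup G) (g : G), y ∈ sigmaCore M → y ≠ 1 →
        ¬ centralizer ({y} : Set G) ≤ M → IsCoatom N' → centralizer ({y} : Set G) ≤ N' →
        N'.map (MulAut.conj g).toMonoidHom = N → ∃ m ∈ M, N'.map (MulAut.conj m).toMonoidHom = N := by
  obtain ⟨L, hB⟩ := exists_big hG h78 hM hx hx1 hxM
  have hNL : N = L := hB.uniq N hN hxN
  subst hNL
  refine ⟨?_, ?_⟩
  · rintro ⟨p, hpN, hpM⟩
    have hκ := kappa_empty hG h78 h51 h52 h66 h68 h72 h34 hM hx hx1 hxM hB hpN hpM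
    exact ⟨hκ, tau2_empty hG h78 hM hx hx1 hB hpN hpM hκ⟩
  · intro y N' g hy hy1 hyM hN' hyN' hg
    obtain ⟨L', hB'⟩ := exists_big hG h78 hM hy hy1 hyM
    have hNL' : N' = L' := hB'.uniq N' hN' hyN'
    subst hNL'
    exact s1436b hG hM hx hx1 hy hy1 hB hB' hg

end Cfsg.Agent.Lib.Helper20.BG14
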