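import Mathlib
import Cfsg.Agent.Lib.Helper13.Herm
import Cfsg.Agent.Lib.Helper13.FieldInvol
import Cfsg.Agent.Lib.Helper5.HermCount
import Cfsg.Prelude.Def_LieRecognition

/-!
# The Sylow 2-subgroup of `PSU₃(q)`, `q` even: the abstract group

`UU F q` is the set of pairs `(a, c)` with `c + c ^ q = a ^ (q + 1)` and the product
`(a, c) (a', c') = (a + a', c + c' + a ^ q a')`.
-/

set_option autoImplicit false
set_option linter.unusedSectionVars false

namespace Cfsg.Agent.Lib.Helper20.U3Syl

open Cfsg.Agent.Lib.Helper13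
open scoped commutatorElement

@[ext] structure UU (F : Type*) [Field F] (q : ℕ) where
  a : F
  c : F
  h : c + c ^ q = a ^ (q + 1)

variable {F : Type*} [Field F] [Fintype F] {q : ℕ} [hF : Fact (Fintype.card F = q ^ 2)]
  [h2 : Fact ((2 : F) = 0)]

theorem two0 : (2 : F) = 0 := h2.out

theorem addq (x y : F) : (x + y) ^ q = x ^ q + y ^ q := add_pow_q hF.out x y
theorem qq (x : F) : (x ^ q) ^ q = x := pow_q_pow_q hF.out x

theorem add_self0 (x : F) : x + x = 0 := by linear_combination x * (two0 (F := F))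

theorem eq_of_add_eq_zero {x y : F} (h : x + y = 0) : x = y := by
  linear_combination h - y * (two0 (F := F))

instance : Mul (UU F q) := ⟨fun x y => ⟨x.a + y.a, x.c + y.c + x.a ^ q * y.a, by
  rw [addq, addq, mul_pow, qq, pow_succ, addq]
  have hx := x.h
  have hy := y.h
  rw [pow_succ] at hx hy
  linear_combination hx + hy⟩⟩

instance : One (UU F q) := ⟨⟨0, 0, by
  have hq : q ≠ 0 := by have := two_le_of_card_sq hF.out; omega
  simp [hq]⟩⟩

instance : Inv (UU F q) := ⟨fun x => ⟨x.a, x.c ^ q, by
  rw [qq, ← x.h]; ring⟩⟩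

@[simp] theorem mul_a (x y : UU F q) : (x * y).a = x.a + y.a := rfl
@[simp] theorem mul_c (x y : UU F q) : (x * y).c = x.c + y.c + x.a ^ q * y.a := rfl
@[simp] theorem one_a : (1 : UU F q).a = 0 := rfl
@[simp] theorem one_c : (1 : UU F q).c = 0 := rfl
@[simp] theorem inv_a (x : UU F q) : (x⁻¹).a = x.a := rfl
@[simp] theorem inv_c (x : UU F q) : (x⁻¹).c = x.c ^ q := rfl

theorem q0 (F : Type*) [Field F] [Fintype F] {q : ℕ} [hF : Fact (Fintype.card F = q ^ 2)] : q ≠ 0 := by
  have := two_le_of_card_sq hF.out; omega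

instance : Group (UU F q) := Group.ofLeftAxioms
  (by
    intro x y z
    apply UU.ext
    · simp only [mul_a]; ring
    · simp only [mul_a, mul_c, addq]; ring)
  (by
    intro x
    apply UU.ext
    · simp
    · simp [q0 F (q := q)])
  (by
    intro x
    apply UU.ext
    · simp only [mul_a, inv_a, one_a]; exact add_self0 _
    · simp only [mul_c, inv_a, inv_c, one_c]
      have hx := x.h
      rw [pow_succ] at hx
      linear_combination hx + (x.a ^ q * x.a) * (two0 (F := F)))


/-! ### the fixed field -/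

theorem normq (a : F) : (a ^ (q + 1)) ^ q = a ^ (q + 1) := by
  rw [pow_succ, mul_pow, qq]; ring

theorem exists_trace (t : F) (ht : t ^ q = t) : ∃ e : F, e + e ^ q = t :=
  trace_surj (frobQ hF.out) (frobQ_ne_id hF.out) (fun a => qq a) t ht

theorem exists_c (a : F) : ∃ c : F, c + c ^ q = a ^ (q + 1) := exists_trace _ (normq a)

theorem exists_not_fixed : ∃ t : F, t ^ q ≠ t := by
  by_contra hcon
  push Not at hcon
  exact frobQ_ne_id hF.out (RingHom.ext hcon)

theorem card_fix : Nat.card {c : F // c ^ q = c} = q := by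
  classical
  have h1 := Cfsg.Agent.Lib.Helper5.card_fixed_ne_zero (F := F) hF.out
  have h3 : (Finset.univ.filter (fun c : F => c ^ q = c)) =
      insert 0 ((Finset.univ.erase (0 : F)).filter (fun c => c ^ q = c)) := by
    ext c
    simp only [Finset.mem_filter, Finset.mem_univ, true_and, Finset.mem_insert, Finset.mem_erase,
      and_true]
    constructor
    · intro h
      by_cases hc : c = 0
      · exact Or.inl hc
      · exact Or.inr ⟨hc, h⟩
    · rintro (rfl | ⟨-, h⟩)
      · simp [q0 F (q := q)]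
      · exact h
  rw [Nat.card_eq_fintype_card, Fintype.card_subtype, h3, Finset.card_insert_of_notMem (by simp), h1]
  have := two_le_of_card_sq hF.out
  omega

/-- a chosen solution of `c + c ^ q = a ^ (q + 1)` -/
noncomputable def c0 (q : ℕ) [Fact (Fintype.card F = q ^ 2)] (a : F) : F :=
  (exists_c (q := q) a).choose

theorem c0_spec (a : F) : c0 q a + c0 q a ^ q = a ^ (q + 1) := (exists_c (q := q) a).choose_spec

/-- an element with prescribed first coordinate -/
noncomputable def lift (q : ℕ) [Fact (Fintype.card F = q ^ 2)] (a : F) : UU F q :=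
  ⟨a, c0 q a, c0_spec a⟩

@[simp] theorem lift_a (a : F) : (lift q a).a = a := rfl

/-- central elements -/
def zz (c : F) (hc : c ^ q = c) : UU F q := ⟨0, c, by
  rw [hc, zero_pow (by omega)]; exact add_self0 c⟩

@[simp] theorem zz_a (c : F) (hc : c ^ q = c) : (zz c hc).a = 0 := rfl
@[simp] theorem zz_c (c : F) (hc : c ^ q = c) : (zz c hc).c = c := rfl

theorem c_fixed {x : UU F q} (hx : x.a = 0) : x.c ^ q = x.c := by
  have h := x.h
  rw [hx, zero_pow (by omega)] at h
  exact (eq_of_add_eq_zero h).symm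

theorem eq_zz {x : UU F q} (hx : x.a = 0) : x = zz x.c (c_fixed hx) := UU.ext hx rfl

noncomputable def equivProd : UU F q ≃ F × {c : F // c ^ q = c} where
  toFun x := (x.a, ⟨x.c + c0 q x.a, by
    rw [addq]
    have h1 := x.h
    have h2' := c0_spec (q := q) x.a
    linear_combination h1 + h2' - (x.c + c0 q x.a - x.a ^ (q + 1)) * (two0 (F := F))⟩)
  invFun p := ⟨p.1, p.2.1 + c0 q p.1, by
    rw [addq, p.2.2]
    have h2' := c0_spec (q := q) p.1
    linear_combination h2' + p.2.1 * (two0 (F := F))⟩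
  left_inv x := by
    apply UU.ext
    · rfl
    · change x.c + c0 q x.a + c0 q x.a = x.c
      linear_combination c0 q x.a * (two0 (F := F))
  right_inv p := by
    apply Prod.ext
    · rfl
    · apply Subtype.ext
      change p.2.1 + c0 q p.1 + c0 q p.1 = p.2.1
      linear_combination c0 q p.1 * (two0 (F := F))

theorem card_UU : Nat.card (UU F q) = q ^ 3 := by
  rw [Nat.card_congr equivProd, Nat.card_prod, card_fix, Nat.card_eq_fintype_card, hF.out]
  ring

instance : Finite (UU F q) := Nat.finite_of_card_ne_zero (by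
  rw [card_UU]; exact pow_ne_zero _ (q0 F))

/-! ### centre, squares, commutators -/

theorem mul_comm_iff (x y : UU F q) : x * y = y * x ↔ x.a ^ q * y.a = y.a ^ q * x.a := by
  constructor
  · intro h
    have := congrArg UU.c h
    simp only [mul_c] at this
    linear_combination this
  · intro h
    apply UU.ext
    · simp only [mul_a]; ring
    · simp only [mul_c]; linear_combination h

theorem mem_center_iff (x : UU F q) : x ∈ Subgroup.center (UU F q) ↔ x.a = 0 := by
  rw [Subgroup.mem_center_iff]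
  constructor
  · intro h
    by_contra hx
    obtain ⟨t, ht⟩ := exists_not_fixed (F := F) (q := q)
    have h1 := (mul_comm_iff (lift q (t / x.a ^ q)) x).mp (h _)
    rw [lift_a] at h1
    apply ht
    have hxq : x.a ^ q ≠ 0 := pow_ne_zero _ hx
    rw [div_pow, qq] at h1
    have e1 : t ^ q / x.a * x.a = t ^ q := div_mul_cancel₀ _ hx
    have e2 : x.a ^ q * (t / x.a ^ q) = t := mul_div_cancel₀ _ hxq
    rw [e1, e2] at h1
    exact h1
  · intro hx y
    rw [mul_comm_iff, hx]
    simp [q0 F (q := q)]

theorem mul_self_a (x : UU F q) : (x * x).a = 0 := add_self0 _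

theorem mul_self_c (x : UU F q) : (x * x).c = x.a ^ (q + 1) := by
  rw [mul_c, pow_succ]; linear_combination x.c * (two0 (F := F))

theorem mul_self_eq_one_iff (x : UU F q) : x * x = 1 ↔ x.a = 0 := by
  constructor
  · intro h
    have := congrArg UU.c h
    rw [mul_self_c, one_c] at this
    exact pow_eq_zero_iff (by omega) |>.mp this
  · intro h
    apply UU.ext
    · exact mul_self_a x
    · rw [mul_self_c, h, one_c, zero_pow (by omega)]

theorem mul_self_mem_center (x : UU F q) : x * x ∈ Subgroup.center (UU F q) :=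
  (mem_center_iff _).mpr (mul_self_a x)

theorem pow_four (x : UU F q) : x ^ 4 = 1 := by
  have : x ^ 4 = (x * x) * (x * x) := by simp [pow_succ, mul_assoc]
  rw [this, mul_self_eq_one_iff]
  exact mul_self_a x

theorem orderOf_eq_two_iff' (x : UU F q) : orderOf x = 2 ↔ x ≠ 1 ∧ x.a = 0 := by
  rw [← mul_self_eq_one_iff]
  constructor
  · intro h
    refine ⟨fun h1 => ?_, ?_⟩
    · rw [h1, orderOf_one] at h; omega
    · rw [← pow_two, ← h, pow_orderOf_eq_one]
  · rintro ⟨h1, h2'⟩
    exact orderOf_eq_prime (by rw [pow_two]; exact h2') h1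

theorem commutator_a (x y : UU F q) : ⁅x, y⁆.a = 0 := by
  rw [commutatorElement_def]
  simp only [mul_a, inv_a]
  linear_combination (x.a + y.a) * (two0 (F := F))

theorem commutator_mem_center (x y : UU F q) : ⁅x, y⁆ ∈ Subgroup.center (UU F q) :=
  (mem_center_iff _).mpr (commutator_a x y)

theorem exists_commutator_eq {z : UU F q} (hz : z.a = 0) : ∃ x y : UU F q, ⁅x, y⁆ = z := by
  obtain ⟨e, he⟩ := exists_trace (q := q) z.c (c_fixed hz)
  refine ⟨lift q 1, lift q e, ?_⟩
  have key : lift q 1 * lift q e = z * (lift q e * lift q 1) := by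
    apply UU.ext
    · simp only [mul_a, lift_a, hz]; ring
    · simp only [mul_c, mul_a, lift_a, hz, one_pow]
      rw [zero_pow (q0 F)]
      linear_combination he - e ^ q * (two0 (F := F))
  rw [commutatorElement_def, key]
  group

theorem card_center : Nat.card (Subgroup.center (UU F q)) = q := by
  refine (Nat.card_congr ?_).trans (card_fix (F := F) (q := q))
  refine ⟨fun x => ⟨x.1.c, c_fixed ((mem_center_iff _).mp x.2)⟩,
    fun c => ⟨zz c.1 c.2, (mem_center_iff _).mpr rfl⟩, ?_, ?_⟩
  · intro x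
    apply Subtype.ext
    exact (eq_zz ((mem_center_iff _).mp x.2)).symm
  · intro c
    rfl

theorem exists_not_comm : ∃ x y : UU F q, x * y ≠ y * x := by
  by_contra hcon
  push Not at hcon
  have h1 : lift q (1 : F) ∈ Subgroup.center (UU F q) := by
    rw [Subgroup.mem_center_iff]
    intro y
    exact hcon y _
  rw [mem_center_iff, lift_a] at h1
  exact one_ne_zero h1


/-! ### automorphisms -/

theorem sq_inj {x y : F} (h : x ^ 2 = y ^ 2) : x = y := by
  have h1 : (x + y) ^ 2 = 0 := by
    linear_combination h + (x * y + y ^ 2) * (two0 (F := F))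
  exact eq_of_add_eq_zero (pow_eq_zero_iff (by norm_num) |>.mp h1)

theorem exists_sqrt (r : F) : ∃ m : F, m ^ 2 = r := by
  have : CharP F 2 := CharTwo.of_one_ne_zero_of_two_eq_zero one_ne_zero two0
  obtain ⟨m, hm⟩ := FiniteField.isSquare_of_char_two (ringChar.eq F 2) r
  exact ⟨m, by rw [hm, pow_two]⟩

/-- the map `(a, c) ↦ (l a, l ^ (q + 1) c)` -/
def scalFun (l : F) (x : UU F q) : UU F q := ⟨l * x.a, l ^ (q + 1) * x.c, by
  rw [mul_pow, normq, mul_pow, ← x.h]; ring⟩

@[simp] theorem scalFun_a (l : F) (x : UU F q) : (scalFun l x).a = l * x.a := rfl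
@[simp] theorem scalFun_c (l : F) (x : UU F q) : (scalFun l x).c = l ^ (q + 1) * x.c := rfl

def scal (l : Fˣ) : MulAut (UU F q) where
  toFun := scalFun (l : F)
  invFun := scalFun ((l⁻¹ : Fˣ) : F)
  left_inv x := by
    apply UU.ext
    · simp
    · simp only [scalFun_c]
      rw [← mul_assoc, ← mul_pow]; simp
  right_inv x := by
    apply UU.ext
    · simp
    · simp only [scalFun_c]
      rw [← mul_assoc, ← mul_pow]; simp
  map_mul' x y := by
    apply UU.ext
    · simp only [scalFun_a, mul_a]; ring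
    · simp only [scalFun_c, scalFun_a, mul_c]; ring

@[simp] theorem scal_apply (l : Fˣ) (x : UU F q) : scal l x = scalFun (l : F) x := rfl

def scalHom : Fˣ →* MulAut (UU F q) where
  toFun := scal
  map_one' := by
    ext x
    · simp
    · simp
  map_mul' l m := by
    ext x
    · simp [mul_assoc]
    · simp [mul_pow, mul_assoc]

/-- the units of the fixed field -/
def fixU (F : Type*) [Field F] (q : ℕ) : Subgroup Fˣ where
  carrier := {l | (l : F) ^ q = l}
  mul_mem' {a b} ha hb := by
    simp only [Set.mem_ofPred_eq, Units.val_mul, mul_pow] at *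
    rw [ha, hb]
  one_mem' := by simp
  inv_mem' {a} ha := by
    simp only [Set.mem_ofPred_eq, Units.val_inv_eq_inv_val, inv_pow] at *
    rw [ha]

/-- the cyclic group of automorphisms acting regularly on the involutions -/
def KK (F : Type*) [Field F] [Fintype F] (q : ℕ) [Fact (Fintype.card F = q ^ 2)]
    [Fact ((2 : F) = 0)] : Subgroup (MulAut (UU F q)) := (fixU F q).map scalHom

theorem isCyclic_KK : IsCyclic (KK F q) :=
  isCyclic_of_surjective (scalHom.subgroupMap (fixU F q)) (scalHom.subgroupMap_surjective _)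

theorem regular_KK (x y : UU F q) (hx1 : x ≠ 1) (hx : x * x = 1) (hy1 : y ≠ 1) (hy : y * y = 1) :
    ∃! k : KK F q, (k : MulAut (UU F q)) x = y := by
  rw [mul_self_eq_one_iff] at hx hy
  have hxc : x.c ≠ 0 := fun h => hx1 (UU.ext hx h)
  have hyc : y.c ≠ 0 := fun h => hy1 (UU.ext hy h)
  obtain ⟨m, hm⟩ := exists_sqrt (y.c / x.c)
  have hm0 : m ≠ 0 := by
    rintro rfl
    rw [zero_pow (by norm_num)] at hm
    exact div_ne_zero hyc hxc hm.symm
  have hmq : m ^ q = m := by
    apply sq_inj
    rw [← pow_mul, mul_comm, pow_mul, hm, div_pow, c_fixed hx, c_fixed hy]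
  have key : ∀ l : F, l ^ q = l → (scalFun l x = y ↔ l ^ 2 = y.c / x.c) := by
    intro l hl
    constructor
    · intro h
      have := congrArg UU.c h
      rw [scalFun_c, pow_succ, hl] at this
      rw [eq_div_iff hxc, ← this]; ring
    · intro h
      rw [eq_div_iff hxc] at h
      apply UU.ext
      · rw [scalFun_a, hx, hy, mul_zero]
      · rw [scalFun_c, pow_succ, hl, ← h]; ring
  refine ⟨⟨scalHom (Units.mk0 m hm0), ⟨Units.mk0 m hm0, hmq, rfl⟩⟩, (key m hmq).mpr hm, ?_⟩
  rintro ⟨_, l, hl, rfl⟩ hk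
  apply Subtype.ext
  have h1 := (key (l : F) hl).mp hk
  have h2' : (l : F) = m := sq_inj (h1.trans hm.symm)
  change scalHom l = scalHom (Units.mk0 m hm0)
  congr 1
  exact Units.ext h2'

theorem exists_two_involutions (hq : 3 ≤ q) :
    ∃ x y : UU F q, x ≠ y ∧ x ≠ 1 ∧ x * x = 1 ∧ y ≠ 1 ∧ y * y = 1 := by
  classical
  have h1 := Cfsg.Agent.Lib.Helper5.card_fixed_ne_zero (F := F) hF.out
  have h3 : 1 < ((Finset.univ.erase (0 : F)).filter (fun c => c ^ q = c)).card := by omega
  obtain ⟨a, ha, b, hb, hab⟩ := Finset.one_lt_card.mp h3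
  simp only [Finset.mem_filter, Finset.mem_erase, Finset.mem_univ, and_true] at ha hb
  refine ⟨zz a ha.2, zz b hb.2, fun h => hab (congrArg UU.c h), fun h => ha.1 (congrArg UU.c h),
    (mul_self_eq_one_iff _).mpr rfl, fun h => hb.1 (congrArg UU.c h), (mul_self_eq_one_iff _).mpr rfl⟩

theorem isPGroup_UU : IsPGroup 2 (UU F q) := fun x => ⟨2, by norm_num; exact pow_four x⟩

theorem isSuzuki_UU (hq : 3 ≤ q) : Cfsg.IsSuzukiTwoGroup (UU F q) :=
  ⟨inferInstance, isPGroup_UU, exists_not_comm, exists_two_involutions hq, KK F q, isCyclic_KK,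
    regular_KK⟩

omit [Fintype F] hF h2 in
/-- being a Suzuki 2-group is invariant under isomorphism -/
theorem isSuzuki_of_mulEquiv {A B : Type*} [Group A] [Group B] (e : A ≃* B)
    (h : Cfsg.IsSuzukiTwoGroup A) : Cfsg.IsSuzukiTwoGroup B := by
  obtain ⟨hfin, hp, ⟨x, y, hxy⟩, ⟨s, t, hst, hs1, hs, ht1, ht⟩, K, hK, hreg⟩ := h
  refine ⟨Finite.of_equiv A e.toEquiv, hp.of_equiv e, ⟨e x, e y, ?_⟩, ⟨e s, e t, ?_, ?_, ?_, ?_, ?_⟩,
    K.map (MulAut.congr e).toMonoidHom, ?_, ?_⟩
  · rw [← map_mul, ← map_mul]; exact fun h => hxy (e.injective h)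
  · exact fun h => hst (e.injective h)
  · exact fun h => hs1 (e.injective (h.trans (map_one e).symm))
  · rw [← map_mul, hs, map_one]
  · exact fun h => ht1 (e.injective (h.trans (map_one e).symm))
  · rw [← map_mul, ht, map_one]
  · exact isCyclic_of_surjective ((MulAut.congr e).toMonoidHom.subgroupMap K)
      ((MulAut.congr e).toMonoidHom.subgroupMap_surjective _)
  · intro u v hu1 hu hv1 hv
    obtain ⟨k, hk, huniq⟩ := hreg (e.symm u) (e.symm v)
      (fun h => hu1 (e.symm.injective (h.trans (map_one e.symm).symm)))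
      (by rw [← map_mul, hu, map_one])
      (fun h => hv1 (e.symm.injective (h.trans (map_one e.symm).symm)))
      (by rw [← map_mul, hv, map_one])
    refine ⟨⟨MulAut.congr e k, ⟨k, k.2, rfl⟩⟩, ?_, ?_⟩
    · change e ((k : MulAut A) (e.symm u)) = v
      rw [hk]; simp
    · rintro ⟨_, k', hk', rfl⟩ hkk
      apply Subtype.ext
      change MulAut.congr e k' = MulAut.congr e k
      have h1 : e (k' (e.symm u)) = v := hkk
      have h2 : (⟨k', hk'⟩ : K) = k := huniq ⟨k', hk'⟩ (by
        change k' (e.symm u) = e.symm v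
        rw [← h1]; simp)
      rw [← h2]

end Cfsg.Agent.Lib.Helper20.U3Syl
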