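import Mathlib
import Cfsg.Agent.Lib.Helper20.U3Syl

/-!
# Automorphisms of the Sylow 2-subgroup of `PSU₃(q)`
-/

set_option autoImplicit false
set_option linter.unusedSectionVars false

namespace Cfsg.Agent.Lib.Helper20.U3Syl

variable {F : Type*} [Field F] [Fintype F] {q : ℕ} [hF : Fact (Fintype.card F = q ^ 2)]
  [h2 : Fact ((2 : F) = 0)]

theorem aut_a_eq_zero (φ : MulAut (UU F q)) {x : UU F q} (hx : x.a = 0) : (φ x).a = 0 := by
  rw [← mem_center_iff, Subgroup.mem_center_iff] at hx ⊢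
  intro y
  obtain ⟨y', rfl⟩ := φ.surjective y
  rw [← map_mul, ← map_mul, hx y']

/-- the additive map induced on the first coordinate -/
noncomputable def AA (φ : MulAut (UU F q)) (a : F) : F := (φ (lift q a)).a

theorem aut_a (φ : MulAut (UU F q)) (x : UU F q) : (φ x).a = AA φ x.a := by
  have h1 : x = lift q x.a * ((lift q x.a)⁻¹ * x) := by group
  have h3 : ((lift q x.a)⁻¹ * x).a = 0 := by
    rw [mul_a, inv_a, lift_a]; exact add_self0 _
  conv_lhs => rw [h1]
  rw [map_mul, mul_a, aut_a_eq_zero φ h3, add_zero]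
  rfl

theorem AA_add (φ : MulAut (UU F q)) (a b : F) : AA φ (a + b) = AA φ a + AA φ b := by
  have h1 := aut_a φ (lift q a * lift q b)
  rw [map_mul, mul_a, mul_a, lift_a, lift_a] at h1
  exact h1.symm

theorem AA_mul (φ ψ : MulAut (UU F q)) (a : F) : AA (φ * ψ) a = AA φ (AA ψ a) := by
  change (φ (ψ (lift q a))).a = _
  rw [aut_a φ]
  rfl

theorem AA_one (a : F) : AA (1 : MulAut (UU F q)) a = a := rfl

theorem AA_zero (φ : MulAut (UU F q)) : AA φ 0 = 0 := by
  have := AA_add φ 0 0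
  rw [add_zero] at this
  linear_combination -this

/-- the norm relation -/
theorem aut_sq_c (φ : MulAut (UU F q)) (x : UU F q) : (φ (x * x)).c = (AA φ x.a) ^ (q + 1) := by
  rw [map_mul, mul_self_c, aut_a]

theorem aut_sq_eq_iff (φ : MulAut (UU F q)) (x : UU F q) :
    φ (x * x) = x * x ↔ (AA φ x.a) ^ (q + 1) = x.a ^ (q + 1) := by
  constructor
  · intro h
    rw [← aut_sq_c, h, mul_self_c]
  · intro h
    apply UU.ext
    · rw [aut_a_eq_zero φ (mul_self_a x), mul_self_a]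
    · rw [aut_sq_c, h, mul_self_c]

/-! ### the case `q = 4` -/

theorem alg5 {a b : F} (ha : a ≠ 0) (hb : b ≠ 0) (hab : a ≠ b) (h1 : a ^ 5 = b ^ 5)
    (h3 : (a + b) ^ 5 = a ^ 5) : False := by
  have t := two0 (F := F)
  have hs : a + b ≠ 0 := fun h => hab (eq_of_add_eq_zero h)
  have e1 : b * (a ^ 4 + a * b ^ 3 + b ^ 4) = 0 := by
    linear_combination h3 - (2 * a ^ 4 * b + 5 * a ^ 3 * b ^ 2 + 5 * a ^ 2 * b ^ 3 + 2 * a * b ^ 4) * t
  have e2 : (a + b) * (a ^ 4 + a ^ 3 * b + a ^ 2 * b ^ 2 + a * b ^ 3 + b ^ 4) = 0 := by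
    linear_combination h1 + (a ^ 4 * b + a ^ 3 * b ^ 2 + a ^ 2 * b ^ 3 + a * b ^ 4 + b ^ 5) * t
  have e1' := (mul_eq_zero.mp e1).resolve_left hb
  have e2' := (mul_eq_zero.mp e2).resolve_left hs
  have e3 : a ^ 2 * b * (a + b) = 0 := by
    linear_combination e2' + e1' - (a ^ 4 + a * b ^ 3 + b ^ 4) * t
  have : a ^ 2 * b * (a + b) ≠ 0 := mul_ne_zero (mul_ne_zero (pow_ne_zero _ ha) hb) hs
  exact this e3

theorem fix4 {c c' d : F} (hc : c ≠ 0) (hc' : c' ≠ 0) (hcc : c ≠ c') (h : c ^ 4 = c)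
    (h' : c' ^ 4 = c') (hd : d ^ 4 = d) : d = 0 ∨ d = c ∨ d = c' ∨ d = c + c' := by
  have t := two0 (F := F)
  have hs : c + c' ≠ 0 := fun h => hcc (eq_of_add_eq_zero h)
  -- c^2 + c c' + c'^2 = 0
  have e1 : c ^ 3 = c' ^ 3 := by
    have a1 : c * (c ^ 3 - 1) = 0 := by linear_combination h
    have a2 : c' * (c' ^ 3 - 1) = 0 := by linear_combination h'
    have b1 := (mul_eq_zero.mp a1).resolve_left hc
    have b2 := (mul_eq_zero.mp a2).resolve_left hc'
    linear_combination b1 - b2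
  have e0 : c ^ 3 = 1 := by
    have a1 : c * (c ^ 3 - 1) = 0 := by linear_combination h
    have b1 := (mul_eq_zero.mp a1).resolve_left hc
    linear_combination b1
  have e2 : (c + c') * (c ^ 2 + c * c' + c' ^ 2) = 0 := by
    linear_combination e1 + (c ^ 2 * c' + c * c' ^ 2 + c' ^ 3) * t
  have e3 := (mul_eq_zero.mp e2).resolve_left hs
  have key : d * (d + c) * (d + c') * (d + c + c') = 0 := by
    have : d * (d + c) * (d + c') * (d + c + c') = d ^ 4 + d * (c ^ 2 * c' + c * c' ^ 2)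
        + (d ^ 2) * (c ^ 2 + c * c' + c' ^ 2) + (d ^ 3 * (c + c') + d ^ 2 * c * c') * 2 := by ring
    rw [this, e3, t, hd]
    have e4 : c ^ 2 * c' + c * c' ^ 2 = 1 := by
      linear_combination c * e3 - e0 - t
    rw [e4]
    linear_combination d * t
  rcases mul_eq_zero.mp key with k | k
  · rcases mul_eq_zero.mp k with k | k
    · rcases mul_eq_zero.mp k with k | k
      · exact Or.inl k
      · exact Or.inr (Or.inl (eq_of_add_eq_zero k))
    · exact Or.inr (Or.inr (Or.inl (eq_of_add_eq_zero k)))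
  · right; right; right
    apply eq_of_add_eq_zero
    linear_combination k


section four

variable {F : Type*} [Field F] [Fintype F] [hF : Fact (Fintype.card F = 4 ^ 2)]
  [h2 : Fact ((2 : F) = 0)]

theorem rho_moves_center (ρ : MulAut (UU F 4)) (h3 : ρ ^ 3 = 1) (h1 : ρ ≠ 1) :
    ∃ z : UU F 4, z.a = 0 ∧ ρ z ≠ z := by
  by_contra hcon
  push Not at hcon
  have t := two0 (F := F)
  have hcube : ∀ x, ρ (ρ (ρ x)) = x := by
    intro x
    have : (ρ ^ 3) x = x := by rw [h3]; rfl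
    exact this
  by_cases hA : ∀ a, AA ρ a = a
  · apply h1
    ext x : 1
    change ρ x = x
    set z := x⁻¹ * ρ x with hz
    have hza : z.a = 0 := by
      rw [hz, mul_a, inv_a, aut_a, hA]; exact add_self0 _
    have e1 : ρ x = x * z := by rw [hz]; group
    have e2 : ρ (ρ x) = x := by
      rw [e1, map_mul, hcon z hza, e1, mul_assoc, (mul_self_eq_one_iff z).mpr hza, mul_one]
    have e3 := hcube x
    rw [e2] at e3
    exact e3
  · push Not at hA
    obtain ⟨w, hw⟩ := hA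
    have hA3 : ∀ a, AA ρ (AA ρ (AA ρ a)) = a := by
      intro a
      have : AA (ρ ^ 3) a = a := by rw [h3]; rfl
      rw [pow_succ, pow_two, AA_mul, AA_mul] at this
      exact this
    have hN : ∀ a, (AA ρ a) ^ 5 = a ^ 5 := by
      intro a
      have := (aut_sq_eq_iff ρ (lift 4 a)).mp (hcon _ (mul_self_a _))
      exact this
    set v := w + AA ρ w with hv
    have hv0 : v ≠ 0 := fun h => hw (eq_of_add_eq_zero h).symm
    have hsum : v + AA ρ v + AA ρ (AA ρ v) = 0 := by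
      rw [hv, AA_add, AA_add, hA3]
      linear_combination (w + AA ρ w + AA ρ (AA ρ w)) * t
    have hAv0 : AA ρ v ≠ 0 := by
      intro h
      have := hN v
      rw [h, zero_pow (by norm_num)] at this
      exact hv0 (pow_eq_zero_iff (by norm_num) |>.mp this.symm)
    have hne : v ≠ AA ρ v := by
      intro h
      rw [← h, ← h] at hsum
      apply hv0
      linear_combination hsum - v * t
    have hAAv : AA ρ (AA ρ v) = v + AA ρ v := (eq_of_add_eq_zero hsum).symm
    exact alg5 hv0 hAv0 hne (hN v).symm (by rw [← hAAv, hN, hN])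

theorem exists_fixed_pair (A : F → F) (hadd : ∀ a b, A (a + b) = A a + A b)
    (hinv : ∀ a, A (A a) = a) : ∃ v v' : F, v ≠ 0 ∧ v' ≠ 0 ∧ v ≠ v' ∧ A v = v ∧ A v' = v' := by
  classical
  have t := two0 (F := F)
  let f : F →+ F := AddMonoidHom.mk' (fun a => a + A a) (by
    intro a b
    rw [hadd]; ring)
  have hker : ∀ a, a ∈ f.ker ↔ A a = a := by
    intro a
    rw [AddMonoidHom.mem_ker]
    change a + A a = 0 ↔ _
    constructor
    · intro h; exact (eq_of_add_eq_zero h).symm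
    · intro h; rw [h]; exact add_self0 a
  have hle : f.range ≤ f.ker := by
    rintro _ ⟨a, rfl⟩
    rw [hker]
    change A (a + A a) = a + A a
    rw [hadd, hinv]; ring
  have h1 := AddSubgroup.card_eq_card_quotient_mul_card_addSubgroup f.ker
  rw [Nat.card_congr (QuotientAddGroup.quotientKerEquivRange f).toEquiv, Nat.card_eq_fintype_card,
    hF.out] at h1
  have h3 : Nat.card f.range ≤ Nat.card f.ker :=
    Nat.le_of_dvd Nat.card_pos (AddSubgroup.card_dvd_of_le hle)
  have h4 : 2 < Nat.card f.ker := by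
    by_contra hlt
    have h5 : Nat.card f.ker ≤ 2 := by omega
    have h6 : Nat.card f.range * Nat.card f.ker ≤ 2 * 2 := Nat.mul_le_mul (h3.trans h5) h5
    omega
  rw [Nat.card_eq_fintype_card, Fintype.two_lt_card_iff] at h4
  obtain ⟨a, b, c, hab, hac, hbc⟩ := h4
  have ha := (hker _).mp a.2
  have hb := (hker _).mp b.2
  have hc := (hker _).mp c.2
  refine ⟨a + b, a + c, ?_, ?_, ?_, by rw [hadd, ha, hb], by rw [hadd, ha, hc]⟩
  · intro h; exact hab (Subtype.ext (eq_of_add_eq_zero h))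
  · intro h; exact hac (Subtype.ext (eq_of_add_eq_zero h))
  · intro h; exact hbc (Subtype.ext (add_left_cancel h))

/-- the automorphism group of `UU F 4` has no subgroup `S₃` -/
theorem no_S3 (ρ τ : MulAut (UU F 4)) (h3 : ρ ^ 3 = 1) (h1 : ρ ≠ 1) (hτ : τ ^ 2 = 1)
    (hrel : τ * ρ * τ⁻¹ = ρ⁻¹) : False := by
  have t := two0 (F := F)
  obtain ⟨z₁, hz₁, hne₁⟩ := rho_moves_center ρ h3 h1
  have hcube : ∀ x, ρ (ρ (ρ x)) = x := by
    intro x
    have : (ρ ^ 3) x = x := by rw [h3]; rfl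
    exact this
  have hττ : ∀ x, τ (τ x) = x := by
    intro x
    have : (τ ^ 2) x = x := by rw [hτ]; rfl
    exact this
  -- `τ` moves some central element
  have hτZ : ∃ z : UU F 4, z.a = 0 ∧ τ z ≠ z := by
    by_contra hcon
    push Not at hcon
    apply hne₁
    have e1 : τ⁻¹ z₁ = z₁ := by
      rw [MulAut.inv_apply, MulEquiv.symm_apply_eq, hcon z₁ hz₁]
    have e2 : (τ * ρ * τ⁻¹) z₁ = ρ z₁ := by
      change τ (ρ (τ⁻¹ z₁)) = _
      rw [e1, hcon _ (aut_a_eq_zero ρ hz₁)]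
    rw [hrel, MulAut.inv_apply, MulEquiv.symm_apply_eq] at e2
    have e3 := hcube z₁
    rw [← e2] at e3
    exact e3
  obtain ⟨z₂, hz₂, hne₂⟩ := hτZ
  -- fixed central involutions coincide
  have huniq : ∀ z z' : UU F 4, z.a = 0 → z'.a = 0 → z ≠ 1 → z' ≠ 1 → τ z = z → τ z' = z' →
      z = z' := by
    intro z z' hz hz' hz1 hz1' hf hf'
    by_contra hzz
    apply hne₂
    have hc : z.c ≠ 0 := fun h => hz1 (UU.ext hz h)
    have hc' : z'.c ≠ 0 := fun h => hz1' (UU.ext hz' h)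
    have hcc : z.c ≠ z'.c := fun h => hzz (UU.ext (hz.trans hz'.symm) h)
    rcases fix4 hc hc' hcc (c_fixed hz) (c_fixed hz') (c_fixed hz₂) with h | h | h | h
    · have : z₂ = 1 := UU.ext hz₂ h
      rw [this, map_one]
    · have : z₂ = z := UU.ext (hz₂.trans hz.symm) h
      rw [this, hf]
    · have : z₂ = z' := UU.ext (hz₂.trans hz'.symm) h
      rw [this, hf']
    · have : z₂ = z * z' := UU.ext (by rw [mul_a, hz, hz', hz₂, add_zero])
        (by rw [mul_c, hz, h]; simp)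
      rw [this, map_mul, hf, hf']
  obtain ⟨v, v', hv, hv', hvv, hAv, hAv'⟩ := exists_fixed_pair (AA τ) (AA_add τ) (by
    intro a
    have : AA (τ ^ 2) a = a := by rw [hτ]; rfl
    rw [pow_two, AA_mul] at this
    exact this)
  have key : ∀ u : F, u ≠ 0 → AA τ u = u →
      (lift 4 u * lift 4 u).a = 0 ∧ lift 4 u * lift 4 u ≠ 1 ∧
        τ (lift 4 u * lift 4 u) = lift 4 u * lift 4 u := by
    intro u hu hAu
    refine ⟨mul_self_a _, ?_, ?_⟩
    · intro h
      rw [mul_self_eq_one_iff, lift_a] at h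
      exact hu h
    · rw [aut_sq_eq_iff, lift_a, hAu]
  have hs : v + v' ≠ 0 := fun h => hvv (eq_of_add_eq_zero h)
  obtain ⟨a1, b1, c1⟩ := key v hv hAv
  obtain ⟨a2, b2, c2⟩ := key v' hv' hAv'
  obtain ⟨a3, b3, c3⟩ := key (v + v') hs (by rw [AA_add, hAv, hAv'])
  have e1 := congrArg UU.c (huniq _ _ a1 a2 b1 b2 c1 c2)
  have e2 := congrArg UU.c (huniq _ _ a3 a1 b3 b1 c3 c1)
  rw [mul_self_c, mul_self_c, lift_a, lift_a] at e1 e2
  exact alg5 hv hv' hvv e1 e2

end four

end Cfsg.Agent.Lib.Helper20.U3Syl
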