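import Mathlib
import Cfsg.Agent.Lib.Helper20.U3Syl
import Cfsg.Agent.Lib.Helper5.SUCenter
import Cfsg.Agent.S0280

/-!
# The Sylow 2-subgroup of `PSU₃(q)`, `q` even: the embedding
-/

set_option autoImplicit false
set_option linter.unusedSectionVars false

namespace Cfsg.Agent.Lib.Helper20.U3Syl

open Cfsg.Agent.Lib.Helper13 Cfsg.Agent.Lib.Helper5 Matrix
open scoped commutatorElement

variable {F : Type*} [Field F] [Fintype F] {q : ℕ} [hF : Fact (Fintype.card F = q ^ 2)]
  [h2 : Fact ((2 : F) = 0)]

/-- the matrix of `(a, c)` -/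
def MM (q : ℕ) (a c : F) : Matrix (Fin 3) (Fin 3) F :=
  !![1 + c, c, a ^ q; c, 1 + c, a ^ q; a, a, 1]

theorem MM_det (a c : F) : (MM q a c).det = 1 := by
  rw [MM, Matrix.det_fin_three]
  simp
  linear_combination (c - a ^ q * a) * (two0 (F := F))

theorem MM_mul (a c a' c' : F) :
    MM q a c * MM q a' c' = MM q (a + a') (c + c' + a ^ q * a') := by
  have t := two0 (F := F)
  ext i j
  fin_cases i <;> fin_cases j <;>
    simp [MM, Matrix.mul_apply, Fin.sum_univ_three, addq]
  · linear_combination (c * c') * t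
  · linear_combination (c * c') * t
  · linear_combination (c * a' ^ q) * t
  · linear_combination (c * c') * t
  · linear_combination (c * c') * t
  · linear_combination (c * a' ^ q) * t
  · linear_combination (a * c') * t
  · linear_combination (a * c') * t
  · linear_combination (a * a' ^ q) * t

theorem MM_preserves {a c : F} (h : c + c ^ q = a ^ (q + 1)) :
    (MM q a c)ᵀ * (MM q a c).map (· ^ q) = 1 := by
  have t := two0 (F := F)
  rw [pow_succ] at h
  ext i j
  fin_cases i <;> fin_cases j <;>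
    simp [MM, Matrix.mul_apply, Fin.sum_univ_three, addq, qq]
  · linear_combination h + (c * c ^ q + a ^ q * a) * t
  · linear_combination h + (c * c ^ q + a ^ q * a) * t
  · linear_combination (c * a + a) * t
  · linear_combination h + (c * c ^ q + a ^ q * a) * t
  · linear_combination h + (c * c ^ q + a ^ q * a) * t
  · linear_combination (c * a + a) * t
  · linear_combination (a ^ q * c ^ q + a ^ q) * t
  · linear_combination (a ^ q * c ^ q + a ^ q) * t
  · linear_combination (a ^ q * a) * t

/-- the embedding into `SU₃(q)` -/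
def toSU : UU F q →* Cfsg.SU 3 F q := MonoidHom.mk'
  (fun x => mkSU (MM q x.a x.c) (MM_det _ _) ((preserves_hermForm_iff hF.out _).mpr (MM_preserves x.h)))
  (by
    intro x y
    apply SU_ext
    rw [SU_mul_coe]
    exact (MM_mul _ _ _ _).symm)

theorem toSU_coe (x : UU F q) : (toSU x).1.1 = MM q x.a x.c := rfl

theorem toSU_injective : Function.Injective (toSU : UU F q →* Cfsg.SU 3 F q) := by
  intro x y h
  have h1 : MM q x.a x.c = MM q y.a y.c := by rw [← toSU_coe, ← toSU_coe, h]
  apply UU.ext
  · have := congrFun (congrFun h1 2) 0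
    simpa [MM] using this
  · have := congrFun (congrFun h1 0) 1
    simpa [MM] using this


/-- the embedding into `PSU₃(q)` -/
def toPSU : UU F q →* Cfsg.PSU 3 F q :=
  (QuotientGroup.mk' (Subgroup.center (Cfsg.SU 3 F q))).comp toSU

theorem toPSU_injective : Function.Injective (toPSU : UU F q →* Cfsg.PSU 3 F q) := by
  rw [injective_iff_map_eq_one]
  intro x hx
  have h1 : toSU x ∈ Subgroup.center (Cfsg.SU 3 F q) := (QuotientGroup.eq_one_iff _).mp hx
  have h3 : orderOf (toSU x) ∣ 3 :=
    (Subgroup.orderOf_dvd_natCard _ h1).trans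
      (by rw [card_center_SU hF.out (by norm_num)]; exact Nat.gcd_dvd_left _ _)
  have h4 : orderOf (toSU x) ∣ 4 := orderOf_dvd_of_pow_eq_one (by rw [← map_pow, pow_four, map_one])
  have h5 : orderOf (toSU x) ∣ 1 := by
    have := Nat.dvd_gcd h3 h4
    simpa using this
  have h6 : toSU x = 1 := orderOf_eq_one_iff.mp (Nat.dvd_one.mp h5)
  exact toSU_injective (h6.trans (map_one _).symm)

theorem exists_equiv (hq : Even q) (S : Sylow 2 (Cfsg.PSU 3 F q)) :
    Nonempty (UU F q ≃* (S : Subgroup (Cfsg.PSU 3 F q))) := by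
  have : Fact (Nat.Prime 2) := ⟨Nat.prime_two⟩
  have hq2 := two_le_of_card_sq hF.out
  set R : Subgroup (Cfsg.PSU 3 F q) := (toPSU : UU F q →* Cfsg.PSU 3 F q).range with hR
  have e1 : UU F q ≃* R := MonoidHom.ofInjective toPSU_injective
  have hcard : Nat.card R = q ^ 3 := by rw [← Nat.card_congr e1.toEquiv, card_UU]
  have hp : IsPGroup 2 R := isPGroup_UU.of_equiv e1
  have hidx : ¬ 2 ∣ R.index := by
    intro hdvd
    have h1 := Cfsg.Agent.S0280.result (F := F) hF.out 3 (by norm_num)
    rw [← Subgroup.card_mul_index R, hcard] at h1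
    have h2' : ∏ i ∈ Finset.range 3, (if Even i then q ^ (i + 1) + 1 else q ^ (i + 1) - 1)
        = (q + 1) * (q ^ 2 - 1) * (q ^ 3 + 1) := by
      simp [Finset.prod_range_succ]
    rw [h2'] at h1
    have h3 : Nat.gcd 3 (q + 1) * R.index = (q ^ 2 - 1) * (q ^ 3 + 1) := by
      have h4 : (q ^ 3 * (q + 1)) * (Nat.gcd 3 (q + 1) * R.index)
          = (q ^ 3 * (q + 1)) * ((q ^ 2 - 1) * (q ^ 3 + 1)) := by
        have e : (3 * (3 - 1) / 2) = 3 := by norm_num
        rw [e] at h1
        calc (q ^ 3 * (q + 1)) * (Nat.gcd 3 (q + 1) * R.index)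
            = Nat.gcd 3 (q + 1) * ((q + 1) * (q ^ 3 * R.index)) := by ring
          _ = q ^ 3 * ((q + 1) * (q ^ 2 - 1) * (q ^ 3 + 1)) := h1
          _ = _ := by ring
      exact Nat.eq_of_mul_eq_mul_left (by positivity) h4
    have h5 : 2 ∣ (q ^ 2 - 1) * (q ^ 3 + 1) := by rw [← h3]; exact Dvd.dvd.mul_left hdvd _
    obtain ⟨k, rfl⟩ := hq
    have o1 : Odd ((k + k) ^ 2 - 1) := by
      have : (k + k) ^ 2 = 2 * (2 * k * k - 1) + 2 := by
        have hk : 1 ≤ k := by omega
        obtain ⟨j, rfl⟩ : ∃ j, k = j + 1 := ⟨k - 1, by omega⟩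
        have : 2 * (j + 1) * (j + 1) - 1 = 2 * j * j + 4 * j + 1 := by
          have : 2 * (j + 1) * (j + 1) = 2 * j * j + 4 * j + 1 + 1 := by ring
          omega
        rw [this]; ring
      rw [this]
      exact ⟨2 * k * k - 1, by omega⟩
    have o2 : Odd ((k + k) ^ 3 + 1) := ⟨4 * k ^ 3, by ring⟩
    have := (o1.mul o2)
    rw [← Nat.not_even_iff_odd] at this
    exact this (even_iff_two_dvd.mpr h5)
  let P₀ : Sylow 2 (Cfsg.PSU 3 F q) := hp.toSylow hidx
  have e2 : (P₀ : Subgroup (Cfsg.PSU 3 F q)) ≃* (S : Subgroup (Cfsg.PSU 3 F q)) := Sylow.equiv P₀ S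
  exact ⟨e1.trans e2⟩


/-! ### properties of a group isomorphic to `UU F q` -/

section props

variable {P : Type*} [Group P] (e : UU F q ≃* P)
include e

theorem mem_center_equiv (u : UU F q) : e u ∈ Subgroup.center P ↔ u.a = 0 := by
  rw [← mem_center_iff, Subgroup.mem_center_iff, Subgroup.mem_center_iff]
  constructor
  · intro h y
    apply e.injective
    rw [map_mul, map_mul]
    exact h (e y)
  · intro h y
    obtain ⟨v, rfl⟩ := e.surjective y
    rw [← map_mul, ← map_mul, h v]

theorem card_P : Nat.card P = q ^ 3 := by rw [← Nat.card_congr e.toEquiv, card_UU]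

theorem card_center_P : Nat.card (Subgroup.center P) = q := by
  refine (Nat.card_congr ?_).trans (card_center (F := F) (q := q))
  refine ⟨fun z => ⟨e.symm z.1, ?_⟩, fun u => ⟨e u.1, ?_⟩, ?_, ?_⟩
  · rw [mem_center_iff, ← mem_center_equiv e]; simp
  · rw [mem_center_equiv, ← mem_center_iff]; exact u.2
  · intro z; simp
  · intro u; simp

theorem sq_mem_center_P (x : P) : x ^ 2 ∈ Subgroup.center P := by
  obtain ⟨u, rfl⟩ := e.surjective x
  rw [← map_pow, mem_center_equiv, pow_two]
  exact mul_self_a u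

theorem sq_eq_one_of_mem_center_P {z : P} (hz : z ∈ Subgroup.center P) : z ^ 2 = 1 := by
  obtain ⟨u, rfl⟩ := e.surjective z
  rw [mem_center_equiv] at hz
  rw [← map_pow, pow_two, (mul_self_eq_one_iff u).mpr hz, map_one]

theorem orderOf_eq_two_iff_P (x : P) : orderOf x = 2 ↔ x ≠ 1 ∧ x ∈ Subgroup.center P := by
  obtain ⟨u, rfl⟩ := e.surjective x
  rw [e.orderOf_eq, orderOf_eq_two_iff', mem_center_equiv]
  constructor
  · rintro ⟨h1, h⟩
    exact ⟨fun h' => h1 (e.injective (h'.trans (map_one e).symm)), h⟩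
  · rintro ⟨h1, h⟩
    exact ⟨fun h' => h1 (by rw [h', map_one]), h⟩

theorem center_eq_closure_P :
    Subgroup.center P = Subgroup.closure {x : P | orderOf x = 2} := by
  apply le_antisymm
  · intro z hz
    by_cases h1 : z = 1
    · rw [h1]; exact Subgroup.one_mem _
    · exact Subgroup.subset_closure ((orderOf_eq_two_iff_P e z).mpr ⟨h1, hz⟩)
  · rw [Subgroup.closure_le]
    intro x hx
    exact ((orderOf_eq_two_iff_P e x).mp hx).2

theorem center_eq_commutator_P : Subgroup.center P = commutator P := by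
  apply le_antisymm
  · intro z hz
    obtain ⟨u, rfl⟩ := e.surjective z
    rw [mem_center_equiv] at hz
    obtain ⟨x, y, rfl⟩ := exists_commutator_eq hz
    rw [map_commutatorElement, commutator_def]
    exact Subgroup.commutator_mem_commutator (Subgroup.mem_top _) (Subgroup.mem_top _)
  · rw [commutator_def, Subgroup.commutator_le]
    intro x _ y _
    obtain ⟨u, rfl⟩ := e.surjective x
    obtain ⟨v, rfl⟩ := e.surjective y
    rw [← map_commutatorElement, mem_center_equiv]
    exact commutator_a u v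

theorem card_quotient_P : Nat.card (P ⧸ Subgroup.center P) = q ^ 2 := by
  have h1 := Subgroup.card_eq_card_quotient_mul_card_subgroup (Subgroup.center P)
  rw [card_P e, card_center_P e] at h1
  have hq : 0 < q := Nat.pos_of_ne_zero (q0 F)
  have h3 : q ^ 2 * q = Nat.card (P ⧸ Subgroup.center P) * q := by rw [← h1]; ring
  exact (Nat.eq_of_mul_eq_mul_right hq h3).symm

theorem sq_quotient_P (x : P ⧸ Subgroup.center P) : x ^ 2 = 1 := by
  obtain ⟨p, rfl⟩ := QuotientGroup.mk'_surjective _ x
  rw [← map_pow]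
  exact (QuotientGroup.eq_one_iff _).mpr (sq_mem_center_P e p)

theorem isKleinFour_center_P (hq : q = 4) : IsKleinFour (Subgroup.center P) := by
  have hc : Nat.card (Subgroup.center P) = 4 := by rw [card_center_P e, hq]
  refine ⟨hc, ?_⟩
  have hdvd : Monoid.exponent (Subgroup.center P) ∣ 2 :=
    Monoid.exponent_dvd_of_forall_pow_eq_one (fun z => by
      apply Subtype.ext
      exact sq_eq_one_of_mem_center_P e z.2)
  rcases (Nat.dvd_prime Nat.prime_two).mp hdvd with h | h
  · rw [Monoid.exp_eq_one_iff] at h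
    rw [Nat.card_of_subsingleton (1 : Subgroup.center P)] at hc
    omega
  · exact h

end props

/-- characteristic two from the order -/
theorem two_eq_zero_of_card {F : Type*} [Field F] [Fintype F] {m : ℕ}
    (h : Fintype.card F = 2 ^ m) : (2 : F) = 0 := by
  have h1 : ((Fintype.card F : ℕ) : F) = 0 := Nat.cast_card_eq_zero F
  rw [h] at h1
  push_cast at h1
  exact pow_eq_zero_iff (by
    rintro rfl
    rw [pow_zero] at h
    have := Fintype.one_lt_card (α := F)
    omega) |>.mp h1

end Cfsg.Agent.Lib.Helper20.U3Syl
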